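import Cfsg.Agent.Mrg.Omega.NO3S.OneLine.Nat
import Cfsg.Agent.LieRecognition.FieldSemilinear
import Cfsg.Agent.Mrg.Omega.OM.PG.NoRad_m3
import Cfsg.Agent.Mrg.Omega.All.HOneKer_m3
import Mathlib.FieldTheory.Finite.Basic
import Mathlib.FieldTheory.Fixed
import Mathlib.Dynamics.PeriodicPts.Lemmas
import Mathlib.Tactic.Group
import Mathlib.Tactic.Ring
import Cfsg.Agent.FastGrp
import Cfsg.Agent.Prune
set_option linter.all false

section
prune_inst 0x7ff0fefb2ffcaddfdfff7e7ffff5dffc39d05fffefdffd4bffe8ebff57ff038425e5aba58de090fe4fd6629e00b87853f97ecb3fea6bdc7ffffd5ff45ffbee0fb5e7bd0871d68c340fbc0fff63f0778e7f3fffffffffffffffffffffffffffbeffffffffffff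

-- part: Mrg/Omega/NO3S/OneLine/OfP
section
prune_inst 0xe00048003122000000180000a0001c628200000200080000600000800dc18ca0a501a021b2301100180009444030006812440010000000000000000001180481000110028108a000200000000080000000000000000000000000000000000000000000000
set_option linter.all false
open scoped Cfsg.Agent.FastGrp

section


/-!
# LEMMA OL: the natural module `V_P` with `|Z| = q`

`n1_of_natP` : `V_P` natural and `|Z| = q` give `N1 S P ⊥ q`.
-/

set_option autoImplicit false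
set_option linter.unusedSectionVars false
set_option linter.unusedVariables false

namespace Cfsg.Agent.Omega.NO3S.OneLine

open Subgroup Cfsg Cfsg.Agent.ZN Cfsg.Agent.ZN.ChoiceBase Cfsg.Agent.Omega.MinPar
open Cfsg.Agent.ZN.ChoiceSit (Syl o2_le_syl)
open Cfsg.Agent.Omega.SQ1.Bau (mem_AA_of_comm zj_le_AA elem_comm elem_sq)
open Cfsg.Agent.PLocal.ElemAbSup Cfsg.Agent.PLocal.ThompsonJ
open Cfsg.Agent.MinSimple.VModule (zc_le zc_le_zl zl_le le_o2 le_normalizer_zl le_normalizer_o2)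
open Cfsg.Agent.Omega.SQ1.FFOne Cfsg.Agent.Lib.SL2Mat
open Cfsg.Agent.Omega.NatPair (ap ap_zero' ap_one' ap_one ap_mul ap_add ap_smul ext2 NatMod ap_inv_ap ap_ap_inv exists_ap_e
  ap_up_e)

universe u

variable {G : Type u} [Group G] {F : Type*} [Field F] {V P : Subgroup G}

/-- `V` in `↥P` -/
def modP (N : NatP F V P) (hVP : V ≤ P) : NatMod F (V.subgroupOf P) where
  e x := ⟨N.e x, hVP ((N.mem_iff _).2 ⟨x, rfl⟩)⟩
  e_add x y := Subtype.ext (N.e_add x y)
  e_inj x y h := N.e_inj (congrArg Subtype.val h)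
  mem_iff g := by
    rw [mem_subgroupOf, N.mem_iff]
    constructor
    · rintro ⟨x, hx⟩
      exact ⟨x, Subtype.ext hx⟩
    · rintro ⟨x, hx⟩
      exact ⟨x, congrArg Subtype.val hx⟩
  lift A := by
    obtain ⟨g, hg, h1⟩ := N.lift A
    exact ⟨⟨g, hg⟩, fun x => Subtype.ext (h1 x)⟩
  norm g _ h A hA := by
    obtain ⟨B, hB⟩ := N.norm g g.2 h A fun x => congrArg Subtype.val (hA x)
    exact ⟨B, fun x => Subtype.ext (hB x)⟩

/-- the coordinates of an element of `V` -/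
noncomputable def co (N : NatP F V P) (D : Matrix.SpecialLinearGroup (Fin 2) F) (g : G) : Fin 2 → F :=
  open Classical in if h : ∃ x, N.e x = g then ap D⁻¹ h.choose else 0

theorem co_e (N : NatP F V P) (D : Matrix.SpecialLinearGroup (Fin 2) F) (x : Fin 2 → F) :
    co N D (N.e x) = ap D⁻¹ x := by
  have h : ∃ y, N.e y = N.e x := ⟨x, rfl⟩
  rw [co, dif_pos h, N.e_inj h.choose_spec]

theorem e_zero (N : NatP F V P) : N.e 0 = 1 := by
  have := N.e_add 0 0
  rw [add_zero] at this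
  exact left_eq_mul.1 this

/-- the natural section with the basis `D` -/
noncomputable def secP (N : NatP F V P) (hPV : P ≤ normalizer (V : Set G))
    (D : Matrix.SpecialLinearGroup (Fin 2) F) : NatSec F P V ⊥ where
  π := co N D
  map_mul v hv w hw := by
    obtain ⟨x, rfl⟩ := (N.mem_iff v).1 hv
    obtain ⟨y, rfl⟩ := (N.mem_iff w).1 hw
    rw [← N.e_add, co_e, co_e, co_e, ap_add]
  V0V := bot_le
  ker v hv := by
    obtain ⟨x, rfl⟩ := (N.mem_iff v).1 hv
    rw [co_e, mem_bot]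
    constructor
    · intro h
      have h1 : ap D (ap D⁻¹ x) = ap D 0 := by rw [h]
      have h0 : ap D (0 : Fin 2 → F) = 0 := by
        have := ap_smul D 0 (0 : Fin 2 → F)
        rwa [zero_smul, zero_smul] at this
      rw [ap_ap_inv, h0] at h1
      rw [h1, e_zero]
    · intro h
      have h1 : x = 0 := N.e_inj (by rw [h, e_zero])
      rw [h1]
      have := ap_smul D⁻¹ 0 (0 : Fin 2 → F)
      rwa [zero_smul, zero_smul] at this
  surj x := ⟨N.e (ap D x), (N.mem_iff _).2 ⟨_, rfl⟩, by rw [co_e, ap_inv_ap]⟩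
  Vn h hh v hv := (mem_normalizer_iff.1 (hPV hh) v).1 hv
  V0n h hh v hv := by
    rw [mem_bot] at hv ⊢
    rw [hv]; group
  lift A := by
    obtain ⟨g, hg, h1⟩ := N.lift (D * A * D⁻¹)
    refine ⟨g, hg, fun v hv => ?_⟩
    obtain ⟨x, rfl⟩ := (N.mem_iff v).1 hv
    rw [h1, co_e, co_e, ap_mul, ap_mul, ap_inv_ap]
  norm g hg h hh A hA := by
    have h1 : ∀ x, h * N.e x * h⁻¹ = N.e (ap (D * A * D⁻¹) x) := by
      intro x
      have hx : N.e x ∈ V := (N.mem_iff _).2 ⟨x, rfl⟩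
      obtain ⟨y, hy⟩ := (N.mem_iff _).1 ((mem_normalizer_iff.1 (hPV hh) _).1 hx)
      have h2 := hA _ hx
      rw [← hy, co_e, co_e] at h2
      rw [← hy]
      congr 1
      rw [ap_mul, ap_mul, ← h2, ap_ap_inv]
    obtain ⟨B, hB⟩ := N.norm g hg h _ h1
    refine ⟨D⁻¹ * B * D, fun v hv => ?_⟩
    obtain ⟨x, rfl⟩ := (N.mem_iff v).1 hv
    rw [hB, co_e, co_e, ap_mul, ap_mul, ap_ap_inv]

theorem secP_e (N : NatP F V P) (hPV : P ≤ normalizer (V : Set G)) (D : Matrix.SpecialLinearGroup (Fin 2) F)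
    (x : Fin 2 → F) : (secP N hPV D).π (N.e x) = ap D⁻¹ x := co_e N D x

variable [Finite G] {S : Sylow 2 G}

/-- **`V_P` natural, `|Z| = q`.** -/
theorem n1_of_natP {F : Type} [Field F] [Finite F] [CharP F 2] (hG : IsCharacteristicTwoType G)
    (hP : IsParS (S : Subgroup G) P) (hm : MinH P (S : Subgroup G)) (N : NatP F (zl (S : Subgroup G) P) P)
    (hc : Nat.card (zc (S : Subgroup G)) = Nat.card F) : N1 (S : Subgroup G) P ⊥ (Nat.card F) := by
  have hSP : (S : Subgroup G) ≤ P := hm.syl.1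
  have hVP : zl (S : Subgroup G) P ≤ P := (SQ1.VOf.MinH.zl_le_o2 hm).trans ((o2_le_syl hm.syl).trans hSP)
  have hPV : P ≤ normalizer (zl (S : Subgroup G) P : Set G) := le_normalizer_zl _ _
  have hZV : zc (S : Subgroup G) ≤ zl (S : Subgroup G) P := zc_le_zl _ _
  let M := modP N hVP
  have hPn : ∀ g : P, g ∈ normalizer (((zl (S : Subgroup G) P).subgroupOf P : Subgroup P) : Set P) := by
    intro g
    rw [mem_normalizer_iff]
    intro x
    rw [mem_subgroupOf, mem_subgroupOf]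
    exact mem_normalizer_iff.1 (hPV g.2) x
  -- a fixed vector
  obtain ⟨z, hz, hz1⟩ : ∃ z ∈ zc (S : Subgroup G), z ≠ 1 := by
    by_contra hcon
    push Not at hcon
    have h1 : zc (S : Subgroup G) = ⊥ := eq_bot_iff.2 fun z hz => mem_bot.2 (hcon z hz)
    rw [h1, Subgroup.card_bot] at hc
    have : 1 < Nat.card F := Finite.one_lt_card
    omega
  obtain ⟨w, rfl⟩ := (N.mem_iff z).1 (hZV hz)
  have hw : w ≠ 0 := by
    rintro rfl
    exact hz1 (e_zero N)
  let S' : Sylow 2 P := S.subtype hSP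
  have hS' : ∀ s : P, s ∈ (S' : Subgroup P) ↔ (s : G) ∈ (S : Subgroup G) := fun s => by
    rw [Sylow.coe_subtype, mem_subgroupOf]
  have hSn : (S' : Subgroup P) ≤ normalizer (((zl (S : Subgroup G) P).subgroupOf P : Subgroup P) : Set P) :=
    fun s _ => hPn s
  have hfixe : ∀ s ∈ (S' : Subgroup P), M.act s w = w := by
    intro s hs
    rw [← M.commute_e (hPn s)]
    apply Subtype.ext
    exact (mem_zc.1 hz).2.2 s ((hS' s).1 hs)
  have hSw : (S' : Subgroup P) ≤ normalizer ((M.line w : Subgroup P) : Set P) := by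
    intro s hs
    have h1 := M.cj_line (hPn s) w
    rw [hfixe s hs] at h1
    rw [mem_normalizer_iff_cj]
    exact h1
  -- `Z` is the line
  have hle := M.cent_le_of_sylow S' hSn hw hSw
  have hZl : (zc (S : Subgroup G)).subgroupOf P ≤ M.line w := by
    intro v hv
    rw [mem_subgroupOf] at hv
    apply hle
    refine ⟨mem_centralizer_iff.2 fun s hs => ?_, mem_subgroupOf.2 (hZV hv)⟩
    apply Subtype.ext
    exact (mem_zc.1 hv).2.2 s ((hS' s).1 hs)
  have hZl' : (zc (S : Subgroup G)).subgroupOf P = M.line w := by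
    refine Subgroup.eq_of_le_of_card_ge hZl ?_
    rw [M.card_line hw, Nat.card_congr (Subgroup.subgroupOfEquivOfLe (hZV.trans hVP)).toEquiv, hc]
  obtain ⟨D, hD⟩ := exists_ap_e hw
  refine n1_of hP hm (secP N hPV D) ?_ ?_
  · intro v hv h1
    obtain ⟨x, rfl⟩ := (N.mem_iff v).1 hv
    rw [secP_e] at h1
    have h2 : M.e x ∈ M.line w := by
      rw [M.e_mem_line]
      refine ⟨ap D⁻¹ x 0, ?_⟩
      have h3 : ap D⁻¹ x = ap D⁻¹ x 0 • ![1, 0] := by
        apply ext2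
        · simp
        · rw [h1]; simp
      have h4 : ap D (ap D⁻¹ x) = ap D (ap D⁻¹ x 0 • ![1, 0]) := congrArg (ap D) h3
      rwa [ap_ap_inv, ap_smul, hD] at h4
    rw [← hZl', mem_subgroupOf] at h2
    exact h2
  · intro b
    have hB : ap (D * up b * D⁻¹) w = w := by
      rw [← hD, ap_mul, ap_mul, ap_inv_ap, ap_up_e]
    obtain ⟨s, hs, hs1⟩ := M.full_of_sylow S' hSn hw hSw hB
    refine ⟨s, (hS' s).1 hs, fun v hv => ?_⟩
    obtain ⟨x, rfl⟩ := (N.mem_iff v).1 hv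
    have h1 : (s : G) * N.e x * (s : G)⁻¹ = N.e (ap (D * up b * D⁻¹) x) := congrArg Subtype.val (hs1 x)
    rw [h1, secP_e, secP_e, ap_mul, ap_mul, ap_inv_ap]

end Cfsg.Agent.Omega.NO3S.OneLine

end

section


/-!
# LEMMA OL (LEMMA UNIQ), final form

`P ∈ P*(S)` with `J(S) ≰ O₂(P)`, `V_P` a natural `SL₂(q)`-module, `|Z| = q`, no mutual pair, and the FF theorem:
`V_R = V_P` and `C_Z(R) = 1` for all `R ∈ P*(S)` (`uniq`).
-/

set_option autoImplicit false
set_option linter.unusedSectionVars false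
set_option linter.unusedVariables false

namespace Cfsg.Agent.Omega.NO3S.OneLine

open Subgroup Cfsg Cfsg.Agent.ZN Cfsg.Agent.ZN.ChoiceBase Cfsg.Agent.Omega.MinPar
open Cfsg.Agent.ZN.ChoiceSit (Syl o2_le_syl)
open Cfsg.Agent.Omega.SQ1.Bau (mem_AA_of_comm zj_le_AA elem_comm elem_sq)
open Cfsg.Agent.Omega.SQ1.BauK (V1 mem_V1)
open Cfsg.Agent.PLocal.ElemAbSup Cfsg.Agent.PLocal.ThompsonJ
open Cfsg.Agent.MinSimple.VModule (zc_le zc_le_zl zl_le le_o2 le_normalizer_zl le_normalizer_o2)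
open Cfsg.Agent.Omega.SQ1.FFOne Cfsg.Agent.Lib.SL2Mat
open Cfsg.Agent.Omega.FFThm (NatK SymK Off NoOver)
open Cfsg.Agent.Omega.FrameFF (cv)
open Cfsg.Agent.Omega.NatPair (ap ap_zero' ap_one' ap_one ap_mul ap_add ap_smul ext2 NatMod ap_inv_ap ap_ap_inv exists_ap_e
  ap_up_e)

universe u

variable {G : Type u} [Group G]

/-- one summand: the natural section -/
noncomputable def secK {F : Type} [Field F] {T H : Subgroup G}
    (N : NatK F T H (zl T H) (cv T H) 1) : NatSec F H (zl T H) (cv T H) where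
  π g := N.e g 0
  map_mul := by
    intro v hv w hw
    rw [N.mul v hv w hw]; rfl
  V0V := SQ1.FFOf.cv_le
  ker := by
    intro v hv
    rw [← N.ker v hv]
    constructor
    · intro h0
      funext i
      rw [Subsingleton.elim i 0, h0]
      rfl
    · intro h0
      rw [h0]
      rfl
  surj := by
    intro x
    obtain ⟨v, hv, hx⟩ := N.surj fun _ => x
    exact ⟨v, hv, by rw [hx]⟩
  Vn := SQ1.VOf.zl_norm
  V0n := SQ1.FFOf.cv_norm
  lift := by
    intro A
    obtain ⟨g, hg, h1, h2⟩ := N.lift fun _ => A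
    exact ⟨g, hg, fun v hv => h1 v hv 0⟩
  norm := by
    intro g hg x hx A hA
    obtain ⟨B, hB⟩ := N.norm g hg x hx (fun _ => A) fun v hv i => by
      rw [Subsingleton.elim i 0]
      exact hA v hv
    exact ⟨B 0, fun v hv => hB v hv 0⟩

variable [Finite G] {S : Sylow 2 G} {P R : Subgroup G}

/-- `Z(J(S)) = Z` for `V_P` natural with `|Z| = q`. -/
theorem N1.zj_eq {q : ℕ} (hG : IsCharacteristicTwoType G) (h : N1 (S : Subgroup G) P ⊥ q)
    (hJ : ¬ jj (S : Subgroup G) ≤ centralizer (zl (S : Subgroup G) P : Set G)) :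
    zj (S : Subgroup G) = zc (S : Subgroup G) := by
  obtain ⟨A, hA, hAQ⟩ := exists_AA hG h.blk.star hJ
  obtain ⟨x, hx, hx0⟩ := h.opp rfl
  refine Blk.zj_eq hG h.blk hA hAQ ?_ hx hx0
  have h1 := h.cz
  rw [Subgroup.card_bot, one_mul] at h1
  rw [h.cv, ← h1, pow_two]

theorem syl_of (hR : IsParS (S : Subgroup G) R) : Syl (S : Subgroup G) R :=
  ⟨hR.isLoc.le, S.isPGroup', fun _ _ hT hST => S.is_maximal' hT hST⟩

theorem minH (hG : IsCharacteristicTwoType G) (hR : IsParS (S : Subgroup G) R) : MinH R (S : Subgroup G) :=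
  minH_of (syl_of hR) hR.toIsMinPar (hR.isLoc.char2 S hG)

/-- **The members of `P*(S)` if `Ω₁(Z(J(S))) = Z`.** -/
theorem n1_of_star (hFF : FFThm.Stmt.{u}) (hG : IsCharacteristicTwoType G)
    (hz : zj (S : Subgroup G) = zc (S : Subgroup G)) (hR : IsParS (S : Subgroup G) R) :
    ¬ jj (S : Subgroup G) ≤ centralizer (zl (S : Subgroup G) R : Set G) ∧
      ∃ (V0 : Subgroup G) (q : ℕ), 2 ≤ q ∧ N1 (S : Subgroup G) R V0 q := by
  have hsyl := syl_of hR
  have hch := hR.isLoc.char2 S hG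
  have hmin := hR.toIsMinPar
  have hm := minH hG hR
  have hJ : ¬ jj (S : Subgroup G) ≤ o2 R := by
    intro hle
    have e := jj_eq_of_jj_le hle (o2_le_syl hsyl)
    have e2 : zj (o2 R) = zj (S : Subgroup G) := by
      ext x
      rw [mem_zj, mem_zj, e]
    apply hR.not_zc
    rw [← hz, ← e2]
    exact (le_normalizer_o2 R).trans (normalizer_le_of_cj (F := zj) zj_cj (o2 R))
  have hJC : ¬ jj (S : Subgroup G) ≤ centralizer (zl (S : Subgroup G) R : Set G) := by
    intro hle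
    apply hJ
    rw [← IsParS.inf_centralizer S hG hR]
    exact le_inf (jj_le _) hle
  refine ⟨hJC, ?_⟩
  obtain ⟨A, hA, hAV⟩ : ∃ A ∈ AA (S : Subgroup G), ¬ A ≤ centralizer (zl (S : Subgroup G) R : Set G) := by
    by_contra hcon
    push Not at hcon
    apply hJC
    rw [jj_eq]
    exact sSup_le hcon
  have hoff : Off (zl (S : Subgroup G) R) A := SQ1.FFOf.off_of_AA hm hA hAV
  obtain ⟨hno, hcon⟩ := hFF G (S : Subgroup G) R hsyl hmin hch ⟨A, hA.2.1.trans hsyl.1, hoff⟩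
  have hcs : (R ⊓ centralizer (zl (S : Subgroup G) R : Set G)) ⊔ (S : Subgroup G) ≠ R := by
    intro e
    apply hR.not_zc
    rw [← e]
    refine sup_le ?_ ?_
    · exact (inf_le_right.trans (centralizer_le (zc_le_zl _ _))).trans (centralizer_le_normalizer _)
    · refine le_trans (fun s hs => ?_) (centralizer_le_normalizer _)
      exact mem_centralizer_iff.2 fun z hz => ((mem_zc.1 hz).2.2 s hs).symm
  rcases hcon with ⟨F, _, _, _, k, hk, ⟨M⟩⟩ | ⟨k, m, hk, hm2, ⟨M⟩⟩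
  · have : Nonempty (Fin k) := ⟨⟨0, hk⟩⟩
    have hVS : zl (S : Subgroup G) R ≤ (S : Subgroup G) := (SQ1.VOf.MinH.zl_le_o2 hm).trans (o2_le_syl hsyl)
    have hV1 : ∀ v ∈ zl (S : Subgroup G) R, (∀ i, M.e v i 1 = 0) → v ∈ zc (S : Subgroup G) := by
      intro v hv hi
      have h1 := (FFK.mem_V1_iff ((natKB_of hsyl hch hJ hk M).toFFK hm) hm (v := v)).2 ⟨hv, hi⟩
      have h2 := (mem_V1.1 h1).2
      have hsq := SQ1.VOf.MinH.sq hm v hv
      rw [← hz]
      exact mem_zj.2 ⟨mem_jj_of_comm (hVS hv) hsq h2, hsq, h2⟩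
    obtain rfl : k = 1 := by
      by_contra hk1
      obtain ⟨i, j, hij⟩ : ∃ i j : Fin k, i ≠ j :=
        ⟨⟨0, hk⟩, ⟨1, by omega⟩, fun h => by simpa using congrArg Fin.val h⟩
      classical
      obtain ⟨t, ht, htr⟩ := M.trans i j
      obtain ⟨v, hv, hev⟩ := M.surj (Pi.single j ![1, 0])
      have hvZ : v ∈ zc (S : Subgroup G) := by
        refine hV1 v hv fun l => ?_
        rw [hev]
        by_cases hl : l = j
        · subst hl; rw [Pi.single_eq_same]; rfl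
        · rw [Pi.single_eq_of_ne hl]; rfl
      have h1 : M.e v i = 0 := by rw [hev, Pi.single_eq_of_ne hij]
      have h2 := (htr v hv).2 h1
      have h3 : t * v * t⁻¹ = v := by rw [(mem_zc.1 hvZ).2.2 t ht]; group
      rw [h3, hev, Pi.single_eq_same] at h2
      exact one_ne_zero (congrFun h2 0)
    refine ⟨cv (S : Subgroup G) R, Nat.card F, Finite.one_lt_card, n1_of hR hm (secK M) ?_ ?_⟩
    · intro v hv h1
      refine hV1 v hv fun i => ?_
      rw [Subsingleton.elim i 0]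
      exact h1
    · intro b
      obtain ⟨t, ht, h1⟩ := M.unip fun _ => b
      exact ⟨t, ht, fun v hv => h1.1 v hv 0⟩
  · refine (no_sym hm hcs ⟨A, hA, hoff⟩ hno hk hm2 M ?_).elim
    intro z hz1 t ht
    rw [hz] at hz1
    exact (mem_zc.1 hz1).2.2 t ht

/-- The chain `|V| ≤ |Z|²`. -/
theorem N1.card_le {V0 : Subgroup G} {q : ℕ} (h : N1 (S : Subgroup G) R V0 q) :
    Nat.card (zl (S : Subgroup G) R) ≤ Nat.card (zc (S : Subgroup G)) ^ 2 := by
  rw [h.cv, pow_two]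
  refine Nat.mul_le_mul_left _ ?_
  rw [h.cz]
  exact Nat.le_mul_of_pos_left _ Nat.card_pos

theorem N1.cen_eq {V0 : Subgroup G} {q : ℕ} (h : N1 (S : Subgroup G) R V0 q) (hq : 0 < q)
    (hV : Nat.card (zl (S : Subgroup G) R) = Nat.card (zc (S : Subgroup G)) ^ 2) :
    zc (S : Subgroup G) ⊓ centralizer (R : Set G) = ⊥ := by
  rw [eq_bot_iff]
  refine h.cen.trans ?_
  have hp : 0 < Nat.card (zc (S : Subgroup G)) := Nat.card_pos
  have h1 := h.cv
  rw [hV, pow_two] at h1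
  have h2 := Nat.eq_of_mul_eq_mul_left hp h1
  have h3 := h.cz
  rw [h2] at h3
  have h4 : 1 * q = Nat.card V0 * q := by rw [one_mul]; exact h3
  have h5 := Nat.eq_of_mul_eq_mul_right hq h4
  exact (Subgroup.card_eq_one.1 h5.symm).le

/-- **LEMMA OL**, from `N1 S P ⊥ q`. -/
theorem uniq_of_n1 (hFF : FFThm.Stmt.{u}) (hG : IsCharacteristicTwoType G) (hF : ¬ FF (S : Subgroup G)) {q : ℕ}
    (h : N1 (S : Subgroup G) P ⊥ q)
    (hJ : ¬ jj (S : Subgroup G) ≤ centralizer (zl (S : Subgroup G) P : Set G)) : Uniq (S : Subgroup G) P := by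
  have hz := h.zj_eq hG hJ
  have hsq : Nat.card (zl (S : Subgroup G) P) = Nat.card (zc (S : Subgroup G)) ^ 2 := by
    have h1 := h.cz
    rw [Subgroup.card_bot, one_mul] at h1
    rw [h.cv, ← h1, pow_two]
  have key : ∀ R : Subgroup G, IsParS (S : Subgroup G) R → zl (S : Subgroup G) R = zl (S : Subgroup G) P ∧
      zc (S : Subgroup G) ⊓ centralizer (R : Set G) = ⊥ := by
    intro R hR
    obtain ⟨hJ', V0, q', hq', h'⟩ := n1_of_star hFF hG hz hR
    have h1 := one_line hG hF h.blk h'.blk hJ hJ' hsq (eq_bot_iff.2 h.cen) h'.card_le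
    refine ⟨h1, h'.cen_eq (by omega) ?_⟩
    rw [h1, hsq]
  exact ⟨fun R hR => (key R hR).1, fun R hR => (key R hR).2⟩

/-- **LEMMA UNIQ (= LEMMA OL)**: `J(S) ≰ O₂(P)`, `V_P` natural, `|Z| = q`. -/
theorem uniq (hFF : FFThm.Stmt.{u}) (h : HypJ S P) {F : Type} [Field F] [Finite F]
    [CharP F 2] (N : NatP F (zl (S : Subgroup G) P) P)
    (hc : Nat.card (zc (S : Subgroup G)) = Nat.card F) : Uniq (S : Subgroup G) P := by
  have hG := h.ctx.char2
  refine uniq_of_n1 hFF hG h.noFF (n1_of_natP hG h.star (minH hG h.star) N hc) ?_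
  intro hle
  apply h.jnot
  rw [← IsParS.inf_centralizer S hG h.star]
  exact le_inf (jj_le _) hle

end Cfsg.Agent.Omega.NO3S.OneLine

end

section


/-!
# Fld, basic facts: coordinates on the natural module `V_P` adapted to `S`

* `Crd F S P V` : a `NatP` in which every `s ∈ S` acts as `(x₀, x₁) ↦ (σ x₀ + c σ x₁, σ x₁)`, and every root element
  `(1, c)` is induced by some `s ∈ S`; `exists_crd` : it exists under `Hyp S P` for every `NatP`;
* `Crd.R` : the line `{x₁ = 0}`, of order `q`, `S`-invariant, contains `Ω₁(Z(S))`;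
* `Crd.Act s σ c` : `s` acts with field automorphism `σ` and root part `c`.
-/

set_option autoImplicit false
set_option linter.unusedSectionVars false
set_option linter.unusedVariables false

namespace Cfsg.Agent.Omega.NO3S.Fld

open Subgroup Cfsg Cfsg.Agent.ZN Cfsg.Agent.ZN.ChoiceBase Cfsg.Agent.Omega.MinPar
open Cfsg.Agent.ZN.ChoiceSit (Syl o2_le_syl)
open Cfsg.Agent.Omega.SQ1.Bau (mem_AA_of_comm zj_le_AA elem_comm elem_sq)
open Cfsg.Agent.PLocal.ElemAbSup Cfsg.Agent.PLocal.ThompsonJ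
open Cfsg.Agent.MinSimple.VModule (zc_le zc_le_zl zl_le le_o2 le_normalizer_zl le_normalizer_o2)
open Cfsg.Agent.Omega.SQ1.FFOne Cfsg.Agent.Lib.SL2Mat
open Cfsg.Agent.Omega.NatPair (ap ap_zero' ap_one' ap_one ap_mul ap_add ap_smul ext2 NatMod ap_inv_ap ap_ap_inv
  exists_ap_e ap_up_e dt exists_comb exists_smul_of_dt)
open Cfsg.Agent.Omega.NO3S.OneLine (modP secP exists_fixed minH e_zero)

universe u

variable {G : Type u} [Group G]

/-- Coordinates on `V = F²` adapted to the 2-group `S`. -/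
structure Crd (F : Type*) [Field F] (S P V : Subgroup G) extends NatP F V P where
  act : ∀ s ∈ S, ∃ (σ : F ≃+* F) (c : F), ∀ x : Fin 2 → F,
    s * e x * s⁻¹ = e ![σ (x 0) + c * σ (x 1), σ (x 1)]
  full : ∀ c : F, ∃ s ∈ S, ∀ x : Fin 2 → F, s * e x * s⁻¹ = e ![x 0 + c * x 1, x 1]

section change

variable {F : Type*} [Field F]

/-- the linear map with the columns `w`, `y` -/
def bm (w y : Fin 2 → F) (x : Fin 2 → F) : Fin 2 → F := x 0 • w + x 1 • y

theorem bm_add (w y x x' : Fin 2 → F) : bm w y (x + x') = bm w y x + bm w y x' := by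
  apply ext2 <;> simp only [bm, Pi.add_apply, Pi.smul_apply, smul_eq_mul] <;> ring

theorem dt_ne_bm {w y : Fin 2 → F} (h : dt w y ≠ 0) {x : Fin 2 → F} (hx : bm w y x = 0) : x = 0 := by
  have h0 := congrFun hx 0
  have h1 := congrFun hx 1
  simp only [bm, Pi.add_apply, Pi.smul_apply, smul_eq_mul, Pi.zero_apply] at h0 h1
  have e0 : x 0 * dt w y = 0 := by unfold dt; linear_combination y 1 * h0 - y 0 * h1
  have e1 : x 1 * dt w y = 0 := by unfold dt; linear_combination w 0 * h1 - w 1 * h0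
  apply ext2
  · exact (mul_eq_zero.1 e0).resolve_right h
  · exact (mul_eq_zero.1 e1).resolve_right h

/-- the inverse of `bm` -/
noncomputable def bi (w y : Fin 2 → F) (x : Fin 2 → F) : Fin 2 → F :=
  ![(x 0 * y 1 - x 1 * y 0) / dt w y, (w 0 * x 1 - w 1 * x 0) / dt w y]

theorem bm_bi {w y : Fin 2 → F} (h : dt w y ≠ 0) (x : Fin 2 → F) : bm w y (bi w y x) = x := by
  apply ext2
  · simp only [bm, bi, Pi.add_apply, Pi.smul_apply, smul_eq_mul, Matrix.cons_val_zero, Matrix.cons_val_one]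
    field_simp
    unfold dt; ring
  · simp only [bm, bi, Pi.add_apply, Pi.smul_apply, smul_eq_mul, Matrix.cons_val_zero, Matrix.cons_val_one]
    field_simp
    unfold dt; ring

theorem bi_bm {w y : Fin 2 → F} (h : dt w y ≠ 0) (x : Fin 2 → F) : bi w y (bm w y x) = x := by
  have h1 := bm_bi h (bm w y x)
  have h2 : bm w y (bi w y (bm w y x) - x) = 0 := by
    have e : bm w y (bi w y (bm w y x)) = bm w y (bi w y (bm w y x) - x) + bm w y x := by
      rw [← bm_add, sub_add_cancel]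
    rw [h1] at e
    exact (left_eq_add.1 (by rw [add_comm] at e; exact e))
  exact sub_eq_zero.1 (dt_ne_bm h h2)

/-- conjugation of `SL₂(F)` by `bm` -/
noncomputable def cB (w y : Fin 2 → F) (h : dt w y ≠ 0) (A : Matrix.SpecialLinearGroup (Fin 2) F) :
    Matrix.SpecialLinearGroup (Fin 2) F :=
  mk ((ent A 0 0 * (w 0 * y 1) - ent A 0 1 * (w 0 * w 1) + ent A 1 0 * (y 0 * y 1) - ent A 1 1 * (y 0 * w 1)) / dt w y)
    ((-(ent A 0 0 * (w 0 * y 0)) + ent A 0 1 * (w 0 * w 0) - ent A 1 0 * (y 0 * y 0) + ent A 1 1 * (w 0 * y 0)) / dt w y)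
    ((ent A 0 0 * (w 1 * y 1) - ent A 0 1 * (w 1 * w 1) + ent A 1 0 * (y 1 * y 1) - ent A 1 1 * (w 1 * y 1)) / dt w y)
    ((-(ent A 0 0 * (w 1 * y 0)) + ent A 0 1 * (w 0 * w 1) - ent A 1 0 * (y 0 * y 1) + ent A 1 1 * (w 0 * y 1)) / dt w y)
    (by
      have hd := det_eq A
      have h' : w 0 * y 1 - w 1 * y 0 ≠ 0 := h
      unfold dt
      field_simp
      linear_combination (w 0 * y 1 - w 1 * y 0) ^ 2 * hd)

theorem ap_cB {w y : Fin 2 → F} (h : dt w y ≠ 0) (A : Matrix.SpecialLinearGroup (Fin 2) F) (x : Fin 2 → F) :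
    ap (cB w y h A) (bm w y x) = bm w y (ap A x) := by
  apply ext2
  · rw [ap_zero']
    unfold cB
    rw [mk_00, mk_01]
    simp only [bm, ap, Pi.add_apply, Pi.smul_apply, smul_eq_mul, Matrix.cons_val_zero, Matrix.cons_val_one]
    rw [div_mul_eq_mul_div, div_mul_eq_mul_div, ← add_div, div_eq_iff h]
    unfold dt
    ring
  · rw [ap_one']
    unfold cB
    rw [mk_10, mk_11]
    simp only [bm, ap, Pi.add_apply, Pi.smul_apply, smul_eq_mul, Matrix.cons_val_zero, Matrix.cons_val_one]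
    rw [div_mul_eq_mul_div, div_mul_eq_mul_div, ← add_div, div_eq_iff h]
    unfold dt
    ring

/-- conjugation of `SL₂(F)` by the inverse of `bm` -/
theorem exists_bi {w y : Fin 2 → F} (h : dt w y ≠ 0) (A : Matrix.SpecialLinearGroup (Fin 2) F) :
    ∃ B : Matrix.SpecialLinearGroup (Fin 2) F, ∀ x, ap A (bm w y x) = bm w y (ap B x) := by
  have h0 : dt (bi w y ![1, 0]) (bi w y ![0, 1]) ≠ 0 := by
    have e : dt (bi w y ![1, 0]) (bi w y ![0, 1]) * dt w y = 1 := by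
      have e1 : dt (bi w y ![1, 0]) (bi w y ![0, 1]) = y 1 / dt w y * (w 0 / dt w y) -
          -w 1 / dt w y * (-y 0 / dt w y) := by
        simp only [dt, bi, Matrix.cons_val_zero, Matrix.cons_val_one]
        ring
      rw [e1, div_mul_div_comm, div_mul_div_comm, ← sub_div, div_mul_eq_mul_div, div_eq_iff (mul_ne_zero h h)]
      unfold dt
      ring
    exact left_ne_zero_of_mul (e ▸ one_ne_zero)
  refine ⟨cB _ _ h0 A, fun x => ?_⟩
  have hb : ∀ z, bm (bi w y ![1, 0]) (bi w y ![0, 1]) z = bi w y z := by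
    intro z
    apply ext2
    · simp only [bm, bi, Pi.add_apply, Pi.smul_apply, smul_eq_mul, Matrix.cons_val_zero, Matrix.cons_val_one]
      ring
    · simp only [bm, bi, Pi.add_apply, Pi.smul_apply, smul_eq_mul, Matrix.cons_val_zero, Matrix.cons_val_one]
      ring
  have h1 := ap_cB h0 A (bm w y x)
  rw [hb, hb, bi_bm h] at h1
  rw [h1, bm_bi h]

variable {V P : Subgroup G}

/-- Change of the basis. -/
def _root_.Cfsg.Agent.Omega.NO3S.NatP.change (N : NatP F V P) {w y : Fin 2 → F} (h : dt w y ≠ 0) : NatP F V P where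
  e x := N.e (bm w y x)
  e_add x x' := by rw [bm_add, N.e_add]
  e_inj := by
    intro x x' hx
    have h1 := N.e_inj hx
    rw [← bi_bm h x, ← bi_bm h x', h1]
  mem_iff g := by
    rw [N.mem_iff]
    constructor
    · rintro ⟨x, rfl⟩
      exact ⟨bi w y x, by rw [bm_bi h]⟩
    · rintro ⟨x, rfl⟩
      exact ⟨_, rfl⟩
  lift A := by
    obtain ⟨g, hg, h1⟩ := N.lift (cB w y h A)
    exact ⟨g, hg, fun x => by rw [h1, ap_cB h]⟩
  norm g hg k A hA := by
    have h1 : ∀ x, k * N.e x * k⁻¹ = N.e (ap (cB w y h A) x) := by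
      intro x
      have h2 := hA (bi w y x)
      rw [bm_bi h] at h2
      rw [h2, ← ap_cB h, bm_bi h]
    obtain ⟨B, hB⟩ := N.norm g hg k _ h1
    obtain ⟨B', hB'⟩ := exists_bi h B
    exact ⟨B', fun x => by rw [hB, hB']⟩

end change

section crd

variable [Finite G] {S : Sylow 2 G} {P : Subgroup G}

/-- **Adapted coordinates exist.** -/
theorem exists_crd_of {F : Type*} [Field F] [Finite F] [CharP F 2] (hG : IsCharacteristicTwoType G)
    (hS : (S : Subgroup G) ≠ ⊥) (hP : IsParS (S : Subgroup G) P) (N : NatP F (zl (S : Subgroup G) P) P) :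
    Nonempty (Crd F (S : Subgroup G) P (zl (S : Subgroup G) P)) := by
  have hm := minH hG hP
  have hSP : (S : Subgroup G) ≤ P := hm.syl.1
  have hVS : zl (S : Subgroup G) P ≤ (S : Subgroup G) := (SQ1.VOf.MinH.zl_le_o2 hm).trans (o2_le_syl hm.syl)
  have hVP : zl (S : Subgroup G) P ≤ P := hVS.trans hSP
  have hPV : P ≤ normalizer (zl (S : Subgroup G) P : Set G) := le_normalizer_zl _ _
  have hZV : zc (S : Subgroup G) ≤ zl (S : Subgroup G) P := zc_le_zl _ _
  let M := modP N hVP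
  have hPn : ∀ g : P, g ∈ normalizer (((zl (S : Subgroup G) P).subgroupOf P : Subgroup P) : Set P) := by
    intro g
    rw [mem_normalizer_iff]
    intro x
    rw [mem_subgroupOf, mem_subgroupOf]
    exact mem_normalizer_iff.1 (hPV g.2) x
  -- a fixed vector
  obtain ⟨z, hz, hz1⟩ : ∃ z ∈ zc (S : Subgroup G), z ≠ 1 := by
    obtain ⟨z, hz1⟩ := Subgroup.ne_bot_iff_exists_ne_one.1 (MinSimple.Basic.zc_ne_bot S.isPGroup' hS)
    exact ⟨z, z.2, fun h => hz1 (Subtype.ext h)⟩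
  obtain ⟨w, rfl⟩ := (N.mem_iff z).1 (hZV hz)
  have hw : w ≠ 0 := by
    rintro rfl
    exact hz1 (e_zero N)
  let S' : Sylow 2 P := S.subtype hSP
  have hS' : ∀ s : P, s ∈ (S' : Subgroup P) ↔ (s : G) ∈ (S : Subgroup G) := fun s => by
    rw [Sylow.coe_subtype, mem_subgroupOf]
  have hSn : (S' : Subgroup P) ≤ normalizer (((zl (S : Subgroup G) P).subgroupOf P : Subgroup P) : Set P) :=
    fun s _ => hPn s
  have hfixe : ∀ s ∈ (S' : Subgroup P), M.act s w = w := by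
    intro s hs
    rw [← M.commute_e (hPn s)]
    apply Subtype.ext
    exact (mem_zc.1 hz).2.2 s ((hS' s).1 hs)
  have hSw : (S' : Subgroup P) ≤ normalizer ((M.line w : Subgroup P) : Set P) := by
    intro s hs
    have h1 := M.cj_line (hPn s) w
    rw [hfixe s hs] at h1
    rw [mem_normalizer_iff_cj]
    exact h1
  -- a vector fixed modulo the line
  let L : Subgroup G := (M.line w).map P.subtype
  have hmemL : ∀ x : Fin 2 → F, N.e x ∈ L ↔ ∃ c : F, x = c • w := by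
    intro x
    constructor
    · rintro ⟨⟨g, hg⟩, hgL, hgx⟩
      obtain ⟨c, hc⟩ := hgL
      refine ⟨c, N.e_inj ?_⟩
      have h1 : N.e (c • w) = g := congrArg Subtype.val hc
      rw [h1]
      exact hgx.symm
    · rintro ⟨c, rfl⟩
      exact ⟨M.e (c • w), ⟨c, rfl⟩, rfl⟩
  have hVL : ¬ zl (S : Subgroup G) P ≤ L := by
    intro hle
    obtain ⟨D, hD⟩ := exists_ap_e hw
    have h1 : N.e (ap D ![0, 1]) ∈ L := hle ((N.mem_iff _).2 ⟨_, rfl⟩)
    rw [hmemL] at h1
    obtain ⟨c, hc⟩ := h1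
    rw [← hD, ← ap_smul] at hc
    have h2 := congrArg (ap D⁻¹) hc
    rw [ap_inv_ap, ap_inv_ap] at h2
    have h3 := congrFun h2 1
    simp at h3
  obtain ⟨v, hv, hvL, hvS⟩ := exists_fixed (M := L) S.isPGroup' hVS (hSP.trans hPV) hVL
  obtain ⟨y, rfl⟩ := (N.mem_iff v).1 hv
  have hdt : dt w y ≠ 0 := by
    intro h0
    apply hvL
    rw [hmemL]
    exact exists_smul_of_dt hw h0
  have hact : ∀ s ∈ (S : Subgroup G), ∃ c : F, ∀ hs : s ∈ P, M.act ⟨s, hs⟩ y = y + c • w := by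
    intro s hs
    have h1 := hvS s hs
    have h2 : N.e (M.act ⟨s, hSP hs⟩ y) = s * N.e y * s⁻¹ := congrArg Subtype.val (M.e_act (hPn ⟨s, hSP hs⟩) y)
    rw [← h2] at h1
    have h3 : N.e (M.act ⟨s, hSP hs⟩ y) * (N.e y)⁻¹ = N.e (M.act ⟨s, hSP hs⟩ y - y) :=
      (congrArg Subtype.val (M.e_sub (M.act ⟨s, hSP hs⟩ y) y)).symm
    rw [h3, hmemL] at h1
    obtain ⟨c, hc⟩ := h1
    exact ⟨c, fun _ => by rw [← hc]; abel⟩
  let N' := N.change hdt
  refine ⟨{ N' with act := ?_, full := ?_ }⟩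
  · intro s hs
    have hsP := hSP hs
    obtain ⟨σ, hσ⟩ := M.exists_semi (hPn ⟨s, hsP⟩)
    obtain ⟨c, hc⟩ := hact s hs
    refine ⟨σ, c, fun x => ?_⟩
    show s * N.e (bm w y x) * s⁻¹ = N.e (bm w y _)
    have h1 : N.e (M.act ⟨s, hsP⟩ (bm w y x)) = s * N.e (bm w y x) * s⁻¹ :=
      congrArg Subtype.val (M.e_act (hPn ⟨s, hsP⟩) (bm w y x))
    rw [← h1]
    congr 1
    unfold bm
    rw [M.act_add (hPn _), hσ, hσ, hfixe _ ((hS' _).2 hs), hc]
    simp only [Matrix.cons_val_zero, Matrix.cons_val_one]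
    rw [smul_add, smul_smul, add_smul, mul_comm c]
    abel
  · intro c
    have hB : ap (cB w y hdt (up c)) w = w := by
      have h1 := ap_cB hdt (up c) ![1, 0]
      have h2 : bm w y ![1, 0] = w := by
        apply ext2 <;> simp [bm]
      rw [ap_up_e, h2] at h1
      exact h1
    obtain ⟨s, hs, hs1⟩ := M.full_of_sylow S' hSn hw hSw hB
    refine ⟨s, (hS' s).1 hs, fun x => ?_⟩
    show (s : G) * N.e (bm w y x) * (s : G)⁻¹ = N.e (bm w y _)
    have h1 : (s : G) * N.e (bm w y x) * (s : G)⁻¹ = N.e (ap (cB w y hdt (up c)) (bm w y x)) :=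
      congrArg Subtype.val (hs1 (bm w y x))
    rw [h1, ap_cB hdt]
    congr 2
    apply ext2
    · rw [ap_zero', up_00, up_01, one_mul]; rfl
    · rw [ap_one', up_10, up_11, one_mul, zero_mul, zero_add]; rfl

theorem exists_crd (h : Hyp S P) {F : Type*} [Field F] [Finite F] [CharP F 2]
    (N : NatP F (zl (S : Subgroup G) P) P) : Nonempty (Crd F (S : Subgroup G) P (zl (S : Subgroup G) P)) :=
  exists_crd_of h.ctx.char2 h.ne h.star N

end crd

end Cfsg.Agent.Omega.NO3S.Fld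

end

private theorem dce_12d4e8aac910 : _root_.True := by
  try have : _root_.True := by simp only [_root_.Cfsg.Agent.Omega.NO3S.Fld.bm.eq_1]
  try have : _root_.True := by simp only [_root_.Cfsg.Agent.Omega.NatPair.ap.eq_1]
  try have : _root_.True := by simp only [_root_.Cfsg.Agent.Omega.NO3S.Fld.bi.eq_1]
  try have : _root_.True := by simp only [_root_.Cfsg.Agent.Omega.NO3S.OneLine.co.eq_1]
  exact _root_.True.intro
end

-- part: Mrg/Omega/NO3S/Fld/Mods
section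
prune_inst 0x100000012202000000000000001c428a000102002800000000008005c0ad8000008120b420110200020b0400380068124400000000000000000000011904a1800850001200a104260009800084000000000000000000000000000000000000000000000
set_option linter.all false
open scoped Cfsg.Agent.FastGrp

section


/-!
# Fld, the module facts for `V = F²`

`M : Crd F S P V`.

* `Crd.R` : the line `{x₁ = 0}`; `Crd.card_R`, `Crd.R_le`, `Crd.S_R` (`S ≤ N(R)`), `Crd.S_V`;
* `Crd.Act s σ c` : `s` acts as `(x₀, x₁) ↦ (σ x₀ + c σ x₁, σ x₁)`; `Act.unique`, `Act.mul`, `Act.inv`;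
* `Act.mem_centR : s ∈ C(R) ↔ σ = 1`, `Act.mem_centV : s ∈ C(V) ↔ σ = 1 ∧ c = 0`;
* `Crd.comm_R` : `[b, v] ∈ R` for `b ∈ S ∩ C(R)`, `Crd.fix` : `C_V(b) = R` for `b ∈ S ∩ C(R) - C(V)`;
* `Crd.relIndex_B` : `|B : C_B(V)| = q`, `B = S ∩ C(R)`; `Crd.relIndex_le` : `|D : C_D(V)| ≤ q` for `D ≤ B`;
* `Crd.cyc` : `S = B ⟨s₀⟩`;
* `card_fixed` : `|F^σ|² = |F|` for an involution `σ`.
-/

set_option autoImplicit false
set_option linter.unusedSectionVars false
set_option linter.unusedVariables false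

namespace Cfsg.Agent.Omega.NO3S.Fld

open Subgroup Cfsg Cfsg.Agent.ZN Cfsg.Agent.ZN.ChoiceBase Cfsg.Agent.Omega.MinPar
open Cfsg.Agent.Omega.NatPair (ext2)
open Cfsg.Agent.Omega.NO3S.OneLine (conj_mem)

universe u

variable {G : Type u} [Group G]

/-! ### Fields -/

/-- `|F^σ|² = |F|` for an involution `σ`. -/
theorem card_fixed {F : Type*} [Field F] [Finite F] [CharP F 2] {σ : F ≃+* F} (h1 : σ ≠ RingEquiv.refl F)
    (h2 : ∀ x, σ (σ x) = x) : Nat.card {x : F // σ x = x} * Nat.card {x : F // σ x = x} = Nat.card F := by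
  obtain ⟨w, hw⟩ : ∃ w, σ w ≠ w := by
    by_contra hc
    push Not at hc
    exact h1 (RingEquiv.ext hc)
  rw [← Nat.card_prod]
  apply le_antisymm
  · -- `(a, b) ↦ a + b w` is injective
    refine Nat.card_le_card_of_injective (fun p : {x : F // σ x = x} × {x : F // σ x = x} =>
      (p.1 : F) + p.2 * w) ?_
    rintro ⟨⟨a, ha⟩, ⟨b, hb⟩⟩ ⟨⟨c, hc⟩, ⟨d, hd⟩⟩ h
    have h3 : a + b * w = c + d * w := h
    have h4 := congrArg σ h3
    rw [map_add, map_add, map_mul, map_mul, ha, hb, hc, hd] at h4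
    have h5 : (b - d) * (σ w - w) = 0 := by linear_combination h4 - h3
    have h6 : b = d := by
      rcases mul_eq_zero.1 h5 with h | h
      · exact sub_eq_zero.1 h
      · exact absurd (sub_eq_zero.1 h) hw
    subst h6
    have h7 : a = c := by linear_combination h3
    subst h7
    rfl
  · -- `x ↦ x + σ x`
    let φ : F →+ F := AddMonoidHom.mk' (fun x => x + σ x) (fun x y => by rw [map_add]; abel)
    have hk : Nat.card φ.ker = Nat.card {x : F // σ x = x} := by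
      refine Nat.card_congr (Equiv.subtypeEquivRight fun x => ?_)
      rw [AddMonoidHom.mem_ker]
      show x + σ x = 0 ↔ _
      rw [CharTwo.add_eq_zero]
      exact eq_comm
    have hr : Nat.card φ.range ≤ Nat.card {x : F // σ x = x} := by
      refine Nat.card_le_card_of_injective (fun y : φ.range => (⟨y.1, ?_⟩ : {x : F // σ x = x})) ?_
      · obtain ⟨y, x, rfl⟩ := y
        show σ (x + σ x) = x + σ x
        rw [map_add, h2, add_comm]
      · intro y y' h
        exact Subtype.ext (congrArg (fun t : {x : F // σ x = x} => (t : F)) h)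
    have h3 : Nat.card φ.ker * Nat.card φ.range = Nat.card F := by
      rw [← AddSubgroup.index_ker, AddSubgroup.card_mul_index]
    rw [Nat.card_prod, ← h3, hk]
    exact Nat.mul_le_mul_left _ hr

namespace Crd

variable {F : Type*} [Field F] {S P V : Subgroup G} (M : Crd F S P V)

theorem e_zero : M.e 0 = 1 := by
  have := M.e_add 0 0
  rw [add_zero] at this
  exact left_eq_mul.1 this

theorem e_neg (x : Fin 2 → F) : M.e (-x) = (M.e x)⁻¹ := by
  rw [eq_inv_iff_mul_eq_one, ← M.e_add, neg_add_cancel, M.e_zero]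

theorem e_sub (x y : Fin 2 → F) : M.e (x - y) = M.e x * (M.e y)⁻¹ := by
  rw [sub_eq_add_neg, M.e_add, M.e_neg]

theorem e_mem (x : Fin 2 → F) : M.e x ∈ V := (M.mem_iff _).2 ⟨x, rfl⟩

include M in
theorem comm {v w : G} (hv : v ∈ V) (hw : w ∈ V) : v * w = w * v := by
  obtain ⟨x, rfl⟩ := (M.mem_iff v).1 hv
  obtain ⟨y, rfl⟩ := (M.mem_iff w).1 hw
  rw [← M.e_add, ← M.e_add, add_comm]

include M in
theorem sq [CharP F 2] {v : G} (hv : v ∈ V) : v * v = 1 := by
  obtain ⟨x, rfl⟩ := (M.mem_iff v).1 hv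
  rw [← M.e_add, show x + x = 0 from funext fun i => CharTwo.add_self_eq_zero (x i), M.e_zero]

/-- The line `{x₁ = 0}`. -/
def R : Subgroup G where
  carrier := {g | ∃ a : F, M.e ![a, 0] = g}
  mul_mem' := by
    rintro _ _ ⟨a, rfl⟩ ⟨b, rfl⟩
    refine ⟨a + b, ?_⟩
    rw [← M.e_add]
    congr 1
    apply ext2 <;> simp
  one_mem' := ⟨0, by
    rw [← M.e_zero]
    congr 1
    apply ext2 <;> simp⟩
  inv_mem' := by
    rintro _ ⟨a, rfl⟩
    refine ⟨-a, ?_⟩
    rw [← M.e_neg]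
    congr 1
    apply ext2 <;> simp

theorem mem_R {g : G} : g ∈ M.R ↔ ∃ a : F, M.e ![a, 0] = g := Iff.rfl

theorem e_mem_R {x : Fin 2 → F} : M.e x ∈ M.R ↔ x 1 = 0 := by
  rw [mem_R]
  constructor
  · rintro ⟨a, ha⟩
    rw [← M.e_inj ha]
    rfl
  · intro h
    exact ⟨x 0, congrArg M.e (ext2 rfl h.symm)⟩

theorem R_le : M.R ≤ V := by
  rintro _ ⟨a, rfl⟩
  exact M.e_mem _

theorem card_R : Nat.card M.R = Nat.card F := by
  refine (Nat.card_congr (Equiv.ofBijective (fun a : F => (⟨M.e ![a, 0], a, rfl⟩ : M.R)) ⟨?_, ?_⟩)).symm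
  · intro a b h
    have h1 := M.e_inj (congrArg Subtype.val h)
    simpa using congrFun h1 0
  · rintro ⟨_, a, rfl⟩
    exact ⟨a, rfl⟩

include M in
theorem card_V : Nat.card V = Nat.card F * Nat.card F := by
  have h1 : Nat.card (Fin 2 → F) = Nat.card V := by
    refine Nat.card_congr (Equiv.ofBijective (fun x => ⟨M.e x, M.e_mem x⟩) ⟨?_, ?_⟩)
    · intro x y h
      exact M.e_inj (congrArg Subtype.val h)
    · rintro ⟨v, hv⟩
      obtain ⟨x, rfl⟩ := (M.mem_iff v).1 hv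
      exact ⟨x, rfl⟩
  rw [← h1]
  simp only [Nat.card_fun, pow_two, _root_.Nat.card_eq_fintype_card, _root_.Fintype.card_fin]

theorem card_V_R : Nat.card V = Nat.card M.R * Nat.card M.R := by rw [M.card_R, M.card_V]

/-- `s` acts as `(x₀, x₁) ↦ (σ x₀ + c σ x₁, σ x₁)`. -/
def Act (s : G) (σ : F ≃+* F) (c : F) : Prop :=
  ∀ x : Fin 2 → F, s * M.e x * s⁻¹ = M.e ![σ (x 0) + c * σ (x 1), σ (x 1)]

theorem exists_act {s : G} (hs : s ∈ S) : ∃ σ c, M.Act s σ c := M.act s hs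

variable {M}

theorem Act.unique {s : G} {σ σ' : F ≃+* F} {c c' : F} (h : M.Act s σ c) (h' : M.Act s σ' c') :
    σ = σ' ∧ c = c' := by
  have key : ∀ x : Fin 2 → F, σ (x 0) + c * σ (x 1) = σ' (x 0) + c' * σ' (x 1) := fun x => by
    have h1 := M.e_inj ((h x).symm.trans (h' x))
    simpa only [_root_.Fin.isValue, _root_.Matrix.cons_val_zero] using congrFun h1 0
  have h1 : σ = σ' := by
    ext a
    have := key ![a, 0]
    simpa using this
  subst h1
  refine ⟨rfl, ?_⟩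
  have := key ![0, 1]
  simpa using this

theorem Act.mul {s t : G} {σ τ : F ≃+* F} {c d : F} (h : M.Act s σ c) (h' : M.Act t τ d) :
    M.Act (s * t) (τ.trans σ) (c + σ d) := by
  intro x
  have e1 : s * t * M.e x * (s * t)⁻¹ = s * (t * M.e x * t⁻¹) * s⁻¹ := by group
  rw [e1, h', h]
  congr 1
  apply ext2
  · simp only [Matrix.cons_val_zero, Matrix.cons_val_one, RingEquiv.trans_apply, map_add, map_mul]
    ring
  · show σ (τ (x 1)) = (τ.trans σ) (x 1)
    rfl

theorem act_one' : M.Act 1 (RingEquiv.refl F) 0 := by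
  intro x
  rw [one_mul, inv_one, mul_one]
  congr 1
  apply ext2 <;> simp

theorem Act.inv {s : G} {σ : F ≃+* F} {c : F} (h : M.Act s σ c) : M.Act s⁻¹ σ.symm (σ.symm (-c)) := by
  intro x
  have h1 := h ![σ.symm (x 0) + σ.symm (-c) * σ.symm (x 1), σ.symm (x 1)]
  have h2 : M.e ![σ.symm (x 0) + σ.symm (-c) * σ.symm (x 1), σ.symm (x 1)] =
      s⁻¹ * (s * M.e ![σ.symm (x 0) + σ.symm (-c) * σ.symm (x 1), σ.symm (x 1)] * s⁻¹) * s := by group
  rw [h2, h1, inv_inv]
  congr 3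
  apply ext2
  · simp only [Matrix.cons_val_zero, Matrix.cons_val_one, map_add, map_mul, RingEquiv.apply_symm_apply]
    ring
  · show x 1 = σ (σ.symm (x 1))
    rw [RingEquiv.apply_symm_apply]

theorem Act.mem_centR {s : G} {σ : F ≃+* F} {c : F} (h : M.Act s σ c) :
    s ∈ centralizer (M.R : Set G) ↔ σ = RingEquiv.refl F := by
  rw [mem_centralizer_iff]
  constructor
  · intro h1
    ext a
    have h2 := h1 _ ⟨a, rfl⟩
    have h3 := h ![a, 0]
    rw [← h2, mul_assoc, mul_inv_cancel, mul_one] at h3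
    have h4 := congrFun (M.e_inj h3) 0
    simpa using h4.symm
  · rintro rfl _ ⟨a, rfl⟩
    have h3 := h ![a, 0]
    have h4 : (![(RingEquiv.refl F) ((![a, 0] : Fin 2 → F) 0) + c * (RingEquiv.refl F) ((![a, 0] : Fin 2 → F) 1),
        (RingEquiv.refl F) ((![a, 0] : Fin 2 → F) 1)] : Fin 2 → F) = ![a, 0] := by
      apply ext2 <;> simp
    rw [h4, mul_inv_eq_iff_eq_mul] at h3
    exact h3.symm

theorem Act.mem_centV {s : G} {σ : F ≃+* F} {c : F} (h : M.Act s σ c) :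
    s ∈ centralizer (V : Set G) ↔ σ = RingEquiv.refl F ∧ c = 0 := by
  constructor
  · intro h1
    have h2 : σ = RingEquiv.refl F := h.mem_centR.1 (centralizer_le M.R_le h1)
    subst h2
    refine ⟨rfl, ?_⟩
    have h3 := mem_centralizer_iff.1 h1 _ (M.e_mem ![0, 1])
    have h4 := h ![0, 1]
    rw [← h3, mul_assoc, mul_inv_cancel, mul_one] at h4
    have h5 := congrFun (M.e_inj h4) 0
    simpa using h5.symm
  · rintro ⟨rfl, rfl⟩
    rw [mem_centralizer_iff]
    intro v hv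
    obtain ⟨x, rfl⟩ := (M.mem_iff v).1 hv
    have h4 := h x
    have h5 : (![(RingEquiv.refl F) (x 0) + 0 * (RingEquiv.refl F) (x 1), (RingEquiv.refl F) (x 1)] : Fin 2 → F) = x := by
      apply ext2 <;> simp
    rw [h5, mul_inv_eq_iff_eq_mul] at h4
    exact h4.symm

variable (M)

include M in
theorem S_V : S ≤ normalizer (V : Set G) := by
  have key : ∀ s ∈ S, ∀ v ∈ V, s * v * s⁻¹ ∈ V := by
    intro s hs v hv
    obtain ⟨x, rfl⟩ := (M.mem_iff v).1 hv
    obtain ⟨σ, c, h⟩ := M.exists_act hs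
    rw [h]
    exact M.e_mem _
  intro s hs
  rw [mem_normalizer_iff]
  refine fun v => ⟨key s hs v, fun h => ?_⟩
  have := key s⁻¹ (inv_mem hs) _ h
  have e : s⁻¹ * (s * v * s⁻¹) * s⁻¹⁻¹ = v := by group
  rwa [e] at this

theorem S_R : S ≤ normalizer (M.R : Set G) := by
  have key : ∀ s ∈ S, ∀ v ∈ M.R, s * v * s⁻¹ ∈ M.R := by
    rintro s hs _ ⟨a, rfl⟩
    obtain ⟨σ, c, h⟩ := M.exists_act hs
    rw [h, M.e_mem_R]
    simp
  intro s hs
  rw [mem_normalizer_iff]
  refine fun v => ⟨key s hs v, fun h => ?_⟩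
  have := key s⁻¹ (inv_mem hs) _ h
  have e : s⁻¹ * (s * v * s⁻¹) * s⁻¹⁻¹ = v := by group
  rwa [e] at this

/-- the elements of `B = S ∩ C(R)` act as root elements -/
theorem exists_root {b : G} (hb : b ∈ S) (hb' : b ∈ centralizer (M.R : Set G)) :
    ∃ c, M.Act b (RingEquiv.refl F) c := by
  obtain ⟨σ, c, h⟩ := M.exists_act hb
  obtain rfl := h.mem_centR.1 hb'
  exact ⟨c, h⟩

theorem comm_R {b v : G} (hb : b ∈ S) (hb' : b ∈ centralizer (M.R : Set G)) (hv : v ∈ V) :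
    b * v * b⁻¹ * v⁻¹ ∈ M.R := by
  obtain ⟨c, h⟩ := M.exists_root hb hb'
  obtain ⟨x, rfl⟩ := (M.mem_iff v).1 hv
  rw [h, ← M.e_sub, M.e_mem_R]
  simp

theorem fix {b v : G} (hb : b ∈ S) (hb' : b ∈ centralizer (M.R : Set G)) (hbV : b ∉ centralizer (V : Set G))
    (hv : v ∈ V) (hbv : b * v = v * b) : v ∈ M.R := by
  obtain ⟨c, h⟩ := M.exists_root hb hb'
  obtain ⟨x, rfl⟩ := (M.mem_iff v).1 hv
  rw [M.e_mem_R]
  have h1 := h x
  rw [hbv, mul_assoc, mul_inv_cancel, mul_one] at h1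
  have h2 := congrFun (M.e_inj h1) 0
  have h3 : c * x 1 = 0 := by
    have h4 : x 0 = x 0 + c * x 1 := by simpa using h2
    exact left_eq_add.1 h4
  rcases mul_eq_zero.1 h3 with h4 | h4
  · exact absurd (h.mem_centV.2 ⟨rfl, h4⟩) hbV
  · exact h4

/-- every root element is induced -/
theorem exists_full (c : F) : ∃ s ∈ S, s ∈ centralizer (M.R : Set G) ∧ M.Act s (RingEquiv.refl F) c := by
  obtain ⟨s, hs, h⟩ := M.full c
  have h' : M.Act s (RingEquiv.refl F) c := h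
  exact ⟨s, hs, h'.mem_centR.2 rfl, h'⟩

theorem exists_ne_R : ∃ v ∈ V, v ∉ M.R := ⟨M.e ![0, 1], M.e_mem _, by rw [M.e_mem_R]; simp⟩

/-- the fixed points of `B` in `V` -/
theorem mem_R_of_comm {v : G} (hv : v ∈ V)
    (h : ∀ b ∈ S, b ∈ centralizer (M.R : Set G) → b * v = v * b) : v ∈ M.R := by
  obtain ⟨s, hs, hs1, h1⟩ := M.exists_full 1
  refine M.fix hs hs1 (fun hc => ?_) hv (h s hs hs1)
  exact one_ne_zero (h1.mem_centV.1 hc).2

/-! ### The homomorphism `B → F` -/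

/-- The root part. -/
noncomputable def rt (b : G) : F := open Classical in
  if h : ∃ c, M.Act b (RingEquiv.refl F) c then h.choose else 0

theorem rt_eq {b : G} {c : F} (h : M.Act b (RingEquiv.refl F) c) : M.rt b = c := by
  have h1 : ∃ c, M.Act b (RingEquiv.refl F) c := ⟨c, h⟩
  rw [rt, dif_pos h1]
  exact (Act.unique h1.choose_spec h).2

theorem act_rt {b : G} (hb : b ∈ S) (hb' : b ∈ centralizer (M.R : Set G)) :
    M.Act b (RingEquiv.refl F) (M.rt b) := by
  obtain ⟨c, h⟩ := M.exists_root hb hb'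
  rwa [M.rt_eq h]

theorem rt_mul {b c : G} (hb : b ∈ S) (hb' : b ∈ centralizer (M.R : Set G)) (hc : c ∈ S)
    (hc' : c ∈ centralizer (M.R : Set G)) : M.rt (b * c) = M.rt b + M.rt c := by
  have h := (M.act_rt hb hb').mul (M.act_rt hc hc')
  exact M.rt_eq h

/-- `B = S ∩ C(R)` -/
abbrev B : Subgroup G := S ⊓ centralizer (M.R : Set G)

/-- the homomorphism `D → F` for `D ≤ B` -/
noncomputable def rtHom {D : Subgroup G} (hD : D ≤ M.B) : D →* Multiplicative F :=
  MonoidHom.mk' (fun d => Multiplicative.ofAdd (M.rt d)) (by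
    rintro ⟨v, hv⟩ ⟨w, hw⟩
    exact congrArg Multiplicative.ofAdd (M.rt_mul (hD hv).1 (hD hv).2 (hD hw).1 (hD hw).2))

theorem ker_rtHom {D : Subgroup G} (hD : D ≤ M.B) :
    (M.rtHom hD).ker = (centralizer (V : Set G)).subgroupOf D := by
  ext d
  rw [MonoidHom.mem_ker, mem_subgroupOf, (M.act_rt (hD d.2).1 (hD d.2).2).mem_centV]
  constructor
  · intro h
    exact ⟨rfl, congrArg Multiplicative.toAdd h⟩
  · intro h
    exact congrArg Multiplicative.ofAdd h.2

theorem relIndex_eq {D : Subgroup G} (hD : D ≤ M.B) :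
    (centralizer (V : Set G)).relIndex D = Nat.card (M.rtHom hD).range := by
  rw [relIndex, ← M.ker_rtHom hD, Subgroup.index_ker]

theorem relIndex_le [Finite F] {D : Subgroup G} (hD : D ≤ M.B) : (centralizer (V : Set G)).relIndex D ≤ Nat.card F := by
  rw [M.relIndex_eq hD]
  exact Nat.card_le_card_of_injective (fun x : (M.rtHom hD).range => Multiplicative.toAdd (x : Multiplicative F))
    (fun x y h => Subtype.ext (congrArg Multiplicative.ofAdd h))

theorem relIndex_B : (centralizer (V : Set G)).relIndex M.B = Nat.card F := by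
  rw [M.relIndex_eq le_rfl]
  have h1 : (M.rtHom le_rfl).range = ⊤ := by
    rw [MonoidHom.range_eq_top]
    intro c
    obtain ⟨s, hs, hs', h⟩ := M.exists_full (Multiplicative.toAdd c)
    exact ⟨⟨s, hs, hs'⟩, congrArg Multiplicative.ofAdd (M.rt_eq h)⟩
  rw [h1, Subgroup.card_top]
  rfl

/-- `D ≤ B` commuting modulo `C(V)` with some `s ∈ S` which induces an involution on `F`: `|D : C_D(V)|² ≤ q`. -/
theorem relIndex_sq_le [Finite F] [CharP F 2] {D : Subgroup G} (hD : D ≤ M.B) {s : G} {σ : F ≃+* F} {c : F}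
    (hs : M.Act s σ c) (h1 : σ ≠ RingEquiv.refl F) (h2 : ∀ x, σ (σ x) = x)
    (hc : ∀ d ∈ D, s * d * s⁻¹ * d⁻¹ ∈ centralizer (V : Set G)) :
    (centralizer (V : Set G)).relIndex D * (centralizer (V : Set G)).relIndex D ≤ Nat.card F := by
  rw [M.relIndex_eq hD, ← card_fixed h1 h2]
  have key : ∀ d ∈ D, σ (M.rt d) = M.rt d := by
    intro d hd
    have hd1 := M.act_rt (hD hd).1 (hD hd).2
    have h3 := (((hs.mul hd1).mul hs.inv).mul hd1.inv).mem_centV.1 (hc d hd)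
    have h4 := h3.2
    have h5 : c + σ (M.rt d) + σ (σ.symm (-c)) + σ (σ.symm (-M.rt d)) = 0 := h4
    rw [RingEquiv.apply_symm_apply, RingEquiv.apply_symm_apply] at h5
    linear_combination h5
  have hle : Nat.card (M.rtHom hD).range ≤ Nat.card {x : F // σ x = x} := by
    refine Nat.card_le_card_of_injective (fun x : (M.rtHom hD).range =>
      (⟨Multiplicative.toAdd (x : Multiplicative F), ?_⟩ : {x : F // σ x = x})) ?_
    · obtain ⟨x, ⟨d, hd⟩, rfl⟩ := x
      exact key d hd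
    · intro x y h
      exact Subtype.ext (congrArg (fun t : {x : F // σ x = x} => Multiplicative.ofAdd (t : F)) h)
  exact Nat.mul_le_mul hle hle

/-! ### The field automorphisms -/

/-- the field automorphism of `s ∈ S` -/
noncomputable def sgHom (M : Crd F S P V) : S →* (F ≃+* F) where
  toFun s := (M.exists_act s.2).choose
  map_one' := by
    obtain ⟨c, hc⟩ := (M.exists_act (one_mem S)).choose_spec
    exact (hc.unique act_one').1
  map_mul' s t := by
    obtain ⟨c, hc⟩ := (M.exists_act s.2).choose_spec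
    obtain ⟨d, hd⟩ := (M.exists_act t.2).choose_spec
    obtain ⟨e, he⟩ := (M.exists_act (s * t).2).choose_spec
    have h1 := (he.unique (hc.mul hd)).1
    exact h1

theorem sgHom_eq {s : S} {σ : F ≃+* F} {c : F} (h : M.Act s σ c) : M.sgHom s = σ := by
  obtain ⟨d, hd⟩ := (M.exists_act s.2).choose_spec
  exact (hd.unique h).1

theorem sgHom_eq_one {s : S} : M.sgHom s = 1 ↔ (s : G) ∈ centralizer (M.R : Set G) := by
  obtain ⟨σ, c, h⟩ := M.exists_act s.2
  rw [M.sgHom_eq h, h.mem_centR]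
  rfl

/-- `S / B` is cyclic -/
theorem cyc [Finite F] : ∃ s₀ ∈ S, ∀ s ∈ S, ∃ k : ℕ, s * (s₀ ^ k)⁻¹ ∈ M.B := by
  have hc : IsCyclic (F ≃+* F) := LieRecognition.FieldSemilinear.isCyclic_ringAut F
  have hc2 : IsCyclic M.sgHom.range := inferInstance
  obtain ⟨⟨_, s₀, rfl⟩, hg⟩ := hc2.exists_generator
  have hfin : Finite (F ≃+* F) := Finite.of_injective (fun σ : F ≃+* F => (σ : F → F)) DFunLike.coe_injective
  refine ⟨s₀, s₀.2, fun s hs => ?_⟩
  have h1 := hg ⟨M.sgHom ⟨s, hs⟩, ⟨⟨s, hs⟩, rfl⟩⟩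
  rw [← mem_powers_iff_mem_zpowers] at h1
  obtain ⟨k, hk⟩ := h1
  have hk' : M.sgHom s₀ ^ k = M.sgHom ⟨s, hs⟩ := congrArg Subtype.val hk
  have h2 : M.sgHom (⟨s, hs⟩ * (s₀ ^ k)⁻¹) = 1 := by
    rw [map_mul, map_inv, map_pow, hk', mul_inv_cancel]
  exact ⟨k, mem_inf.2 ⟨S.mul_mem hs (S.inv_mem (S.pow_mem s₀.2 k)), M.sgHom_eq_one.1 h2⟩⟩

/-! ### Elements and subgroups which induce an involution on `F` -/

theorem inv_unique [Finite F] {σ τ : F ≃+* F} (h1 : σ ≠ RingEquiv.refl F) (h2 : ∀ x, σ (σ x) = x)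
    (h3 : τ ≠ RingEquiv.refl F) (h4 : ∀ x, τ (τ x) = x) : σ = τ := by
  classical
  by_contra hne
  have hc : IsCyclic (F ≃+* F) := LieRecognition.FieldSemilinear.isCyclic_ringAut F
  have hfin : Finite (F ≃+* F) := Finite.of_injective (fun σ : F ≃+* F => (σ : F → F)) DFunLike.coe_injective
  have : Fintype (F ≃+* F) := Fintype.ofFinite _
  have h5 := IsCyclic.card_pow_eq_one_le (α := F ≃+* F) (n := 2) (by norm_num)
  have h6 : ({1, σ, τ} : Finset (F ≃+* F)) ⊆ Finset.univ.filter fun a : F ≃+* F => a ^ 2 = 1 := by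
    intro a ha
    simp only [Finset.mem_insert, Finset.mem_singleton] at ha
    rw [Finset.mem_filter]
    refine ⟨Finset.mem_univ _, ?_⟩
    rcases ha with rfl | rfl | rfl
    · exact one_pow 2
    · rw [pow_two]; exact RingEquiv.ext h2
    · rw [pow_two]; exact RingEquiv.ext h4
  have h7 := Finset.card_le_card h6
  have h8 : ({1, σ, τ} : Finset (F ≃+* F)).card = 3 := by
    rw [Finset.card_insert_of_notMem, Finset.card_insert_of_notMem, Finset.card_singleton]
    · rw [Finset.mem_singleton]; exact hne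
    · rw [Finset.mem_insert, Finset.mem_singleton, not_or]
      exact ⟨fun h => h1 h.symm, fun h => h3 h.symm⟩
  omega

/-- `C_R(s)` -/
theorem card_fixR {s : G} {σ : F ≃+* F} {c : F} (h : M.Act s σ c) :
    Nat.card ↥(M.R ⊓ centralizer ({s} : Set G)) = Nat.card {x : F // σ x = x} := by
  have key : ∀ a : F, σ a = a ↔ M.e ![a, 0] ∈ centralizer ({s} : Set G) := by
    intro a
    rw [mem_centralizer_singleton_iff]
    have h1 := h ![a, 0]
    have h2 : (![σ ((![a, 0] : Fin 2 → F) 0) + c * σ ((![a, 0] : Fin 2 → F) 1), σ ((![a, 0] : Fin 2 → F) 1)] :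
        Fin 2 → F) = ![σ a, 0] := by
      apply ext2 <;> simp
    rw [h2] at h1
    constructor
    · intro h3
      rw [h3, mul_inv_eq_iff_eq_mul] at h1
      exact h1.symm
    · intro h3
      rw [← h3, mul_assoc, mul_inv_cancel, mul_one] at h1
      have := congrFun (M.e_inj h1) 0
      simpa using this.symm
  refine (Nat.card_congr (Equiv.ofBijective (fun a : {x : F // σ x = x} =>
    (⟨M.e ![(a : F), 0], mem_inf.2 ⟨⟨a, rfl⟩, (key a).1 a.2⟩⟩ : ↥(M.R ⊓ centralizer ({s} : Set G)))) ⟨?_, ?_⟩)).symm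
  · intro a b h
    have h1 := M.e_inj (congrArg Subtype.val h)
    exact Subtype.ext (by simpa using congrFun h1 0)
  · rintro ⟨_, ⟨a, rfl⟩, ha⟩
    exact ⟨⟨a, (key a).2 ha⟩, rfl⟩

/-- `|C_R(s)|² = |R|` if `s` induces an involution on `F` -/
theorem card_fixR_sq [Finite F] [CharP F 2] {s : G} {σ : F ≃+* F} {c : F} (h : M.Act s σ c)
    (h1 : σ ≠ RingEquiv.refl F) (h2 : ∀ x, σ (σ x) = x) :
    Nat.card ↥(M.R ⊓ centralizer ({s} : Set G)) * Nat.card ↥(M.R ⊓ centralizer ({s} : Set G)) = Nat.card F := by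
  rw [M.card_fixR h, card_fixed h1 h2]

/-- the vectors fixed by `s` modulo `R` -/
def fixV {s : G} {σ : F ≃+* F} {c : F} (h : M.Act s σ c) : Subgroup G where
  carrier := {g | ∃ x : Fin 2 → F, σ (x 1) = x 1 ∧ M.e x = g}
  mul_mem' := by
    rintro _ _ ⟨x, hx, rfl⟩ ⟨y, hy, rfl⟩
    exact ⟨x + y, by rw [Pi.add_apply, map_add, hx, hy], M.e_add _ _⟩
  one_mem' := ⟨0, by simp, M.e_zero⟩
  inv_mem' := by
    rintro _ ⟨x, hx, rfl⟩
    exact ⟨-x, by rw [Pi.neg_apply, map_neg, hx], M.e_neg _⟩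

theorem mem_fixV {s : G} {σ : F ≃+* F} {c : F} (h : M.Act s σ c) {v : G} :
    v ∈ M.fixV h ↔ v ∈ V ∧ s * v * s⁻¹ * v⁻¹ ∈ M.R := by
  constructor
  · rintro ⟨x, hx, rfl⟩
    refine ⟨M.e_mem _, ?_⟩
    rw [h, ← M.e_sub, M.e_mem_R]
    simp [hx]
  · rintro ⟨hv, hvR⟩
    obtain ⟨x, rfl⟩ := (M.mem_iff v).1 hv
    rw [h, ← M.e_sub, M.e_mem_R] at hvR
    exact ⟨x, sub_eq_zero.1 (by simpa using hvR), rfl⟩

theorem card_fixV {s : G} {σ : F ≃+* F} {c : F} (h : M.Act s σ c) :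
    Nat.card (M.fixV h) = Nat.card F * Nat.card {x : F // σ x = x} := by
  rw [← Nat.card_prod]
  refine (Nat.card_congr (Equiv.ofBijective (fun a : F × {x : F // σ x = x} =>
    (⟨M.e ![a.1, (a.2 : F)], ![a.1, (a.2 : F)], a.2.2, rfl⟩ : M.fixV h)) ⟨?_, ?_⟩)).symm
  · rintro ⟨a, b⟩ ⟨a', b'⟩ h
    have h1 := M.e_inj (congrArg Subtype.val h)
    have h2 : a = a' := by simpa using congrFun h1 0
    have h3 : b = b' := Subtype.ext (by simpa using congrFun h1 1)
    rw [h2, h3]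
  · rintro ⟨_, x, hx, rfl⟩
    refine ⟨⟨x 0, ⟨x 1, hx⟩⟩, Subtype.ext ?_⟩
    show M.e ![x 0, x 1] = M.e x
    congr 1
    apply ext2 <;> rfl

/-- a subgroup of `S` with squares in `C(R)`, not in `C(R)`: all elements outside `C(R)` induce the same involution -/
theorem exists_phi [Finite F] {D : Subgroup G} (hD : D ≤ S) (hsq : ∀ a ∈ D, a ^ 2 ∈ centralizer (M.R : Set G))
    (hne : ¬ D ≤ centralizer (M.R : Set G)) : ∃ φ : F ≃+* F, φ ≠ RingEquiv.refl F ∧ (∀ x, φ (φ x) = x) ∧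
      ∀ a ∈ D, a ∉ centralizer (M.R : Set G) → ∃ c, M.Act a φ c := by
  obtain ⟨d, hd, hdR⟩ := SetLike.not_le_iff_exists.1 hne
  have key : ∀ a ∈ D, a ∉ centralizer (M.R : Set G) → ∃ σ c, M.Act a σ c ∧ σ ≠ RingEquiv.refl F ∧
      ∀ x, σ (σ x) = x := by
    intro a ha haR
    obtain ⟨σ, c, h⟩ := M.exists_act (hD ha)
    refine ⟨σ, c, h, fun h1 => haR (h.mem_centR.2 h1), fun x => ?_⟩
    have h2 := hsq a ha
    rw [pow_two] at h2
    have h3 := (h.mul h).mem_centR.1 h2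
    exact congrArg (fun τ : F ≃+* F => τ x) h3
  obtain ⟨φ, c, h, h1, h2⟩ := key d hd hdR
  refine ⟨φ, h1, h2, fun a ha haR => ?_⟩
  obtain ⟨σ, c', h', h1', h2'⟩ := key a ha haR
  obtain rfl := inv_unique h1' h2' h1 h2
  exact ⟨c', h'⟩

theorem relIndex_two [Finite F] {D : Subgroup G} (hD : D ≤ S) (hsq : ∀ a ∈ D, a ^ 2 ∈ centralizer (M.R : Set G))
    (hne : ¬ D ≤ centralizer (M.R : Set G)) : (centralizer (M.R : Set G)).relIndex D = 2 := by
  obtain ⟨φ, h1, h2, h3⟩ := M.exists_phi hD hsq hne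
  obtain ⟨d, hd, hdR⟩ := SetLike.not_le_iff_exists.1 hne
  rw [relIndex, Subgroup.index_eq_two_iff]
  refine ⟨⟨d, hd⟩, fun b => ?_⟩
  rw [mem_subgroupOf, mem_subgroupOf]
  obtain ⟨c, hc⟩ := h3 d hd hdR
  have hbd : ∀ σ c', M.Act (b : G) σ c' → ((b : G) * d ∈ centralizer (M.R : Set G) ↔ φ.trans σ = RingEquiv.refl F) :=
    fun σ c' h => (h.mul hc).mem_centR
  by_cases hb : (b : G) ∈ centralizer (M.R : Set G)
  · right
    refine ⟨hb, fun h4 => ?_⟩
    exact hdR ((Subgroup.mul_mem_cancel_left _ hb).1 h4)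
  · left
    refine ⟨?_, hb⟩
    obtain ⟨c', hc'⟩ := h3 b b.2 hb
    exact (hbd φ c' hc').2 (RingEquiv.ext h2)

/-- `|R : C_R(D)|² = |R|` -/
theorem card_fixR_D [Finite F] [CharP F 2] {D : Subgroup G} (hD : D ≤ S)
    (hsq : ∀ a ∈ D, a ^ 2 ∈ centralizer (M.R : Set G)) (hne : ¬ D ≤ centralizer (M.R : Set G)) :
    Nat.card ↥(M.R ⊓ centralizer (D : Set G)) * Nat.card ↥(M.R ⊓ centralizer (D : Set G)) = Nat.card F := by
  obtain ⟨φ, h1, h2, h3⟩ := M.exists_phi hD hsq hne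
  obtain ⟨d, hd, hdR⟩ := SetLike.not_le_iff_exists.1 hne
  obtain ⟨c, hc⟩ := h3 d hd hdR
  have e : M.R ⊓ centralizer (D : Set G) = M.R ⊓ centralizer ({d} : Set G) := by
    apply le_antisymm
    · exact inf_le_inf_left _ (centralizer_le (Set.singleton_subset_iff.2 hd))
    · rintro r ⟨hr, hrd⟩
      refine ⟨hr, mem_centralizer_iff.2 fun a ha => ?_⟩
      have hrd' : d * r = r * d := (mem_centralizer_singleton_iff.1 hrd).symm
      by_cases haR : a ∈ centralizer (M.R : Set G)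
      · exact (mem_centralizer_iff.1 haR r hr).symm
      · -- `a d⁻¹` centralises `R`
        obtain ⟨c', hc'⟩ := h3 a ha haR
        have h4 : a * d ∈ centralizer (M.R : Set G) := (hc'.mul hc).mem_centR.2 (RingEquiv.ext h2)
        have h5 := mem_centralizer_iff.1 h4 r hr
        calc a * r = a * (d * r) * d⁻¹ := by rw [hrd']; group
          _ = (a * d * r) * d⁻¹ := by group
          _ = (r * (a * d)) * d⁻¹ := by rw [← h5]
          _ = r * a := by group
  rw [e, M.card_fixR_sq hc h1 h2]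

/-! ### `Ω₁(Z(S))` -/

/-- some element of `S` induces a nontrivial field automorphism if `Ω₁(Z(S)) ≠ R` -/
theorem zc_eq (hV : V ≤ S) (hZ : zc S ≤ V) [CharP F 2] : zc S = M.R ⊓ centralizer (S : Set G) := by
  apply le_antisymm
  · intro z hz
    have h1 := mem_zc.1 hz
    exact ⟨M.mem_R_of_comm (hZ hz) fun b hb _ => h1.2.2 b hb, mem_centralizer_iff.2 fun s hs => h1.2.2 s hs⟩
  · rintro z ⟨hz, hzS⟩
    have hzV := M.R_le hz
    exact mem_zc.2 ⟨hV hzV, by rw [pow_two]; exact M.sq hzV, fun s hs => mem_centralizer_iff.1 hzS s hs⟩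

theorem not_le_centR (hV : V ≤ S) (hZ : zc S ≤ V) [CharP F 2] (hc : Nat.card (zc S) ≠ Nat.card F) :
    ¬ S ≤ centralizer (M.R : Set G) := by
  intro hle
  apply hc
  rw [M.zc_eq hV hZ, ← M.card_R, inf_eq_left.2]
  rw [le_centralizer_iff]
  exact hle

theorem le_centR (hV : V ≤ S) (hZ : zc S ≤ V) [CharP F 2] [Finite G] (hc : Nat.card (zc S) = Nat.card F) :
    S ≤ centralizer (M.R : Set G) := by
  rw [← le_centralizer_iff]
  have h1 : M.R ⊓ centralizer (S : Set G) = M.R := by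
    refine Subgroup.eq_of_le_of_card_ge inf_le_left ?_
    rw [← M.zc_eq hV hZ, hc, M.card_R]
  exact inf_eq_left.1 h1

end Crd

end Cfsg.Agent.Omega.NO3S.Fld

end

section


/-!
# Fld: what LEMMA UNIQ over `B` needs from the FF theorem

`Pt S P` (`P ∈ P(S)` a member with `J(S) ≰ O₂(P)`; `V = V_P`, `V₁ = C_V(J(S))`, `D = C_V(O²(P))`):
no over-offenders on `V`, `|C_S(V₁) : O₂(P)| ≤ |V₁|` and `|V| |D| ≤ |V₁|²`.
`pt_of` : it holds, by the FF theorem (`k` natural `SL₂(q)`-modules or `k` even-subset modules).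
-/

set_option autoImplicit false
set_option linter.unusedSectionVars false
set_option linter.unusedVariables false

namespace Cfsg.Agent.Omega.NO3S.Fld

open Subgroup Cfsg Cfsg.Agent.ZN Cfsg.Agent.ZN.ChoiceBase Cfsg.Agent.Omega.MinPar
open Cfsg.Agent.ZN.ChoiceSit (Syl o2_le_syl)
open Cfsg.Agent.Omega.SQ1.Bau (mem_AA_of_comm zj_le_AA elem_comm elem_sq)
open Cfsg.Agent.Omega.SQ1.BauK (V1 mem_V1)
open Cfsg.Agent.Omega.SQ1
open Cfsg.Agent.PLocal.ElemAbSup Cfsg.Agent.PLocal.ThompsonJ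
open Cfsg.Agent.MinSimple.VModule (zc_le zc_le_zl zl_le le_o2 le_normalizer_zl le_normalizer_o2)
open Cfsg.Agent.Omega.SQ1.FFOne Cfsg.Agent.Omega.SQ1.FFSym Cfsg.Agent.Lib.SL2Mat
open Cfsg.Agent.Omega.FFThm (NatK SymK Off NoOver ActsSym)
open Cfsg.Agent.Omega.FrameFF (cv)
open Cfsg.Agent.Omega.NatPair (ap ap_zero' ap_one' ap_one ap_mul ap_add ap_smul ext2)
open Cfsg.Agent.Omega.NO3S.OneLine (syT syl_of minH card_mul_relIndex)

universe u

variable {G : Type u} [Group G]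

/-- What is used of the FF theorem for a member of `P(S)`. -/
structure Pt (S P : Subgroup G) : Prop where
  no : NoOver (zl S P) P
  cen : (o2 P).relIndex (S ⊓ centralizer (V1 S (zl S P) : Set G)) ≤ Nat.card (V1 S (zl S P))
  sq : Nat.card (zl S P) * Nat.card (cv S P) ≤ Nat.card (V1 S (zl S P)) ^ 2

/-- An injection modulo `K` bounds the index. -/
theorem relIndex_le_card {K C : Subgroup G} {X : Type*} [Finite X] (f : C → X)
    (hf : ∀ x y : C, f x = f y → (x : G)⁻¹ * y ∈ K) : K.relIndex C ≤ Nat.card X := by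
  rw [relIndex, index]
  refine Nat.card_le_card_of_injective (fun q : C ⧸ K.subgroupOf C => f q.out) ?_
  intro q q' h
  have h1 := hf _ _ h
  rw [← QuotientGroup.out_eq' q, ← QuotientGroup.out_eq' q', QuotientGroup.eq, mem_subgroupOf]
  exact h1

/-! ### Natural modules -/

section nat

variable [Finite G] {ι : Type} {F : Type*} [Field F] [Finite F] [CharP F 2] [Finite ι] [Nonempty ι]
  {H T V V0 : Subgroup G}

theorem natCen (hm : MinH H T) (M : FFK ι F H T V V0) :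
    (o2 H).relIndex (T ⊓ centralizer (V1 T V : Set G)) ≤ Nat.card (ι → F) := by
  let S : Subgroup G :=
    { carrier := {g | g ∈ H ∧ ∃ c, M.Up g c}
      mul_mem' := by
        rintro a b ⟨ha, c, hc⟩ ⟨hb, d, hd⟩
        exact ⟨mul_mem ha hb, c + d, FFK.Up.mul M hb hc hd⟩
      one_mem' := ⟨one_mem H, 0, FFK.Up.one M⟩
      inv_mem' := by
        rintro a ⟨ha, c, hc⟩
        exact ⟨inv_mem ha, -c, FFK.Up.inv M ha hc⟩ }
  have hle : jj T ⊔ o2 H ≤ S := by
    refine sup_le (fun j hj => ⟨hm.syl.1 (jj_le T hj), M.jj_up hm hj⟩) fun x hx => ?_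
    exact ⟨hm.syl.1 (o2_le_syl hm.syl hx), 0, M.up_zero_of_mem_Q hx⟩
  have key : ∀ x : (T ⊓ centralizer (V1 T V : Set G) : Subgroup G), ∃ c, M.Up x c := fun x => by
    have h1 := FFK.field hm M x.2.1 fun v hv => (mem_centralizer_iff.1 x.2.2 v hv).symm
    exact (hle h1).2
  choose f hf using key
  refine relIndex_le_card f fun x y hxy => ?_
  have h1 := FFK.Up.mul M (hm.syl.1 y.2.1) (FFK.Up.inv M (hm.syl.1 x.2.1) (hf x)) (hf y)
  rw [hxy, neg_add_cancel] at h1
  exact M.mem_Q_of_up_zero hm (mul_mem (inv_mem x.2.1) y.2.1) h1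

theorem natCard (hm : MinH H T) (M : FFK ι F H T V V0) :
    Nat.card V = Nat.card (V1 T V) * Nat.card (ι → F) := by
  have h1 := M.card_VS (Set.univ)
  have h2 : M.VS Set.univ = V1 T V := by
    ext v
    rw [M.mem_VS, M.mem_V1_iff hm]
    exact ⟨fun h => ⟨h.1, fun i => h.2 i trivial⟩, fun h => ⟨h.1, fun i _ => h.2 i⟩⟩
  rw [h2] at h1
  rw [h1]
  congr 1
  exact Nat.card_congr (Equiv.arrowCongr (Equiv.Set.univ ι) (Equiv.refl F))

theorem natCard1 (hm : MinH H T) (M : FFK ι F H T V V0) :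
    Nat.card (V1 T V) = Nat.card V0 * Nat.card (ι → F) := by
  have hmul : ∀ v ∈ V1 T V, ∀ w ∈ V1 T V, (fun (v : G) (i : ι) => M.π i v 0) (v * w) =
      (fun (v : G) (i : ι) => M.π i v 0) v + (fun (v : G) (i : ι) => M.π i v 0) w := by
    intro v hv w hw
    funext i
    show M.π i (v * w) 0 = M.π i v 0 + M.π i w 0
    rw [M.map_mul i v hv.1 w hw.1]; rfl
  have hmul' : ∀ v ∈ V1 T V, ∀ w ∈ V1 T V, (fun (v : G) (i : (Set.univ : Set ι)) => M.π i v 0) (v * w) =
      (fun (v : G) (i : (Set.univ : Set ι)) => M.π i v 0) v + (fun (v : G) (i : (Set.univ : Set ι)) => M.π i v 0) w := by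
    intro v hv w hw
    funext i
    exact congrFun (hmul v hv w hw) i
  have h0V : V0 ≤ V1 T V := fun v hv => (M.mem_V1_iff hm).2
    ⟨M.V0V hv, fun i => by rw [(M.ker v (M.V0V hv)).2 hv i]; rfl⟩
  refine card_of_map (fun (v : G) (i : ι) => M.π i v 0) hmul h0V ?_ ?_
  · intro v hv
    have hv' := (M.mem_V1_iff hm).1 hv
    rw [← M.ker v hv'.1]
    constructor
    · intro h i
      exact ext2 (congrFun h i) (hv'.2 i)
    · intro h
      funext i
      show M.π i v 0 = 0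
      rw [h i]; rfl
  · intro c
    obtain ⟨v, hv, h⟩ := FFK.pi_surj (S := (Set.univ : Set ι)) (K := V1 T V)
      (fun (v : G) (i : (Set.univ : Set ι)) => M.π i v 0) hmul' (by
        intro i a
        obtain ⟨v, hv, e, hj⟩ := M.surj i ![a, 0]
        refine ⟨v, (M.mem_V1_iff hm).2 ⟨hv, fun j => ?_⟩, ?_, fun j hji => ?_⟩
        · by_cases hj' : j = i
          · subst hj'; rw [e]; rfl
          · rw [hj j hj']; rfl
        · show M.π i v 0 = a
          rw [e]; rfl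
        · show M.π j v 0 = 0
          rw [hj j fun h => hji (Subtype.ext h)]; rfl) (fun j => c j)
    refine ⟨v, hv, ?_⟩
    funext i
    exact congrFun h ⟨i, trivial⟩

end nat

/-! ### Even-subset modules -/

section sym

variable [Finite G] {T H Q V D : Subgroup G} {k n : ℕ} {o : Fin n} {e : G → Fin k → Fin n → ZMod 2}
  {ι : Type} {J : ι → Fin k} {X Y : ι → Fin n} {t r : ι → G}

theorem two_eq {a : ZMod 2} (h : a ≠ 0) : a = 1 := by
  revert a; decide

/-- the coordinates of `u i` -/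
theorem e_u_val (h : SyT T H Q V D o e) (c : SyT.Ch T H V D o e J X Y t r) (i l : ι) [Decidable (l = i)] :
    e (u H V D e (J i) (X i) (Y i)) (J l) (X l) = (if l = i then 1 else 0) ∧
      e (u H V D e (J i) (X i) (Y i)) (J l) (Y l) = (if l = i then 1 else 0) := by
  have h1 := h.e_u (J i) (X i) (Y i)
  rw [h1]
  have hxy := (c.tr i).1
  by_cases hli : l = i
  · subst hli
    rw [if_pos rfl]
    constructor
    · rw [Pi.add_apply, Pi.add_apply, E_self, E_ne fun h => hxy h.2, add_zero]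
    · rw [Pi.add_apply, Pi.add_apply, E_self, E_ne fun h => hxy h.2.symm, zero_add]
  · rw [if_neg hli]
    by_cases hJ : J l = J i
    · obtain ⟨a1, a2, a3, a4⟩ := c.cases h hli hJ
      constructor
      · rw [Pi.add_apply, Pi.add_apply, E_ne fun h => a1 h.2, E_ne fun h => a2 h.2, add_zero]
      · rw [Pi.add_apply, Pi.add_apply, E_ne fun h => a3 h.2, E_ne fun h => a4 h.2, add_zero]
    · constructor
      · rw [Pi.add_apply, Pi.add_apply, E_ne fun h => hJ h.1, E_ne fun h => hJ h.1, add_zero]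
      · rw [Pi.add_apply, Pi.add_apply, E_ne fun h => hJ h.1, E_ne fun h => hJ h.1, add_zero]

theorem D_le_V1 (h : SyT T H Q V D o e) (c : SyT.Ch T H V D o e J X Y t r) : D ≤ V1 T V := fun v hv =>
  mem_V1.2 ⟨h.DV hv, fun j hj => (mem_centralizer_iff.1 (c.EE_cent h (c.Jt h hj)) v (Or.inr hv)).symm⟩

theorem u_mem_V1 (h : SyT T H Q V D o e) (c : SyT.Ch T H V D o e J X Y t r) (i : ι) :
    u H V D e (J i) (X i) (Y i) ∈ V1 T V :=
  mem_V1.2 ⟨h.u_mem _ _ _, fun j hj =>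
    (mem_centralizer_iff.1 (c.EE_cent h (c.Jt h hj)) _ (Or.inl ⟨i, rfl⟩)).symm⟩

/-- vectors of `V₁` with given coordinates -/
theorem exists_V1 (h : SyT T H Q V D o e) (c : SyT.Ch T H V D o e J X Y t r) [Finite ι] (f : ι → ZMod 2) :
    ∃ w ∈ V1 T V, ∀ l, e w (J l) (X l) = f l ∧ e w (J l) (Y l) = f l := by
  classical
  have := Fintype.ofFinite ι
  have key : ∀ s : Finset ι, ∃ w ∈ V1 T V, ∀ l, e w (J l) (X l) = (if l ∈ s then f l else 0) ∧
      e w (J l) (Y l) = (if l ∈ s then f l else 0) := by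
    intro s
    induction s using Finset.induction_on with
    | empty =>
      refine ⟨1, one_mem _, fun l => ?_⟩
      rw [h.e_one]
      simp
    | insert i s hi ih =>
      obtain ⟨w, hw, hwl⟩ := ih
      by_cases hf : f i = 0
      · refine ⟨w, hw, fun l => ?_⟩
        rw [(hwl l).1, (hwl l).2]
        by_cases hl : l = i
        · subst hl
          simp [hi, hf]
        · simp [hl]
      · refine ⟨w * u H V D e (J i) (X i) (Y i), mul_mem hw (u_mem_V1 h c i), fun l => ?_⟩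
        obtain ⟨h1, h2⟩ := e_u_val h c i l
        rw [h.mul w hw.1 _ (h.u_mem _ _ _), Pi.add_apply, Pi.add_apply, Pi.add_apply, h1, h2, (hwl l).1, (hwl l).2]
        by_cases hl : l = i
        · subst hl
          simp [hi, two_eq hf]
        · simp [hl]
  obtain ⟨w, hw, h1⟩ := key Finset.univ
  exact ⟨w, hw, fun l => by simpa only [_root_.Finset.mem_univ, ↓ _root_.reduceIte] using h1 l⟩

/-- a vector of `V` is determined modulo `D` by its coordinates at the transposed points -/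
theorem mem_D_of (h : SyT T H Q V D o e) (c : SyT.Ch T H V D o e J X Y t r) {v : G} (hv : v ∈ V)
    (h1 : ∀ l, e v (J l) (X l) = 0 ∧ e v (J l) (Y l) = 0) : v ∈ D := by
  rw [← h.ker v hv]
  have key : ∀ j x, x ≠ o → e v j x = 0 := by
    intro j x hx
    obtain ⟨y, hy⟩ := h.cover SymCyc.exists_pow j hx
    obtain ⟨i, hiJ, -, -, hi⟩ := c.exists_idx h hy
    rcases hi with ⟨hi, -⟩ | ⟨-, hi⟩
    · rw [← hiJ, ← hi]; exact (h1 i).1
    · rw [← hiJ, ← hi]; exact (h1 i).2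
  funext j x
  by_cases hx : x = o
  · subst hx
    have h2 := h.even v hv j
    rw [Finset.sum_eq_single x (fun y _ hy => key j y hy) (fun hx => absurd (Finset.mem_univ x) hx)] at h2
    exact h2
  · exact key j x hx

/-- the coordinates of the vectors fixed by `J(T)` -/
theorem e_V1 (h : SyT T H Q V D o e) (c : SyT.Ch T H V D o e J X Y t r) {v : G} (hv : v ∈ V1 T V) (l : ι) :
    e v (J l) (X l) = e v (J l) (Y l) := by
  have h1 := (mem_V1.1 hv).2 (t l) (c.tJ l)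
  have h2 := (c.tg l).act v hv.1 (J l) (Y l)
  rw [Equiv.Perm.one_apply, Pi.mulSingle_eq_same, Equiv.swap_apply_right, h1, mul_inv_cancel_right] at h2
  exact h2

theorem mem_V1_of (h : SyT T H Q V D o e) (c : SyT.Ch T H V D o e J X Y t r) [Finite ι] {v : G} (hv : v ∈ V)
    (h1 : ∀ l, e v (J l) (X l) = e v (J l) (Y l)) : v ∈ V1 T V := by
  obtain ⟨w, hw, h2⟩ := exists_V1 h c fun l => e v (J l) (X l)
  have h3 : v * w ∈ D := by
    refine mem_D_of h c (mul_mem hv hw.1) fun l => ?_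
    rw [h.mul v hv w hw.1, Pi.add_apply, Pi.add_apply, Pi.add_apply, (h2 l).1, (h2 l).2, ← h1 l]
    exact ⟨CharTwo.add_self_eq_zero _, CharTwo.add_self_eq_zero _⟩
  have h4 := mul_mem (D_le_V1 h c h3) (inv_mem hw)
  rwa [mul_inv_cancel_right] at h4

theorem symCard1 (h : SyT T H Q V D o e) (c : SyT.Ch T H V D o e J X Y t r) [Finite ι] :
    Nat.card (V1 T V) = Nat.card D * Nat.card (ι → ZMod 2) := by
  refine card_of_map (fun (v : G) (i : ι) => e v (J i) (X i)) ?_ (D_le_V1 h c) ?_ ?_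
  · intro v hv w hw
    funext i
    show e (v * w) (J i) (X i) = e v (J i) (X i) + e w (J i) (X i)
    rw [h.mul v hv.1 w hw.1]; rfl
  · intro v hv
    constructor
    · intro h1
      refine mem_D_of h c hv.1 fun l => ?_
      rw [← e_V1 h c hv l]
      exact ⟨congrFun h1 l, congrFun h1 l⟩
    · intro h1
      funext i
      show e v (J i) (X i) = 0
      rw [(h.ker v hv.1).2 h1]; rfl
  · intro f
    obtain ⟨w, hw, h1⟩ := exists_V1 h c f
    exact ⟨w, hw, funext fun l => (h1 l).1⟩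

theorem symCard (h : SyT T H Q V D o e) (c : SyT.Ch T H V D o e J X Y t r) [Finite ι] :
    Nat.card V ≤ Nat.card (V1 T V) * Nat.card (ι → ZMod 2) := by
  rw [← card_mul_relIndex (inf_le_left : V1 T V ≤ V)]
  refine Nat.mul_le_mul_left _ (relIndex_le_card (fun (v : V) (i : ι) =>
    e (v : G) (J i) (X i) + e (v : G) (J i) (Y i)) fun x y hxy => ?_)
  refine mem_V1_of h c (mul_mem (inv_mem x.2) y.2) fun l => ?_
  rw [h.mul _ (inv_mem x.2) _ y.2, h.e_inv x.2]
  have h1 : e (x : G) (J l) (X l) + e (x : G) (J l) (Y l) = e (y : G) (J l) (X l) + e (y : G) (J l) (Y l) :=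
    congrFun hxy l
  have h2 := CharTwo.add_self_eq_zero (e (y : G) (J l) (X l))
  have h3 := CharTwo.add_self_eq_zero (e (x : G) (J l) (Y l))
  simp only [Pi.add_apply]
  linear_combination h1 + h2 - h3

/-- the elements of `T` centralising `V₁` -/
theorem symCen (h : SyT T H Q V D o e) (c : SyT.Ch T H V D o e J X Y t r) [Finite ι] :
    Q.relIndex (T ⊓ centralizer (V1 T V : Set G)) ≤ Nat.card (ι → ZMod 2) := by
  classical
  have key : ∀ x : (T ⊓ centralizer (V1 T V : Set G) : Subgroup G), ∃ τ, Gd H V D e τ x ∧ (∀ j, τ j o = o) ∧ ∀ i,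
      (τ (J i) (X i) = X i ∧ τ (J i) (Y i) = Y i) ∨ (τ (J i) (X i) = Y i ∧ τ (J i) (Y i) = X i) := by
    rintro ⟨x, hx, hxc⟩
    have hxc' : ∀ v ∈ V1 T V, x * v = v * x := fun v hv => (mem_centralizer_iff.1 hxc v hv).symm
    obtain ⟨σ, τ, hxa, h0⟩ := h.exists_act hx
    have key : ∀ j a b, SyT.Tr T H V D e j a b → σ j = j ∧
        ((τ j a = a ∧ τ j b = b) ∨ (τ j a = b ∧ τ j b = a)) := by
      intro j a b hT
      obtain ⟨i, -, -, hi, -⟩ := c.exists_idx h hT
      have h1 := h.u_conj (h.TH hx) hxa j a b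
      have h2 := hxc' _ (u_mem_V1 h c i)
      rw [hi] at h2
      have h3 : u H V D e (σ j) (τ j a) (τ j b) = u H V D e j a b := by
        rw [← h1, h2]; group
      exact h.u_inj (fun e => hT.1 ((τ j).injective e)) h3
    have hσ : σ = 1 := by
      ext j
      obtain ⟨z, hz, -⟩ := h.exists_third o o
      obtain ⟨y, hy⟩ := h.cover SymCyc.exists_pow j hz
      rw [(key j z y hy).1]; rfl
    subst hσ
    exact ⟨τ, ⟨h.TH hx, fun d hd => hxc' d (D_le_V1 h c hd), hxa⟩, h0, fun i => (key _ _ _ (c.tr i)).2⟩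
  choose f hf h0 hf' using key
  refine relIndex_le_card (fun x i => if f x (J i) (X i) = X i then (0 : ZMod 2) else 1) fun x y hxy => ?_
  have h1 : f x = f y := by
    funext j
    ext1 z
    by_cases hz : z = o
    · rw [hz, h0, h0]
    · obtain ⟨z', hz'⟩ := h.cover SymCyc.exists_pow j hz
      obtain ⟨i, hiJ, -, -, hi⟩ := c.exists_idx h hz'
      have hne := (c.tr i).1
      have h2 := congrFun hxy i
      have h3 : (f x (J i) (X i) = X i) ↔ (f y (J i) (X i) = X i) := by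
        by_cases h4 : f x (J i) (X i) = X i <;> by_cases h5 : f y (J i) (X i) = X i
        · exact ⟨fun _ => h5, fun _ => h4⟩
        · simp only [h4, h5, ↓ _root_.reduceIte, _root_.zero_ne_one] at h2
        · simp only [h4, h5, ↓ _root_.reduceIte, _root_.one_ne_zero] at h2
        · exact ⟨fun h => absurd h h4, fun h => absurd h h5⟩
      have h6 : f x (J i) (X i) = f y (J i) (X i) ∧ f x (J i) (Y i) = f y (J i) (Y i) := by
        rcases hf' x i with ⟨a1, a2⟩ | ⟨a1, a2⟩ <;> rcases hf' y i with ⟨b1, b2⟩ | ⟨b1, b2⟩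
        · exact ⟨a1.trans b1.symm, a2.trans b2.symm⟩
        · exact absurd ((h3.1 a1).symm.trans b1) hne
        · exact absurd ((h3.2 b1).symm.trans a1) hne
        · exact ⟨a1.trans b1.symm, a2.trans b2.symm⟩
      rw [← hiJ]
      rcases hi with ⟨hi, -⟩ | ⟨-, hi⟩
      · rw [← hi]; exact h6.1
      · rw [← hi]; exact h6.2
  have h2 := h.gd_mul (h.gd_inv (hf x)) (hf y)
  rw [h1, inv_mul_cancel] at h2
  refine h.cT _ (mul_mem (inv_mem x.2.1) y.2.1) fun v hv => ?_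
  have h3 := h.gd_sim h2 h.gd_one v hv
  rw [one_mul, inv_one, mul_one] at h3
  calc (x : G)⁻¹ * y * v = ((x : G)⁻¹ * y * v * ((x : G)⁻¹ * y)⁻¹) * ((x : G)⁻¹ * y) := by group
    _ = v * ((x : G)⁻¹ * y) := by rw [h3]

end sym

/-! ### The result -/

variable [Finite G] {S : Sylow 2 G} {R : Subgroup G}

/-- **A member of `P*(S)` with `J(S) ≰ O₂(R)`.** -/
theorem pt_of (hFF : FFThm.Stmt.{u}) (hG : IsCharacteristicTwoType G) (hR : IsParS (S : Subgroup G) R)
    (hJ : ¬ jj (S : Subgroup G) ≤ o2 R) : Pt (S : Subgroup G) R := by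
  have hsyl := syl_of hR
  have hch := hR.isLoc.char2 S hG
  have hm := minH hG hR
  have hJC : ¬ jj (S : Subgroup G) ≤ centralizer (zl (S : Subgroup G) R : Set G) := by
    intro hle
    apply hJ
    rw [← IsParS.inf_centralizer S hG hR]
    exact le_inf (jj_le _) hle
  obtain ⟨A, hA, hAV⟩ : ∃ A ∈ AA (S : Subgroup G), ¬ A ≤ centralizer (zl (S : Subgroup G) R : Set G) := by
    by_contra hcon
    push Not at hcon
    apply hJC
    rw [jj_eq]
    exact sSup_le hcon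
  have hoff : Off (zl (S : Subgroup G) R) A := SQ1.FFOf.off_of_AA hm hA hAV
  obtain ⟨hno, hcon⟩ := hFF G (S : Subgroup G) R hsyl hR.toIsMinPar hch ⟨A, hA.2.1.trans hsyl.1, hoff⟩
  rcases hcon with ⟨F, _, _, _, k, hk, ⟨M⟩⟩ | ⟨k, m, hk, hm2, ⟨M⟩⟩
  · have : Nonempty (Fin k) := ⟨⟨0, hk⟩⟩
    let N := (natKB_of hsyl hch hJ hk M).toFFK hm
    have h1 := natCen hm N
    have h2 := natCard hm N
    have h3 := natCard1 hm N
    refine ⟨hno, h1.trans ?_, ?_⟩
    · rw [h3]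
      exact Nat.le_mul_of_pos_left _ Nat.card_pos
    · rw [h2, pow_two, mul_assoc]
      refine Nat.mul_le_mul_left _ ?_
      rw [h3, mul_comm]
  · have hcs : (R ⊓ centralizer (zl (S : Subgroup G) R : Set G)) ⊔ (S : Subgroup G) ≠ R := by
      intro e
      apply hR.not_zc
      rw [← e]
      refine sup_le ?_ ?_
      · exact (inf_le_right.trans (centralizer_le (zc_le_zl _ _))).trans (centralizer_le_normalizer _)
      · refine le_trans (fun s hs => ?_) (centralizer_le_normalizer _)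
        exact mem_centralizer_iff.2 fun z hz => ((mem_zc.1 hz).2.2 s hs).symm
    have h := _root_.Cfsg.Agent.Omega.NO3S.OneLine.syT hm hcs ⟨A, hA, hoff⟩ hno M hk (by omega) SQ1.FFOf.cv_le SQ1.FFOf.cv_norm
    obtain ⟨ι, J, X, Y, t, r, c⟩ := h.exists_ch
    have : Finite ι := Finite.of_injective _ fun i j hij => c.inj i j hij
    have h1 := symCen h c
    have h2 := symCard h c
    have h3 := symCard1 h c
    refine ⟨hno, h1.trans ?_, ?_⟩
    · rw [h3]
      exact Nat.le_mul_of_pos_left _ Nat.card_pos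
    · calc _ ≤ Nat.card (V1 (S : Subgroup G) (zl (S : Subgroup G) R)) * Nat.card (ι → ZMod 2) *
            Nat.card (cv (S : Subgroup G) R) := Nat.mul_le_mul_right _ h2
        _ = Nat.card (V1 (S : Subgroup G) (zl (S : Subgroup G) R)) *
            (Nat.card (cv (S : Subgroup G) R) * Nat.card (ι → ZMod 2)) := by ring
        _ = _ := by rw [← h3, pow_two]

end Cfsg.Agent.Omega.NO3S.Fld

end

private theorem dce_1f3ba64b9cfb : _root_.True := by
  try have : _root_.True := by simp only [_root_.Cfsg.Agent.Omega.NO3S.Fld.Crd.rt.eq_1]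
  exact _root_.True.intro
end

-- part: Mrg/Omega/NO3S/OneLine/LevOf
section
prune_inst 0xc0000000112202000018000000001c4282000102000800006000008004c02da0a5412121b420110008120b4400380008124400000000000000000000011904a1800810001100a000000009000080000000000000000000000000000000000000000000000
set_option linter.all false
open scoped Cfsg.Agent.FastGrp

section


/-!
# LEMMA UNIQ at every level (helper781 #16560 (3); helper44 #14528)

`X` an elementary abelian subgroup of `S` which is normalised by all members `R` of `P*(S)` and contains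
`Ω₁(Z(O₂(R)))`; some best offender of `S` on `X` is not contained in `O₂(P)`, `V_P` natural, `|Z| = q`: then
`V_R = V_P` and `C_Z(R) = 1` for all `R ∈ P*(S)`.

* `n1_of_star_fam` : the members of `P*(S)` if `C_X(AA) = Z`;
* `uniq_fam` : LEMMA UNIQ for a family `AA` of best offenders;
* `uniq_bo` : LEMMA UNIQ for the best offenders on `X`;
* `uniq_lev` : LEMMA UNIQ for the level `K` of `Level/Basic.lean`.
-/

set_option autoImplicit false
set_option linter.unusedSectionVars false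
set_option linter.unusedVariables false

namespace Cfsg.Agent.Omega.NO3S.OneLine

open Subgroup Cfsg Cfsg.Agent.ZN Cfsg.Agent.ZN.ChoiceBase Cfsg.Agent.Omega.MinPar
open Cfsg.Agent.ZN.ChoiceSit (Syl o2_le_syl)
open Cfsg.Agent.Omega.SQ1.Bau (mem_AA_of_comm zj_le_AA elem_comm elem_sq)
open Cfsg.Agent.PLocal.ElemAbSup Cfsg.Agent.PLocal.ThompsonJ
open Cfsg.Agent.MinSimple.VModule (zc_le zc_le_zl zl_le le_o2 le_normalizer_zl le_normalizer_o2)
open Cfsg.Agent.Omega.SQ1.FFOne Cfsg.Agent.Lib.SL2Mat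
open Cfsg.Agent.Omega.FFThm (NatK SymK NatKM SymKM OffM ElemM StmtM)
open Cfsg.Agent.Omega.FrameFF (cv)

universe u

variable {G : Type u} [Group G] [Finite G] {S : Sylow 2 G} {P R : Subgroup G} {X L : Subgroup G}
  {AA : Set (Subgroup G)}

/-- Members of the family are offenders in the sense of the FF theorem. -/
theorem BFam.offM {T Y A : Subgroup G} (h : BFam T X L AA) (hX : ∀ x ∈ X, ∀ y ∈ X, x * y = y * x) (hYX : Y ≤ X)
    (hA : A ∈ AA) (hne : ¬ A ≤ centralizer (Y : Set G)) : OffM Y A :=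
  ⟨elemM_mono (h.elem A hA) hYX le_rfl, hne, h.off hX hYX hA⟩

/-- **The members of `P*(S)` if `C_X(AA) = Z`.** -/
theorem n1_of_star_fam (hFF : StmtM.{u}) (hG : IsCharacteristicTwoType G)
    (hB : BFam (S : Subgroup G) X L AA) (hX : IsElementaryAbelian 2 X) (hR : IsParS (S : Subgroup G) R)
    (hRX : R ≤ normalizer (X : Set G)) (hRL : R ≤ L) (hQX : zc (o2 R) ≤ X)
    (hz : X ⊓ centralizer ((sSup AA : Subgroup G) : Set G) = zc (S : Subgroup G)) :
    (∃ A ∈ AA, ¬ A ≤ o2 R) ∧ ∃ (V0 : Subgroup G) (q : ℕ), 2 ≤ q ∧ N1 (S : Subgroup G) R V0 q := by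
  have hXc : ∀ x ∈ X, ∀ y ∈ X, x * y = y * x := elem_comm hX
  have hsyl := syl_of hR
  have hch := hR.isLoc.char2 S hG
  have hmin := hR.toIsMinPar
  have hm := minH hG hR
  have hQS := o2_le_syl hsyl
  have hJ : ∃ A ∈ AA, ¬ A ≤ o2 R := by
    by_contra hcon
    push Not at hcon
    apply hR.not_zc
    rw [← hz]
    intro g hg
    apply mem_normalizer_of_cj_le
    rw [cj_inf, cj_eq_of_mem_normalizer (hRX hg)]
    refine inf_le_inf_left _ ?_
    intro y hy
    rw [mem_cj, mem_cent_sSup] at hy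
    rw [mem_cent_sSup]
    intro B hB' b hb
    have h1 : cj g⁻¹ B ≤ o2 R := by
      have h2 := cj_mono g⁻¹ (hcon B hB')
      rwa [cj_eq_of_mem_normalizer (le_normalizer_o2 R (inv_mem hg))] at h2
    have h2 := hB.conj B hB' g⁻¹ (hRL (inv_mem hg)) (h1.trans hQS)
    have h3 := hy _ h2 (g⁻¹ * b * g) (by rw [mem_cj]; have e : g⁻¹⁻¹ * (g⁻¹ * b * g) * g⁻¹ = b := by group
                                         rwa [e])
    calc b * y = g * ((g⁻¹ * b * g) * (g⁻¹ * y * g)) * g⁻¹ := by group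
      _ = g * ((g⁻¹ * y * g) * (g⁻¹ * b * g)) * g⁻¹ := by rw [h3]
      _ = y * b := by group
  refine ⟨hJ, ?_⟩
  obtain ⟨A, hA, hAQ⟩ := hJ
  have hVX : zl (S : Subgroup G) R ≤ X := (hR.isLoc.zl_le S hG).trans hQX
  have hAV : ¬ A ≤ centralizer (zl (S : Subgroup G) R : Set G) := by
    intro h1
    apply hAQ
    rw [← IsParS.inf_centralizer S hG hR]
    exact le_inf (hB.le A hA) h1
  have hoff := hB.offM hXc hVX hA hAV
  obtain ⟨hno, hcon⟩ := hFF G (S : Subgroup G) R hsyl hmin hch ⟨A, (hB.le A hA).trans hsyl.1, hoff⟩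
  have hVS : zl (S : Subgroup G) R ≤ (S : Subgroup G) := (SQ1.VOf.MinH.zl_le_o2 hm).trans hQS
  rcases hcon with ⟨F, _, _, _, k, hk, ⟨M⟩⟩ | ⟨k, m, hk, hm2, ⟨M⟩⟩
  · have : Nonempty (Fin k) := ⟨⟨0, hk⟩⟩
    have hV1 : ∀ v ∈ zl (S : Subgroup G) R, (∀ i, M.e v i 1 = 0) → v ∈ zc (S : Subgroup G) := by
      intro v hv hi
      rw [← hz]
      refine ⟨hVX hv, mem_cent_sSup.2 fun B hB' b hb => ?_⟩
      by_cases hBV : B ≤ centralizer (zl (S : Subgroup G) R : Set G)
      · exact (mem_centralizer_iff.1 (hBV hb) v hv).symm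
      · obtain ⟨I, h1, h2⟩ := M.offM B (hB.le B hB') (hB.offM hXc hVX hB' hBV)
        exact (natC_of hm hk M.toNatK).cent_line hm (hB.le B hB') (hB.off hXc hVX hB') h1 h2 hv hi hb
    obtain rfl : k = 1 := by
      by_contra hk1
      obtain ⟨i, j, hij⟩ : ∃ i j : Fin k, i ≠ j :=
        ⟨⟨0, hk⟩, ⟨1, by omega⟩, fun h => by simpa using congrArg Fin.val h⟩
      classical
      obtain ⟨t, ht, htr⟩ := M.trans i j
      obtain ⟨v, hv, hev⟩ := M.surj (Pi.single j ![1, 0])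
      have hvZ : v ∈ zc (S : Subgroup G) := by
        refine hV1 v hv fun l => ?_
        rw [hev]
        by_cases hl : l = j
        · subst hl; rw [Pi.single_eq_same]; rfl
        · rw [Pi.single_eq_of_ne hl]; rfl
      have h1 : M.e v i = 0 := by rw [hev, Pi.single_eq_of_ne hij]
      have h2 := (htr v hv).2 h1
      have h3 : t * v * t⁻¹ = v := by rw [(mem_zc.1 hvZ).2.2 t ht]; group
      rw [h3, hev, Pi.single_eq_same] at h2
      exact one_ne_zero (congrFun h2 0)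
    refine ⟨cv (S : Subgroup G) R, Nat.card F, Finite.one_lt_card, n1_of hR hm (secK M.toNatK) ?_ ?_⟩
    · intro v hv h1
      refine hV1 v hv fun i => ?_
      rw [Subsingleton.elim i 0]
      exact h1
    · intro b
      obtain ⟨t, ht, h1⟩ := M.unip fun _ => b
      exact ⟨t, ht, fun v hv => h1.1 v hv 0⟩
  · exfalso
    obtain ⟨u, hu, hc, s, hs, hsu⟩ := sym_moved hm M hk hm2 (hB.le A hA) hoff
    have huZ : u ∈ zc (S : Subgroup G) := by
      rw [← hz]
      refine ⟨hVX hu, mem_cent_sSup.2 fun B hB' b hb => ?_⟩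
      by_cases hBV : B ≤ centralizer (zl (S : Subgroup G) R : Set G)
      · exact (mem_centralizer_iff.1 (hBV hb) u hu).symm
      · exact hc B (hB.le B hB') (hB.offM hXc hVX hB' hBV) b hb
    exact hsu ((mem_zc.1 huZ).2.2 s hs)

/-- `V_L ≤ X` if `L` normalises `X ≥ Z`. -/
theorem zl_le_of_norm {T M Y : Subgroup G} (h : zc T ≤ Y) (hM : M ≤ normalizer (Y : Set G)) : zl T M ≤ Y := by
  refine iSup_le fun g => ?_
  have h1 : cj (g : G) (zc T) ≤ cj (g : G) Y := cj_mono _ h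
  rw [cj_eq_of_mem_normalizer (hM g.2)] at h1
  exact h1

/-- **LEMMA UNIQ for a family of best offenders.** -/
theorem uniq_fam (hFF : StmtM.{u}) (hG : IsCharacteristicTwoType G) (hF : ¬ FF (S : Subgroup G)) {q : ℕ}
    (h : N1 (S : Subgroup G) P ⊥ q) (hB : BFam (S : Subgroup G) X L AA) (hX : IsElementaryAbelian 2 X)
    (hXS : X ≤ (S : Subgroup G))
    (hpar : ∀ R : Subgroup G, IsParS (S : Subgroup G) R → R ≤ normalizer (X : Set G) ∧ R ≤ L ∧ zc (o2 R) ≤ X)
    (hJ : ∃ A ∈ AA, ¬ A ≤ o2 P) : Uniq (S : Subgroup G) P := by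
  have hXc : ∀ x ∈ X, ∀ y ∈ X, x * y = y * x := elem_comm hX
  obtain ⟨hPX, hPL, hPQ⟩ := hpar P h.blk.star
  obtain ⟨A, hA, hAQ⟩ := hJ
  have hz := Blk.cent_fam hG h.blk hB hX hXS hPX hPL hPQ (eq_bot_iff.2 h.cen) hA hAQ
  have hsq : Nat.card (zl (S : Subgroup G) P) = Nat.card (zc (S : Subgroup G)) ^ 2 := by
    have h1 := h.cz
    rw [Subgroup.card_bot, one_mul] at h1
    rw [h.cv, ← h1, pow_two]
  have hT := Blk.zc_o2_fam hG h.blk hB hXc hPQ hA hAQ
  have hZX : zc (S : Subgroup G) ≤ X := hz ▸ inf_le_left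
  have key : ∀ R : Subgroup G, IsParS (S : Subgroup G) R → zl (S : Subgroup G) R = zl (S : Subgroup G) P ∧
      zc (S : Subgroup G) ⊓ centralizer (R : Set G) = ⊥ := by
    intro R hR
    obtain ⟨hRX, hRL, hRQ⟩ := hpar R hR
    obtain ⟨⟨A', hA', hAQ'⟩, V0, q', hq', h'⟩ := n1_of_star_fam hFF hG hB hX hR hRX hRL hRQ hz
    have hT' := Blk.zc_o2_fam hG h'.blk hB hXc hRQ hA' hAQ'
    have h1 := one_line_fam hG hF h.blk h'.blk
      (hB.mono hXc (zl_le_of_norm hZX (sup_le hPX hRX)) (sup_le hPL hRL)) ⟨A, hA, hAQ⟩ hT hT' hsq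
      (eq_bot_iff.2 h.cen) h'.card_le
    refine ⟨h1, h'.cen_eq (by omega) ?_⟩
    rw [h1, hsq]
  exact ⟨fun R hR => (key R hR).1, fun R hR => (key R hR).2⟩

/-- **LEMMA UNIQ for the best offenders on `X`.** -/
theorem uniq_bo (hFF : StmtM.{u}) (hG : IsCharacteristicTwoType G) (hF : ¬ FF (S : Subgroup G)) {q : ℕ}
    (h : N1 (S : Subgroup G) P ⊥ q) (hX : IsElementaryAbelian 2 X) (hXS : X ≤ (S : Subgroup G))
    (hpar : ∀ R : Subgroup G, IsParS (S : Subgroup G) R → R ≤ normalizer (X : Set G) ∧ zc (o2 R) ≤ X)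
    (hJ : ∃ A ∈ bo (S : Subgroup G) X, ¬ A ≤ o2 P) : Uniq (S : Subgroup G) P :=
  uniq_fam hFF hG hF h (bo_fam _ _) hX hXS (fun R hR => ⟨(hpar R hR).1, (hpar R hR).1, (hpar R hR).2⟩) hJ

theorem bo_eq (T K : Subgroup G) : Level.BO T K = bo T (zc K) := by
  ext A
  constructor
  · rintro ⟨h1, h2⟩
    exact ⟨h1, h2.toElemM, fun B h3 h4 => h2.max B h4 h3⟩
  · rintro ⟨h1, h2, h3⟩
    exact ⟨h1, h2, fun B h4 h5 => h3 B h5 h4⟩

/-- **LEMMA UNIQ at the level `K`**: `K ≤ O₂(R)` for all `R ∈ P*(S)`, some best offender on `Ω₁(Z(K))` is not in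
`O₂(P)`. -/
theorem uniq_lev (hFF : StmtM.{u}) (hG : IsCharacteristicTwoType G) (hF : ¬ FF (S : Subgroup G)) {q : ℕ}
    (h : N1 (S : Subgroup G) P ⊥ q) {K : Subgroup G} (hL : Level.Lev (S : Subgroup G) K)
    (hpar : ∀ R : Subgroup G, IsParS (S : Subgroup G) R → K ≤ o2 R)
    (hJ : ∃ A ∈ Level.BO (S : Subgroup G) K, ¬ A ≤ o2 P) : Uniq (S : Subgroup G) P := by
  refine uniq_bo hFF hG hF h (zc_elem K) ((zc_le K).trans hL.le) (fun R hR => ?_) (bo_eq _ K ▸ hJ)
  have hQS := o2_le S hR.toIsPar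
  exact ⟨(hL.le_norm_of_o2 (hpar R hR) hQS).trans (Level.normalizer_le_zc K), hL.zc_o2_le (hpar R hR) hQS⟩

end Cfsg.Agent.Omega.NO3S.OneLine

end

section


/-!
# The levels for sums of natural `SL₂(q)`-modules: `Ω₁(Z(O₂(P))) = V_P`

`V_P / C_V(O²(P))` a sum of `k` natural `SL₂(F)`-modules (`NatKM`), `C_Z(P) = 1`, a family `AA` of best offenders of
`S` with a member outside `O₂(P)`:

* `Exa.cv_eq_bot` : `C_V(O²(P)) = 1`;
* `Exa.zc_o2_nat` : `Ω₁(Z(O₂(P))) = V_P`;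
* `Exa.cent_nat` : `C_X(AA) = C_V(AA) = {v ∈ V | ∀ i, e v i 1 = 0}`.
-/

set_option autoImplicit false
set_option linter.unusedSectionVars false
set_option linter.unusedVariables false

namespace Cfsg.Agent.Omega.NO3S.OneLine

open Subgroup Cfsg Cfsg.Agent.PLocal.ThompsonJ Cfsg.Agent.ZN Cfsg.Agent.ZN.ChoiceBase Cfsg.Agent.Omega.MinPar
open Cfsg.Agent.ZN.ChoiceSit
open Cfsg.Agent.Omega.NatPair (ap ap_zero' ap_one' ap_one ap_mul ext2)
open Cfsg.Agent.Lib.SL2Mat
open Cfsg.Agent.Omega.SQ1.FFOne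
open Cfsg.Agent.Omega.SQ1.Bau (elem_comm elem_sq)
open Cfsg.Agent.MinSimple.VModule (zc_le zc_le_zl zl_le le_o2 le_normalizer_zl)
open Cfsg.Agent.Omega.FFThm (NatK ActsSL Off OffM NatKM ElemM NoOverM)
open Cfsg.Agent.Omega.FrameFF (cv)

universe u

variable {G : Type u} [Group G] [Finite G] {S : Sylow 2 G} {P X L : Subgroup G} {AA : Set (Subgroup G)}

namespace NatC

variable {F : Type} [Field F] {T H V D : Subgroup G} {k : ℕ} (M : NatC F T H V D k)
include M

theorem e_inj (hD : D = ⊥) {v w : G} (hv : v ∈ V) (hw : w ∈ V) (he : M.nat.e v = M.nat.e w) : v = w := by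
  have h1 : v * w⁻¹ ∈ D := by
    rw [← M.nat.ker _ (mul_mem hv (inv_mem hw)), M.map_div hv hw, he, sub_self]
  rw [hD, mem_bot] at h1
  exact mul_inv_eq_one.1 h1

theorem acts_eq (hD : D = ⊥) {g h : G} (hg : g ∈ H) (hh : h ∈ H)
    {A : Fin k → Matrix.SpecialLinearGroup (Fin 2) F} (hgA : M.Acts g A) (hhA : M.Acts h A) {v : G} (hv : v ∈ V) :
    g * v * g⁻¹ = h * v * h⁻¹ := by
  refine M.e_inj hD (M.Vn g hg v hv) (M.Vn h hh v hv) ?_
  funext i
  rw [hgA v hv i, hhA v hv i]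

end NatC

theorem single_acts {F : Type} [Field F] {k : ℕ} (j : Fin k) (b : F) :
    (fun i => up ((Pi.single j b : Fin k → F) i)) = Pi.mulSingle j (up b) := by
  classical
  funext i
  by_cases hi : i = j
  · subst hi; rw [Pi.single_eq_same, Pi.mulSingle_eq_same]
  · rw [Pi.single_eq_of_ne hi, Pi.mulSingle_eq_of_ne hi, up_zero]

namespace Exa

variable (h : Exa S P X L AA) {F : Type} [Field F] [Finite F] [CharP F 2] {k : ℕ}
include h

theorem minH' : MinH P (S : Subgroup G) := minH h.char2 h.star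

/-- members of the family outside `O₂(P)` are offenders -/
theorem offM {A : Subgroup G} (hA : A ∈ AA) (hAQ : ¬ A ≤ o2 P) : OffM (zl (S : Subgroup G) P) A := by
  refine h.fam.offM h.Xc h.VX hA fun h1 => hAQ ?_
  rw [← IsParS.inf_centralizer S h.char2 h.star]
  exact le_inf (h.fam.le A hA) h1

theorem cent_of_le {A : Subgroup G} (hAQ : A ≤ o2 P) : ∀ a ∈ A, ∀ v ∈ zl (S : Subgroup G) P, a * v = v * a :=
  fun a ha v hv => h.comm_Q a (hAQ ha) v hv

/-- `C_V(O²(P)) = 1` -/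
theorem cv_eq_bot_of (hD : ∀ A ∈ AA, ¬ A ≤ o2 P → ∀ a ∈ A, ∀ d ∈ cv (S : Subgroup G) P, a * d = d * a) :
    cv (S : Subgroup G) P = ⊥ := by
  have hle : cv (S : Subgroup G) P ≤ zl (S : Subgroup G) P := inf_le_left
  refine h.eq_bot (hle.trans h.VX) ?_ ?_
  · intro p hp
    rw [mem_normalizer_iff]
    intro x
    refine ⟨fun hx => SQ1.FFOf.cv_norm p hp x hx, fun hx => ?_⟩
    have := SQ1.FFOf.cv_norm p⁻¹ (inv_mem hp) _ hx
    have e : p⁻¹ * (p * x * p⁻¹) * p⁻¹⁻¹ = x := by group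
    rwa [e] at this
  · intro e he A hA a ha
    by_cases hAQ : A ≤ o2 P
    · exact h.cent_of_le hAQ a ha e (hle he)
    · exact hD A hA hAQ a ha e he

theorem cv_eq_bot (N : NatKM F (S : Subgroup G) P (zl (S : Subgroup G) P) (cv (S : Subgroup G) P) k) :
    cv (S : Subgroup G) P = ⊥ := h.cv_eq_bot_of fun A hA hAQ a ha d hd => by
  obtain ⟨I, h1, -⟩ := N.offM A (h.fam.le A hA) (h.offM hA hAQ)
  obtain ⟨b, -, hb⟩ := h1 a ha
  exact hb.2 d hd

/-- for every `j` some `A ∈ AA` contains the full root group `j` -/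
theorem exists_root (N : NatKM F (S : Subgroup G) P (zl (S : Subgroup G) P) (cv (S : Subgroup G) P) k) (hk : 0 < k)
    (j : Fin k) : ∃ A ∈ AA, ∀ b : F, ∃ a ∈ A,
      ActsSL N.e (zl (S : Subgroup G) P) (cv (S : Subgroup G) P) a (Pi.mulSingle j (up b)) := by
  classical
  have hm := h.minH'
  set M := natC_of hm hk N.toNatK with hM
  obtain ⟨A, hA, hAQ⟩ := h.ex
  obtain ⟨I, h1, h2⟩ := N.offM A (h.fam.le A hA) (h.offM hA hAQ)
  obtain ⟨i, hi⟩ : I.Nonempty := by
    by_contra hcon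
    rw [Set.not_nonempty_iff_eq_empty] at hcon
    apply (h.offM hA hAQ).ne
    intro a ha
    obtain ⟨b, hb0, hb⟩ := h1 a ha
    have hb1 : b = 0 := by
      funext l
      exact hb0 l (by rw [hcon]; simp)
    subst hb1
    have hs : a ∈ M.stab := by
      refine ⟨h.SP (h.fam.le A hA ha), fun w hw l => ?_, hb.2⟩
      have h5 : N.e (a * w * a⁻¹) l = ap (up ((0 : Fin k → F) l)) (N.e w l) := hb.1 w hw l
      rw [Pi.zero_apply, up_zero] at h5
      exact h5
    exact mem_centralizer_iff.2 fun w hw => (M.cent_of_stab hm hs hw).symm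
  obtain ⟨t, ht, htr⟩ := N.trans i j
  have hcj : cj t A ≤ (S : Subgroup G) := by
    have h3 := cj_mono t (h.fam.le A hA)
    rwa [cj_eq_of_mem_normalizer (le_normalizer ht : t ∈ normalizer ((S : Subgroup G) : Set G))] at h3
  have hA' := h.fam.conj A hA t (h.PL (h.SP ht)) hcj
  have hAQ' : ¬ cj t A ≤ o2 P := by
    intro h3
    apply hAQ
    have h4 := cj_mono t⁻¹ h3
    rw [cj_inv_cj, cj_eq_of_mem_normalizer (le_normalizer_o2 P (h.SP (inv_mem ht)))] at h4
    exact h4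
  obtain ⟨I', h1', h2'⟩ := N.offM (cj t A) hcj (h.offM hA' hAQ')
  have hj : j ∈ I' := by
    by_contra hj
    obtain ⟨a, ha, hac⟩ := h2 (Pi.single i 1) fun l hl => by
      rw [Pi.single_eq_of_ne]
      rintro rfl
      exact hl hi
    rw [single_acts] at hac
    obtain ⟨v, hv, hev⟩ := N.surj (Pi.single i ![0, 1])
    have haP := h.SP (h.fam.le A hA ha)
    have hav := conj_mem h.PV haP hv
    have htP := h.SP ht
    have hu : a * v * a⁻¹ * v⁻¹ ∈ zl (S : Subgroup G) P := mul_mem hav (inv_mem hv)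
    have htv := conj_mem h.PV htP hv
    have ha' : t * a * t⁻¹ ∈ cj t A := ⟨a, ha, rfl⟩
    obtain ⟨b', hb0, hb'⟩ := h1' _ ha'
    have h3 : N.e (t * (a * v * a⁻¹ * v⁻¹) * t⁻¹) j = 0 := by
      have e1 : t * (a * v * a⁻¹ * v⁻¹) * t⁻¹ =
          (t * a * t⁻¹) * (t * v * t⁻¹) * (t * a * t⁻¹)⁻¹ * (t * v * t⁻¹)⁻¹ := by group
      have h4 : (t * a * t⁻¹) * (t * v * t⁻¹) * (t * a * t⁻¹)⁻¹ ∈ zl (S : Subgroup G) P :=
        conj_mem h.PV (h.SP (hcj ha')) htv
      have h5 : N.e ((t * a * t⁻¹) * (t * v * t⁻¹) * (t * a * t⁻¹)⁻¹) j =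
          ap (up (b' j)) (N.e (t * v * t⁻¹) j) := hb'.1 _ htv j
      have hd : N.e ((t * a * t⁻¹) * (t * v * t⁻¹) * (t * a * t⁻¹)⁻¹ * (t * v * t⁻¹)⁻¹) =
          N.e ((t * a * t⁻¹) * (t * v * t⁻¹) * (t * a * t⁻¹)⁻¹) - N.e (t * v * t⁻¹) := M.map_div h4 htv
      rw [e1, hd, Pi.sub_apply, h5, hb0 j hj, up_zero, ap_one, sub_self]
    have h6 := (htr _ hu).1 h3
    rw [show N.e (a * v * a⁻¹ * v⁻¹) = N.e (a * v * a⁻¹) - N.e v from M.map_div hav hv] at h6
    have h7 : N.e (a * v * a⁻¹) i = ap ((Pi.mulSingle i (up 1) : Fin k → _) i) (N.e v i) := hac.1 v hv i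
    rw [Pi.sub_apply, h7, Pi.mulSingle_eq_same, hev, Pi.single_eq_same] at h6
    have h8 := congrFun h6 0
    rw [Pi.sub_apply, ap_zero', up_00, up_01] at h8
    simp at h8
  refine ⟨cj t A, hA', fun b => ?_⟩
  obtain ⟨a, ha, hac⟩ := h2' (Pi.single j b) fun l hl => by
    rw [Pi.single_eq_of_ne]
    rintro rfl
    exact hl hj
  rw [single_acts] at hac
  exact ⟨a, ha, hac⟩

open Classical in
/-- the elements of `N₀` which act as `f b` on the block `j` and trivially on the other blocks -/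
def EU (h : Exa S P X L AA) (M : NatC F (S : Subgroup G) P (zl (S : Subgroup G) P) (cv (S : Subgroup G) P) k)
    (j : Fin k) (f : F → Matrix.SpecialLinearGroup (Fin 2) F) (hf : ∀ a b, f a * f b = f (a + b)) :
    Subgroup G where
  carrier := {g | g ∈ h.N0 ∧ ∃ b, M.Acts g (Pi.mulSingle j (f b))}
  mul_mem' := by
    rintro x y ⟨hx, a, ha⟩ ⟨hy, b, hb⟩
    refine ⟨mul_mem hx hy, a + b, ?_⟩
    have := NatC.acts_mul (M := M) hy.1 ha hb
    rwa [← Pi.mulSingle_mul, hf] at this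
  one_mem' := by
    refine ⟨one_mem _, 0, ?_⟩
    have h0 : f 0 = 1 := by
      have := hf 0 0
      rw [add_zero] at this
      exact mul_eq_left.1 this
    rw [h0, Pi.mulSingle_one]
    exact NatC.acts_one
  inv_mem' := by
    rintro x ⟨hx, a, ha⟩
    refine ⟨inv_mem hx, -a, ?_⟩
    have h0 : f 0 = 1 := by
      have := hf 0 0
      rw [add_zero] at this
      exact mul_eq_left.1 this
    have h1 : f (-a) = (f a)⁻¹ := by
      rw [eq_inv_iff_mul_eq_one, hf, neg_add_cancel, h0]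
    have := NatC.acts_inv (M := M) hx.1 ha
    rw [h1]
    rwa [← Pi.mulSingle_inv] at this

/-- **(T6) `Ω₁(Z(O₂(P))) = V_P`** for sums of natural modules. -/
theorem zc_o2_nat (N : NatKM F (S : Subgroup G) P (zl (S : Subgroup G) P) (cv (S : Subgroup G) P) k) (hk : 0 < k) :
    zc (o2 P) = zl (S : Subgroup G) P := by
  classical
  have hm := h.minH'
  have hD := h.cv_eq_bot N
  set V := zl (S : Subgroup G) P with hV
  let M : NatC F (S : Subgroup G) P V (cv (S : Subgroup G) P) k := natC_of hm hk N.toNatK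
  -- the blocks
  let E : Fin k × Bool → Subgroup G := fun p =>
    if p.2 then h.EU M p.1 lo lo_mul else h.EU M p.1 up up_mul
  have hEt : ∀ j, E (j, true) = h.EU M j lo lo_mul := fun j => if_pos rfl
  have hEf : ∀ j, E (j, false) = h.EU M j up up_mul := fun j => if_neg (by simp)
  have hE0 : ∀ p, E p ≤ h.N0 := by
    rintro ⟨j, (_ | _)⟩
    · rw [hEf]; exact fun g hg => hg.1
    · rw [hEt]; exact fun g hg => hg.1
  -- elements of `N₀` which agree on `V` agree on `Ω₁(Z(Q))`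
  have hagree : ∀ g ∈ h.N0, ∀ m ∈ h.N0, (∀ v ∈ V, g * v * g⁻¹ = m * v * m⁻¹) → ∀ y ∈ zc (o2 P),
      m * y = y * m → g * y = y * g := by
    intro g hg m hm' hgm y hy hmy
    have h1 := h.cent_zcQ (mul_mem (inv_mem hm') hg) (fun u hu => by
      have h8 := hgm u hu
      calc m⁻¹ * g * u = m⁻¹ * (g * u * g⁻¹) * g := by group
        _ = m⁻¹ * (m * u * m⁻¹) * g := by rw [h8]
        _ = _ := by group) y hy
    have c1 : Commute m y := hmy
    have c2 : Commute (m⁻¹ * g) y := h1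
    have e : g = m * (m⁻¹ * g) := by group
    rw [e]
    exact (c1.mul_left c2).eq
  -- fixed points of the upper root groups
  have hup : ∀ j, ∀ y ∈ zc (o2 P), ∃ v ∈ V, ∀ g ∈ h.EU M j up up_mul, g * (y * v) = y * v * g := by
    intro j y hy
    obtain ⟨A, hA, hroot⟩ := h.exists_root N hk j
    obtain ⟨v, hv, hvA⟩ := h.zcQ hA hy
    refine ⟨v, hv, ?_⟩
    rintro g ⟨hg, b, hb⟩
    obtain ⟨a, ha, hac⟩ := hroot b
    refine hagree g hg a (h.le_N0 hA ha) (fun u hu => ?_) (y * v) (mul_mem hy (h.VQ hv)) (hvA a ha)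
    exact M.acts_eq hD hg.1 (h.SP (h.fam.le A hA ha)) hb hac.1 hu
  -- fixed points of the lower root groups
  have hlo : ∀ j, ∀ y ∈ zc (o2 P), ∃ v ∈ V, ∀ g ∈ h.EU M j lo lo_mul, g * (y * v) = y * v * g := by
    intro j y hy
    obtain ⟨w, hw, hwA, -⟩ := N.lift (Pi.mulSingle j (wm 1 one_ne_zero))
    have hwA' : M.Acts w (Pi.mulSingle j (wm 1 one_ne_zero)) := hwA
    obtain ⟨v', hv', hfix⟩ := hup j (w * y * w⁻¹) (conj_mem h.zcQ_norm hw hy)
    refine ⟨w⁻¹ * v' * w, ?_, ?_⟩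
    · have := conj_mem h.PV (inv_mem hw) hv'
      rwa [inv_inv] at this
    · rintro g ⟨hg, b, hb⟩
      have h1 : w * g * w⁻¹ ∈ h.EU M j up up_mul := by
        refine ⟨conj_mem h.N0_norm hw hg, -(b * 1 ^ 2), ?_⟩
        have h2 := NatC.acts_mul (M := M) (inv_mem hw) (NatC.acts_mul (M := M) hg.1 hwA' hb)
          (NatC.acts_inv (M := M) hw hwA')
        have e : (Pi.mulSingle j (wm 1 one_ne_zero) : Fin k → Matrix.SpecialLinearGroup (Fin 2) F) *
            Pi.mulSingle j (lo b) * (Pi.mulSingle j (wm 1 one_ne_zero))⁻¹ =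
            Pi.mulSingle j (up (-(b * 1 ^ 2))) := by
          rw [← Pi.mulSingle_inv, ← Pi.mulSingle_mul, ← Pi.mulSingle_mul, wm_lo, mul_inv_cancel_right]
        rwa [e] at h2
      have h3 := hfix _ h1
      calc g * (y * (w⁻¹ * v' * w)) = w⁻¹ * ((w * g * w⁻¹) * (w * y * w⁻¹ * v')) * w := by group
        _ = w⁻¹ * ((w * y * w⁻¹ * v') * (w * g * w⁻¹)) * w := by rw [h3]
        _ = _ := by group
  -- centralisers in `V`
  have hcu : ∀ j, ∀ v ∈ V, N.e v j 1 = 0 → ∀ g ∈ h.EU M j up up_mul, g * v = v * g := by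
    rintro j v hv h0 g ⟨hg, b, hb⟩
    have h1 : g * v * g⁻¹ = v := by
      refine M.e_inj hD (conj_mem h.PV hg.1 hv) hv ?_
      funext i
      rw [hb v hv i]
      by_cases hi : i = j
      · subst hi
        rw [Pi.mulSingle_eq_same]
        apply ext2
        · rw [ap_zero', up_00, up_01]
          show 1 * N.e v i 0 + b * N.e v i 1 = N.e v i 0
          rw [h0, mul_zero, one_mul, add_zero]
        · rw [ap_one', up_10, up_11, zero_mul, zero_add, one_mul]
      · rw [Pi.mulSingle_eq_of_ne hi, ap_one]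
    calc g * v = g * v * g⁻¹ * g := by group
      _ = v * g := by rw [h1]
  have hcl : ∀ j, ∀ v ∈ V, N.e v j 0 = 0 → ∀ g ∈ h.EU M j lo lo_mul, g * v = v * g := by
    rintro j v hv h0 g ⟨hg, b, hb⟩
    have h1 : g * v * g⁻¹ = v := by
      refine M.e_inj hD (conj_mem h.PV hg.1 hv) hv ?_
      funext i
      rw [hb v hv i]
      by_cases hi : i = j
      · subst hi
        rw [Pi.mulSingle_eq_same]
        apply ext2
        · rw [ap_zero', lo_00, lo_01, zero_mul, add_zero, one_mul]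
        · rw [ap_one', lo_10, lo_11]
          show b * N.e v i 0 + 1 * N.e v i 1 = N.e v i 1
          rw [h0, mul_zero, one_mul, zero_add]
      · rw [Pi.mulSingle_eq_of_ne hi, ap_one]
    calc g * v = g * v * g⁻¹ * g := by group
      _ = v * g := by rw [h1]
  -- `⟨E⟩` induces `SL₂(F)^k`
  have hgen : ∀ B : Fin k → Matrix.SpecialLinearGroup (Fin 2) F, ∃ m ∈ ⨆ p, E p, M.Acts m B := by
    have hsP : (⨆ p, E p) ≤ P := (iSup_le hE0).trans fun g hg => hg.1
    let R : Subgroup (Fin k → Matrix.SpecialLinearGroup (Fin 2) F) :=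
      { carrier := {B | ∃ m ∈ ⨆ p, E p, M.Acts m B}
        mul_mem' := by
          rintro A B ⟨m, hm, hmA⟩ ⟨n, hn, hnB⟩
          exact ⟨m * n, mul_mem hm hn, NatC.acts_mul (hsP hn) hmA hnB⟩
        one_mem' := ⟨1, one_mem _, NatC.acts_one⟩
        inv_mem' := by
          rintro A ⟨m, hm, hmA⟩
          exact ⟨m⁻¹, inv_mem hm, NatC.acts_inv (hsP hm) hmA⟩ }
    have hRu : ∀ j b, Pi.mulSingle j (up b) ∈ R := by
      intro j b
      obtain ⟨A, hA, hroot⟩ := h.exists_root N hk j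
      obtain ⟨a, ha, hac⟩ := hroot b
      exact ⟨a, le_iSup E (j, false) (by rw [hEf]; exact ⟨h.le_N0 hA ha, b, hac.1⟩), hac.1⟩
    have hRl : ∀ j b, Pi.mulSingle j (lo b) ∈ R := by
      intro j b
      obtain ⟨w, hw, hwA, -⟩ := N.lift (Pi.mulSingle j (wm 1 one_ne_zero))
      have hwA' : M.Acts w (Pi.mulSingle j (wm 1 one_ne_zero)) := hwA
      obtain ⟨A, hA, hroot⟩ := h.exists_root N hk j
      obtain ⟨a, ha, hac⟩ := hroot (-(b * 1 ^ 2))
      have haP := h.SP (h.fam.le A hA ha)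
      have h2 := NatC.acts_mul (M := M) hw (NatC.acts_mul (M := M) haP (NatC.acts_inv (M := M) hw hwA')
        (show M.Acts a (Pi.mulSingle j (up (-(b * 1 ^ 2)))) from hac.1)) hwA'
      have e : (Pi.mulSingle j (wm 1 one_ne_zero) : Fin k → Matrix.SpecialLinearGroup (Fin 2) F)⁻¹ *
          Pi.mulSingle j (up (-(b * 1 ^ 2))) * Pi.mulSingle j (wm 1 one_ne_zero) = Pi.mulSingle j (lo b) := by
        rw [← Pi.mulSingle_inv, ← Pi.mulSingle_mul, ← Pi.mulSingle_mul, mul_assoc, ← wm_lo, inv_mul_cancel_left]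
      rw [e] at h2
      refine ⟨w⁻¹ * a * w, le_iSup E (j, true) ?_, h2⟩
      rw [hEt]
      refine ⟨?_, b, h2⟩
      have := conj_mem h.N0_norm (inv_mem hw) (h.le_N0 hA ha)
      rwa [inv_inv] at this
    intro B
    have hB : B ∈ R := by
      refine Subgroup.pi_mem_of_mulSingle_mem B fun j => ?_
      obtain ⟨a, b, c, d, e⟩ := exists_up_lo (B j)
      rw [e, Pi.mulSingle_mul, Pi.mulSingle_mul, Pi.mulSingle_mul]
      exact mul_mem (mul_mem (mul_mem (hRu j a) (hRl j b)) (hRu j c)) (hRl j d)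
    exact hB
  refine h.zc_eq_of E hE0 ?_ ?_ ?_ ?_
  · rintro ⟨j, (_ | _)⟩
    · rw [hEf]; exact hup j
    · rw [hEt]; exact hlo j
  · intro w hw
    obtain ⟨v, hv, hev⟩ := N.surj fun j => ![N.e (w (j, true)) j 0, N.e (w (j, false)) j 1]
    refine ⟨v, hv, ?_⟩
    rintro ⟨j, (_ | _)⟩
    · rw [hEf]
      refine hcu j _ (mul_mem hv (inv_mem (hw _))) ?_
      rw [show N.e (v * (w (j, false))⁻¹) = N.e v - N.e (w (j, false)) from M.map_div hv (hw _), hev]
      simp
    · rw [hEt]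
      refine hcl j _ (mul_mem hv (inv_mem (hw _))) ?_
      rw [show N.e (v * (w (j, true))⁻¹) = N.e v - N.e (w (j, true)) from M.map_div hv (hw _), hev]
      simp
  · intro v hv hcen
    refine M.e_inj hD hv (one_mem _) ?_
    rw [M.map_one]
    show N.e v = 0
    funext j
    have hu1 : N.e v j 1 = 0 := by
      obtain ⟨A, hA, hroot⟩ := h.exists_root N hk j
      obtain ⟨a, ha, hac⟩ := hroot 1
      have h1 : a * v = v * a := hcen (j, false) a (by rw [hEf]; exact ⟨h.le_N0 hA ha, 1, hac.1⟩)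
      have h2 : N.e (a * v * a⁻¹) j = ap ((Pi.mulSingle j (up 1) : Fin k → _) j) (N.e v j) := hac.1 v hv j
      have h3 : a * v * a⁻¹ = v := by rw [h1]; group
      rw [h3, Pi.mulSingle_eq_same] at h2
      have h4 := congrFun h2 0
      rw [ap_zero', up_00, up_01, one_mul, one_mul] at h4
      exact left_eq_add.1 h4
    have hu0 : N.e v j 0 = 0 := by
      obtain ⟨m, hm', hmA⟩ := hgen (Pi.mulSingle j (lo 1))
      have h1 : m * v = v * m := by
        have h5 : (⨆ p, E p) ≤ centralizer {v} := iSup_le fun p g hg => by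
          rw [mem_centralizer_singleton_iff]
          exact hcen p g hg
        exact mem_centralizer_singleton_iff.1 (h5 hm')
      have h2 : N.e (m * v * m⁻¹) j = ap ((Pi.mulSingle j (lo 1) : Fin k → _) j) (N.e v j) := hmA v hv j
      have h3 : m * v * m⁻¹ = v := by rw [h1]; group
      rw [h3, Pi.mulSingle_eq_same] at h2
      have h4 := congrFun h2 1
      rw [ap_one', lo_10, lo_11, one_mul, one_mul] at h4
      exact right_eq_add.1 h4
    exact ext2 hu0 hu1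
  · intro s hs p g hg
    have hgN := hE0 p hg
    have hgA : ∃ A : Fin k → Matrix.SpecialLinearGroup (Fin 2) F, ∀ v ∈ V, ∀ i,
        N.e (g * v * g⁻¹) i = ap (A i) (N.e v i) := by
      obtain ⟨j, (_ | _)⟩ := p
      · rw [hEf] at hg
        obtain ⟨-, b, hb⟩ := hg
        exact ⟨_, hb⟩
      · rw [hEt] at hg
        obtain ⟨-, b, hb⟩ := hg
        exact ⟨_, hb⟩
    obtain ⟨A, hA⟩ := hgA
    obtain ⟨B, hB⟩ := N.norm s (h.SP hs) g hgN.1 A hA
    obtain ⟨m, hm', hmB⟩ := hgen B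
    refine ⟨m, hm', fun v hv => ?_⟩
    have hsP := h.SP hs
    exact M.acts_eq hD (mul_mem (mul_mem hsP hgN.1) (inv_mem hsP)) ((iSup_le hE0 hm').1) hB hmB hv

/-- **`C_X(AA) = C_V(AA)`**, the product of the lines. -/
theorem cent_nat (N : NatKM F (S : Subgroup G) P (zl (S : Subgroup G) P) (cv (S : Subgroup G) P) k) (hk : 0 < k)
    {x : G} : x ∈ X ⊓ centralizer ((sSup AA : Subgroup G) : Set G) ↔
      x ∈ zl (S : Subgroup G) P ∧ ∀ i, N.e x i 1 = 0 := by
  classical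
  have hm := h.minH'
  have hT := h.zc_o2_nat N hk
  rw [h.cent_eq hT]
  constructor
  · rintro ⟨hx, hxA⟩
    refine ⟨hx, fun j => ?_⟩
    obtain ⟨A, hA, hroot⟩ := h.exists_root N hk j
    obtain ⟨a, ha, hac⟩ := hroot 1
    have h1 : a * x = x * a := mem_cent_sSup.1 hxA A hA a ha
    have h2 : N.e (a * x * a⁻¹) j = ap ((Pi.mulSingle j (up 1) : Fin k → _) j) (N.e x j) := hac.1 x hx j
    have h3 : a * x * a⁻¹ = x := by rw [h1]; group
    rw [h3, Pi.mulSingle_eq_same] at h2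
    have h4 := congrFun h2 0
    rw [ap_zero', up_00, up_01, one_mul, one_mul] at h4
    exact left_eq_add.1 h4
  · rintro ⟨hx, hx1⟩
    refine ⟨hx, mem_cent_sSup.2 fun B hB b hb => ?_⟩
    by_cases hBQ : B ≤ o2 P
    · exact h.cent_of_le hBQ b hb x hx
    · obtain ⟨I, h1, h2⟩ := N.offM B (h.fam.le B hB) (h.offM hB hBQ)
      exact (natC_of hm hk N.toNatK).cent_line hm (h.fam.le B hB) (h.fam.off h.Xc h.VX hB) h1 h2 hx hx1 hb

end Exa

end Cfsg.Agent.Omega.NO3S.OneLine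

end

section


/-!
# The levels for sums of even-subset modules: `Ω₁(Z(O₂(P))) = V_P`

`V_P / C_V(O²(P))` a sum of `k` even-subset modules of `S_{2^m+1}` (`SymKM`), `C_Z(P) = 1`, a family `AA` of best
offenders of `S` with a member outside `O₂(P)`:

* `Exa.cv_eq_bot_sym` : `C_V(O²(P)) = 1`;
* `Exa.zc_o2_sym` : `Ω₁(Z(O₂(P))) = V_P`;
* `Exa.cent_sym` : `C_X(AA)`.
-/

set_option autoImplicit false
set_option linter.unusedSectionVars false
set_option linter.unusedVariables false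

namespace Cfsg.Agent.Omega.NO3S.OneLine

open Subgroup Cfsg Cfsg.Agent.PLocal.ThompsonJ Cfsg.Agent.ZN Cfsg.Agent.ZN.ChoiceBase Cfsg.Agent.Omega.MinPar
open Cfsg.Agent.Omega.SQ1 Cfsg.Agent.Omega.SQ1.FFOne Cfsg.Agent.Omega.SQ1.VOf Cfsg.Agent.Omega.SQ1.FFSym
open Cfsg.Agent.Omega.SQ1.Bau (elem_comm elem_sq)
open Cfsg.Agent.MinSimple.VModule (zc_le zc_le_zl zl_le le_o2 le_normalizer_zl)
open Cfsg.Agent.Omega.FFThm (ActsSym SymK SymKM OffM ElemM NoOverM)
open Cfsg.Agent.Omega.FrameFF (cv)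

universe u

variable {G : Type u} [Group G] [Finite G] {S : Sylow 2 G} {P X L : Subgroup G} {AA : Set (Subgroup G)}

omit [Finite G] in
theorem sy_inj {H V D : Subgroup G} {k n : ℕ} {e : G → Fin k → Fin n → ZMod 2} (h : Sy H V D e) (hD : D = ⊥)
    {v w : G} (hv : v ∈ V) (hw : w ∈ V) (he : e v = e w) : v = w := by
  have h1 := h.e_eq hv hw he
  rw [hD, mem_bot] at h1
  rw [← h.inv_eq hw]
  exact eq_inv_of_mul_eq_one_left h1

omit [Finite G] in
/-- an element acting as `mulSingle j τ`, `τ ∈ {1, (0 a)}`, centralises the vectors with `e v j 0 = e v j a` -/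
theorem gd_comm {H V D : Subgroup G} {k n : ℕ} {e : G → Fin k → Fin (n + 1) → ZMod 2} (h : Sy H V D e) (hD : D = ⊥)
    {j : Fin k} {a : Fin (n + 1)} {τ : Equiv.Perm (Fin (n + 1))} (hτ : τ = 1 ∨ τ = Equiv.swap 0 a) {g : G}
    (hg : Gd H V D e (Pi.mulSingle j τ) g) {v : G} (hv : v ∈ V) (h0 : e v j 0 = e v j a) : g * v = v * g := by
  have h1 : g * v * g⁻¹ = v := by
    refine sy_inj h hD (h.Vn g hg.mem v hv) hv ?_
    funext i x
    have h2 := hg.act v hv i (((Pi.mulSingle j τ : Fin k → Equiv.Perm (Fin (n + 1))) i)⁻¹ x)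
    rw [perm_inv_self, Equiv.Perm.one_apply] at h2
    rw [h2]
    by_cases hi : i = j
    · subst hi
      rw [Pi.mulSingle_eq_same]
      rcases hτ with rfl | rfl
      · rw [inv_one, Equiv.Perm.one_apply]
      · rw [Equiv.swap_inv]
        by_cases hx0 : x = 0
        · rw [hx0, Equiv.swap_apply_left, h0]
        · by_cases hxa : x = a
          · rw [hxa, Equiv.swap_apply_right, h0]
          · rw [Equiv.swap_apply_of_ne_of_ne hx0 hxa]
    · rw [Pi.mulSingle_eq_of_ne hi, inv_one, Equiv.Perm.one_apply]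
  calc g * v = g * v * g⁻¹ * g := by group
    _ = v * g := by rw [h1]

namespace Exa

variable (h : Exa S P X L AA) {k m : ℕ}
include h

theorem cv_eq_bot_sym (N : SymKM (S : Subgroup G) P (zl (S : Subgroup G) P) (cv (S : Subgroup G) P) k m) :
    cv (S : Subgroup G) P = ⊥ := h.cv_eq_bot_of fun A hA hAQ a ha d hd =>
  (N.offM A (h.fam.le A hA) (h.offM hA hAQ)).1 a ha d hd

theorem sy (N : SymKM (S : Subgroup G) P (zl (S : Subgroup G) P) (cv (S : Subgroup G) P) k m) (hk : 0 < k)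
    (hm : 1 ≤ m) : Sy P (zl (S : Subgroup G) P) (cv (S : Subgroup G) P) N.e :=
  sy_of h.minH' N.toSymK hk hm FFOf.cv_le FFOf.cv_norm

/-- a transposition of the block `j` in a member of the family -/
theorem exists_swap (N : SymKM (S : Subgroup G) P (zl (S : Subgroup G) P) (cv (S : Subgroup G) P) k m) (hk : 0 < k)
    (hm : 1 ≤ m) (j : Fin k) : ∃ A ∈ AA, ∃ x y : Fin (2 ^ m + 1), x ≠ y ∧ ∃ t ∈ A,
      Gd P (zl (S : Subgroup G) P) (cv (S : Subgroup G) P) N.e (Pi.mulSingle j (Equiv.swap x y)) t := by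
  have hs := h.sy N hk hm
  obtain ⟨A, hA, hAQ⟩ := h.ex
  have hoff := h.offM hA hAQ
  obtain ⟨hD, h2⟩ := N.offM A (h.fam.le A hA) hoff
  obtain ⟨i, x, y, hxy, t, ht, htg⟩ : ∃ i x y, x ≠ y ∧ ∃ t ∈ A,
      Gd P (zl (S : Subgroup G) P) (cv (S : Subgroup G) P) N.e (Pi.mulSingle i (Equiv.swap x y)) t := by
    by_contra hcon
    push Not at hcon
    apply hoff.ne
    intro a ha
    obtain ⟨τ, hτ, hτ'⟩ := h2 a ha
    have h1 : τ = 1 := by
      funext i
      ext x
      by_contra hx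
      have hx' : τ i x ≠ x := fun e => hx (by rw [e]; rfl)
      obtain ⟨-, b, hb, hb'⟩ := hτ' i x hx'
      exact hcon i x (τ i x) hx'.symm b hb ⟨h.SP (h.fam.le A hA hb), hD b hb, hb'⟩
    subst h1
    refine mem_centralizer_iff.2 fun v hv => ?_
    have h2 := hs.gd_sim ⟨h.SP (h.fam.le A hA ha), hD a ha, hτ⟩ hs.gd_one v hv
    symm
    calc a * v = (a * v * a⁻¹) * a := by group
      _ = v * a := by rw [h2]; group
  obtain ⟨s, hsS, σ, τ, hsa, hσ⟩ := N.trans i j
  have hcj : cj s A ≤ (S : Subgroup G) := by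
    have h3 := cj_mono s (h.fam.le A hA)
    rwa [cj_eq_of_mem_normalizer (le_normalizer hsS : s ∈ normalizer ((S : Subgroup G) : Set G))] at h3
  have h3 := hs.gd_conj_single (h.SP hsS) hsa htg
  rw [hσ, ← Equiv.swap_apply_apply] at h3
  exact ⟨cj s A, h.fam.conj A hA s (h.PL (h.SP hsS)) hcj, τ i x, τ i y, fun e => hxy ((τ i).injective e),
    s * t * s⁻¹, ⟨t, ht, rfl⟩, h3⟩

/-- the elements of `N₀` which act as `1` or `(0 a)` on the block `j` and trivially on the other blocks -/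
def ES (h : Exa S P X L AA)
    (N : SymKM (S : Subgroup G) P (zl (S : Subgroup G) P) (cv (S : Subgroup G) P) k m)
    (hs : Sy P (zl (S : Subgroup G) P) (cv (S : Subgroup G) P) N.e) (j : Fin k) (a : Fin (2 ^ m + 1)) :
    Subgroup G where
  carrier := {g | g ∈ h.N0 ∧ ∃ τ, (τ = 1 ∨ τ = Equiv.swap 0 a) ∧
    Gd P (zl (S : Subgroup G) P) (cv (S : Subgroup G) P) N.e (Pi.mulSingle j τ) g}
  mul_mem' := by
    rintro x y ⟨hx, τ, hτ, hxτ⟩ ⟨hy, τ', hτ', hyτ⟩
    refine ⟨mul_mem hx hy, τ * τ', ?_, ?_⟩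
    · rcases hτ with rfl | rfl
      · rw [one_mul]; exact hτ'
      · rcases hτ' with rfl | rfl
        · rw [mul_one]; exact Or.inr rfl
        · rw [Equiv.swap_mul_self]; exact Or.inl rfl
    · rw [Pi.mulSingle_mul]
      exact hs.gd_mul hxτ hyτ
  one_mem' := ⟨one_mem _, 1, Or.inl rfl, by rw [Pi.mulSingle_one]; exact hs.gd_one⟩
  inv_mem' := by
    rintro x ⟨hx, τ, hτ, hxτ⟩
    refine ⟨inv_mem hx, τ⁻¹, ?_, ?_⟩
    · rcases hτ with rfl | rfl
      · rw [inv_one]; exact Or.inl rfl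
      · rw [Equiv.swap_inv]; exact Or.inr rfl
    · rw [Pi.mulSingle_inv]
      exact hs.gd_inv hxτ

/-- **(T6) `Ω₁(Z(O₂(P))) = V_P`** for sums of even-subset modules. -/
theorem zc_o2_sym (N : SymKM (S : Subgroup G) P (zl (S : Subgroup G) P) (cv (S : Subgroup G) P) k m) (hk : 0 < k)
    (hm : 1 ≤ m) : zc (o2 P) = zl (S : Subgroup G) P := by
  classical
  have hs := h.sy N hk hm
  have hD := h.cv_eq_bot_sym N
  -- a swap `(0 a)` of the block `j` in `N₀`, with fixed points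
  have hsw : ∀ (j : Fin k) (a : Fin (2 ^ m + 1)), a ≠ 0 → ∃ r ∈ P, ∃ A ∈ AA, ∃ t ∈ A,
      Gd P (zl (S : Subgroup G) P) (cv (S : Subgroup G) P) N.e (Pi.mulSingle j (Equiv.swap 0 a)) (r⁻¹ * t * r) ∧
      ∀ g, Gd P (zl (S : Subgroup G) P) (cv (S : Subgroup G) P) N.e (Pi.mulSingle j (Equiv.swap 0 a)) g →
        ∀ v ∈ zl (S : Subgroup G) P, (r * g * r⁻¹) * v * (r * g * r⁻¹)⁻¹ = t * v * t⁻¹ := by
    intro j a ha
    obtain ⟨A, hA, x, y, hxy, t, ht, htg⟩ := h.exists_swap N hk hm j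
    -- a permutation `ρ` with `ρ 0 = x`, `ρ a = y`
    obtain ⟨ρ, hρ0, hρa⟩ : ∃ ρ : Equiv.Perm (Fin (2 ^ m + 1)), ρ 0 = x ∧ ρ a = y := by
      refine ⟨Equiv.swap (Equiv.swap 0 x a) y * Equiv.swap 0 x, ?_, ?_⟩
      · rw [Equiv.Perm.mul_apply, Equiv.swap_apply_left]
        refine Equiv.swap_apply_of_ne_of_ne ?_ hxy
        intro e
        have e2 : Equiv.swap 0 x 0 = Equiv.swap 0 x a := by rw [Equiv.swap_apply_left]; exact e
        exact ha ((Equiv.swap 0 x).injective e2).symm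
      · rw [Equiv.Perm.mul_apply, Equiv.swap_apply_left]
    obtain ⟨r, hr⟩ := hs.exists_gd (Pi.mulSingle j ρ)
    refine ⟨r, hr.mem, A, hA, t, ht, ?_, ?_⟩
    · have h1 := hs.gd_mul (hs.gd_mul (hs.gd_inv hr) htg) hr
      rw [← Pi.mulSingle_inv, ← Pi.mulSingle_mul, ← Pi.mulSingle_mul] at h1
      have e : ρ⁻¹ * Equiv.swap x y * ρ = Equiv.swap 0 a := by
        have e2 : ρ * Equiv.swap 0 a * ρ⁻¹ = Equiv.swap x y := by
          rw [← Equiv.swap_apply_apply, hρ0, hρa]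
        rw [← e2]; group
      rwa [e] at h1
    · intro g hg v hv
      have h1 := hs.gd_mul (hs.gd_mul hr hg) (hs.gd_inv hr)
      rw [← Pi.mulSingle_inv, ← Pi.mulSingle_mul, ← Pi.mulSingle_mul, ← Equiv.swap_apply_apply, hρ0, hρa] at h1
      exact hs.gd_sim h1 htg v hv
  -- the blocks
  let E : Fin k × Fin (2 ^ m + 1) → Subgroup G := fun p => h.ES N hs p.1 p.2
  -- elements of `N₀` which agree on `V` agree on `Ω₁(Z(Q))`
  have hagree : ∀ g ∈ h.N0, ∀ m ∈ h.N0, (∀ v ∈ zl (S : Subgroup G) P, g * v * g⁻¹ = m * v * m⁻¹) →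
      ∀ y ∈ zc (o2 P), m * y = y * m → g * y = y * g := by
    intro g hg m hm' hgm y hy hmy
    have h1 := h.cent_zcQ (mul_mem (inv_mem hm') hg) (fun u hu => by
      have h8 := hgm u hu
      calc m⁻¹ * g * u = m⁻¹ * (g * u * g⁻¹) * g := by group
        _ = m⁻¹ * (m * u * m⁻¹) * g := by rw [h8]
        _ = _ := by group) y hy
    have c1 : Commute m y := hmy
    have c2 : Commute (m⁻¹ * g) y := h1
    have e : g = m * (m⁻¹ * g) := by group
    rw [e]
    exact (c1.mul_left c2).eq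
  refine h.zc_eq_of E (fun p g hg => hg.1) ?_ ?_ ?_ ?_
  · rintro ⟨j, a⟩ y hy
    by_cases ha : a = 0
    · refine ⟨1, one_mem _, ?_⟩
      rintro g ⟨hg, τ, hτ, hgτ⟩
      have hτ1 : τ = 1 := by
        rcases hτ with rfl | rfl
        · rfl
        · show Equiv.swap 0 a = 1
          rw [ha, Equiv.swap_self]; rfl
      subst hτ1
      rw [Pi.mulSingle_one] at hgτ
      rw [mul_one]
      refine h.cent_zcQ hg (fun v hv => ?_) y hy
      have h2 := hs.gd_sim hgτ hs.gd_one v hv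
      calc g * v = (g * v * g⁻¹) * g := by group
        _ = v * g := by rw [h2]; group
    · obtain ⟨r, hr, A, hA, t, ht, htg, hag⟩ := hsw j a ha
      obtain ⟨v', hv', hfix⟩ := h.zcQ hA (conj_mem h.zcQ_norm hr hy)
      refine ⟨r⁻¹ * v' * r, ?_, ?_⟩
      · have := conj_mem h.PV (inv_mem hr) hv'
        rwa [inv_inv] at this
      · rintro g ⟨hg, τ, hτ, hgτ⟩
        have hy' : r * y * r⁻¹ * v' ∈ zc (o2 P) := mul_mem (conj_mem h.zcQ_norm hr hy) (h.VQ hv')
        have h3 : (r * g * r⁻¹) * (r * y * r⁻¹ * v') = r * y * r⁻¹ * v' * (r * g * r⁻¹) := by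
          rcases hτ with rfl | rfl
          · rw [Pi.mulSingle_one] at hgτ
            refine h.cent_zcQ (conj_mem h.N0_norm hr hg) (fun v hv => ?_) _ hy'
            have h4 : r⁻¹ * v * r ∈ zl (S : Subgroup G) P := by
              have := conj_mem h.PV (inv_mem hr) hv
              rwa [inv_inv] at this
            have h5 := hs.gd_sim hgτ hs.gd_one _ h4
            have h6 : g * (r⁻¹ * v * r) = (r⁻¹ * v * r) * g := by
              calc g * (r⁻¹ * v * r) = (g * (r⁻¹ * v * r) * g⁻¹) * g := by group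
                _ = _ := by rw [h5]; group
            calc r * g * r⁻¹ * v = r * (g * (r⁻¹ * v * r)) * r⁻¹ := by group
              _ = r * ((r⁻¹ * v * r) * g) * r⁻¹ := by rw [h6]
              _ = _ := by group
          · exact hagree _ (conj_mem h.N0_norm hr hg) t (h.le_N0 hA ht) (hag g hgτ) _ hy' (hfix t ht)
        calc g * (y * (r⁻¹ * v' * r)) = r⁻¹ * ((r * g * r⁻¹) * (r * y * r⁻¹ * v')) * r := by group
          _ = r⁻¹ * ((r * y * r⁻¹ * v') * (r * g * r⁻¹)) * r := by rw [h3]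
          _ = _ := by group
  · intro w hw
    let c : Fin k → Fin (2 ^ m + 1) → ZMod 2 := fun j a => N.e (w (j, a)) j 0 + N.e (w (j, a)) j a
    have hc0 : ∀ j, c j 0 = 0 := fun j => CharTwo.add_self_eq_zero _
    obtain ⟨v, hv, hev⟩ := N.surj (fun j a => c j a + ∑ b, c j b) (by
      intro j
      rw [Finset.sum_add_distrib, Finset.sum_const, Finset.card_univ, Fintype.card_fin, nsmul_eq_mul]
      have e1 : ((2 ^ m + 1 : ℕ) : ZMod 2) = 1 := by
        have : (2 ^ m : ZMod 2) = 0 := by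
          rw [show (2 : ZMod 2) = 0 from rfl, zero_pow (by omega)]
        push_cast
        rw [this, zero_add]
      rw [e1, one_mul]
      exact CharTwo.add_self_eq_zero _)
    refine ⟨v, hv, ?_⟩
    rintro ⟨j, a⟩ g ⟨hg, τ, hτ, hgτ⟩
    refine gd_comm hs hD hτ hgτ (mul_mem hv (inv_mem (hw _))) ?_
    rw [N.mul v hv _ (inv_mem (hw _)), hs.e_inv (hw _), hev]
    show c j 0 + ∑ b, c j b + N.e (w (j, a)) j 0 = c j a + ∑ b, c j b + N.e (w (j, a)) j a
    rw [hc0]
    have e2 : c j a = N.e (w (j, a)) j 0 + N.e (w (j, a)) j a := rfl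
    generalize ∑ b, c j b = s
    rw [e2]
    generalize N.e (w (j, a)) j 0 = p
    generalize N.e (w (j, a)) j a = q
    revert s p q
    decide
  · intro v hv hcen
    refine sy_inj hs hD hv (one_mem _) ?_
    rw [hs.e_one]
    have hconst : ∀ j a, N.e v j a = N.e v j 0 := by
      intro j a
      by_cases ha : a = 0
      · rw [ha]
      · obtain ⟨r, hr, A, hA, t, ht, htg, -⟩ := hsw j a ha
        have h1 : r⁻¹ * t * r * v = v * (r⁻¹ * t * r) := by
          refine hcen (j, a) _ ⟨?_, _, Or.inr rfl, htg⟩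
          have := conj_mem h.N0_norm (inv_mem hr) (h.le_N0 hA ht)
          rwa [inv_inv] at this
        have h2 := htg.act v hv j 0
        have h3 : r⁻¹ * t * r * v * (r⁻¹ * t * r)⁻¹ = v := by rw [h1]; group
        rw [h3, Equiv.Perm.one_apply, Pi.mulSingle_eq_same, Equiv.swap_apply_left] at h2
        exact h2
    funext j a
    have h1 := N.even v hv j
    rw [Finset.sum_congr rfl fun x _ => hconst j x, Finset.sum_const, Finset.card_univ, Fintype.card_fin,
      nsmul_eq_mul] at h1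
    have e1 : ((2 ^ m + 1 : ℕ) : ZMod 2) = 1 := by
      have : (2 ^ m : ZMod 2) = 0 := by
        rw [show (2 : ZMod 2) = 0 from rfl, zero_pow (by omega)]
      push_cast
      rw [this, zero_add]
    rw [e1, one_mul] at h1
    rw [hconst j a, h1]; rfl
  · rintro s hs' ⟨j, a⟩ g ⟨hg, τ, hτ, hgτ⟩
    obtain ⟨σ, ψ, hsa⟩ := N.perm s (h.SP hs')
    have h0 := N.fix0 s hs' σ ψ hsa j
    refine ⟨s * g * s⁻¹, le_iSup E (σ j, ψ j a) ?_, fun v hv => rfl⟩
    refine ⟨conj_mem h.N0_norm (h.SP hs') hg, ψ j * τ * (ψ j)⁻¹, ?_, hs.gd_conj_single (h.SP hs') hsa hgτ⟩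
    rcases hτ with rfl | rfl
    · left; group
    · right
      rw [← Equiv.swap_apply_apply, h0]

end Exa

end Cfsg.Agent.Omega.NO3S.OneLine

end

section


/-!
# The levels `K` of `Level/Basic.lean` for FF-modules of every type

`K` a level, `K ≤ O₂(P)`, `P ∈ P*(S)`, `C_Z(P) = 1`, some best offender of `S` on `Ω₁(Z(K))` is not contained in
`O₂(P)`:

* `exa_lev`, `exa_AA` : the structure `Exa`, and the type of `V_P` (FF theorem);
* `zc_o2_lev` : `Ω₁(Z(O₂(P))) = V_P`;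
* `zc_nxt_lev` : `Ω₁(Z(nxt S K)) = C_{V_P}(nxt S K)`.
-/

set_option autoImplicit false
set_option linter.unusedSectionVars false
set_option linter.unusedVariables false

namespace Cfsg.Agent.Omega.NO3S.OneLine

open Subgroup Cfsg Cfsg.Agent.PLocal.ThompsonJ Cfsg.Agent.ZN Cfsg.Agent.ZN.ChoiceBase Cfsg.Agent.Omega.MinPar
open Cfsg.Agent.MinSimple.VModule (zc_le zc_le_zl zl_le le_o2 le_normalizer_zl)
open Cfsg.Agent.Omega.FFThm (NatKM SymKM OffM ElemM NoOverM StmtM ConclM)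
open Cfsg.Agent.Omega.FrameFF (cv)

universe u

variable {G : Type u} [Group G] [Finite G] {S : Sylow 2 G} {P K X : Subgroup G}

/-- The FF theorem for `P` and the best offenders on `X`. -/
theorem exa_bo (hFF : StmtM.{u}) (hG : IsCharacteristicTwoType G) (hP : IsParS (S : Subgroup G) P)
    (hX : IsElementaryAbelian 2 X) (hXS : X ≤ (S : Subgroup G)) (hPX : P ≤ normalizer (X : Set G))
    (hQX : zc (o2 P) ≤ X) (hcen : zc (S : Subgroup G) ⊓ centralizer (P : Set G) = ⊥)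
    (hJ : ∃ A ∈ bo (S : Subgroup G) X, ¬ A ≤ o2 P) :
    Exa S P X (normalizer (X : Set G)) (bo (S : Subgroup G) X) ∧ ConclM (S : Subgroup G) P := by
  obtain ⟨A, hA, hAQ⟩ := hJ
  have hB := bo_fam (S : Subgroup G) X
  have hVX : zl (S : Subgroup G) P ≤ X := (hP.isLoc.zl_le S hG).trans hQX
  have hXc : ∀ x ∈ X, ∀ y ∈ X, x * y = y * x := SQ1.Bau.elem_comm hX
  have hoff : OffM (zl (S : Subgroup G) P) A := by
    refine hB.offM hXc hVX hA fun h1 => hAQ ?_
    rw [← IsParS.inf_centralizer S hG hP]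
    exact le_inf (hB.le A hA) h1
  obtain ⟨hno, hcon⟩ := hFF G (S : Subgroup G) P (syl_of hP) hP.toIsMinPar (hP.isLoc.char2 S hG)
    ⟨A, (hB.le A hA).trans (syl_of hP).1, hoff⟩
  exact ⟨⟨hG, hP, hB, hX, hXS, hPX, hPX, hQX, hno, hcen, A, hA, hAQ⟩, hcon⟩

/-- The same at a level `K`. -/
theorem exa_lev (hFF : StmtM.{u}) (hG : IsCharacteristicTwoType G) (hP : IsParS (S : Subgroup G) P)
    (hL : Level.Lev (S : Subgroup G) K) (hK : K ≤ o2 P)
    (hcen : zc (S : Subgroup G) ⊓ centralizer (P : Set G) = ⊥)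
    (hJ : ∃ A ∈ Level.BO (S : Subgroup G) K, ¬ A ≤ o2 P) :
    Exa S P (zc K) (normalizer ((zc K : Subgroup G) : Set G)) (Level.BO (S : Subgroup G) K) ∧
      ConclM (S : Subgroup G) P := by
  have hQS := o2_le S hP.toIsPar
  have h1 := exa_bo hFF hG hP (zc_elem K) ((zc_le K).trans hL.le)
    ((hL.le_norm_of_o2 hK hQS).trans (Level.normalizer_le_zc K)) (hL.zc_o2_le hK hQS) hcen (bo_eq _ K ▸ hJ)
  rw [bo_eq]
  exact h1

/-- **(T6) at every level, every type**: `Ω₁(Z(O₂(P))) = V_P`. -/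
theorem Exa.zc_o2 {L : Subgroup G} {AA : Set (Subgroup G)} (h : Exa S P X L AA)
    (hc : ConclM (S : Subgroup G) P) : zc (o2 P) = zl (S : Subgroup G) P := by
  rcases hc with ⟨F, _, _, _, k, hk, ⟨M⟩⟩ | ⟨k, m, hk, hm, ⟨M⟩⟩
  · exact h.zc_o2_nat M hk
  · exact h.zc_o2_sym M hk (by omega)

/-- `Ω₁(Z(nxt S K)) = C_{Ω₁(Z(K))}(BO)` -/
theorem zc_nxt_eq (hL : Level.Lev (S : Subgroup G) K) : zc (Level.nxt (S : Subgroup G) K) =
    zc K ⊓ centralizer ((sSup (Level.BO (S : Subgroup G) K) : Subgroup G) : Set G) := by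
  have hKn : K ≤ Level.nxt (S : Subgroup G) K := Level.le_nxt hL.le
  apply le_antisymm
  · refine le_inf (hL.zc_le_zc hKn (Level.nxt_le _ _)) fun x hx => mem_centralizer_iff.2 fun a ha => ?_
    exact (mem_zc.1 hx).2.2 a (mem_sup_right ha)
  · rintro x ⟨hx, hxA⟩
    refine mem_zc.2 ⟨hKn (mem_zc.1 hx).1, (mem_zc.1 hx).2.1, ?_⟩
    have h1 : Level.nxt (S : Subgroup G) K ≤ centralizer {x} := by
      refine sup_le (fun c hc => ?_) (fun c hc => ?_)
      · rw [mem_centralizer_singleton_iff]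
        exact (mem_centralizer_iff.1 hc.2 x hx).symm
      · rw [mem_centralizer_singleton_iff]
        exact mem_centralizer_iff.1 hxA c hc
    exact fun y hy => mem_centralizer_singleton_iff.1 (h1 hy)

/-- **`Ω₁(Z(O₂(P))) = V_P` and `Ω₁(Z(nxt S K)) = C_{V_P}(nxt S K)`** at the level `K`, every type. -/
theorem lev_eq (hFF : StmtM.{u}) (hG : IsCharacteristicTwoType G) (hP : IsParS (S : Subgroup G) P)
    (hL : Level.Lev (S : Subgroup G) K) (hK : K ≤ o2 P)
    (hcen : zc (S : Subgroup G) ⊓ centralizer (P : Set G) = ⊥)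
    (hJ : ∃ A ∈ Level.BO (S : Subgroup G) K, ¬ A ≤ o2 P) :
    zc (o2 P) = zl (S : Subgroup G) P ∧ zc (Level.nxt (S : Subgroup G) K) =
      zl (S : Subgroup G) P ⊓ centralizer ((Level.nxt (S : Subgroup G) K : Subgroup G) : Set G) := by
  obtain ⟨h, hc⟩ := exa_lev hFF hG hP hL hK hcen hJ
  have hT := h.zc_o2 hc
  refine ⟨hT, le_antisymm (le_inf ?_ ?_) ?_⟩
  · rw [zc_nxt_eq hL]
    exact h.cent hT
  · exact fun x hx => mem_centralizer_iff.2 fun a ha => (mem_zc.1 hx).2.2 a ha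
  · rintro x ⟨hx, hxA⟩
    rw [zc_nxt_eq hL]
    refine ⟨h.VX hx, mem_centralizer_iff.2 fun a ha => ?_⟩
    exact mem_centralizer_iff.1 hxA a (mem_sup_right ha)

end Cfsg.Agent.Omega.NO3S.OneLine

end

section


/-!
# Fld: what LEMMA UNIQ over `B` needs from the FF theorem (module form)

`PtM S P V₁` (`P ∈ P(S)`, some `A ≤ S` is an offender on `V = V_P`; `D = C_V(O²(P))`): no over-offenders on `V`,
`V₁ ≤ V` is centralised by all offenders in `S`, `|C_S(V₁) : O₂(P)| ≤ |V₁|` and `|V| |D| ≤ |V₁|²`.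
`ptM_of` : there is such a `V₁`, by the module form of the FF theorem.  Nothing on `J(S)` is used.
-/

set_option autoImplicit false
set_option linter.unusedSectionVars false
set_option linter.unusedVariables false

namespace Cfsg.Agent.Omega.NO3S.Fld

open Subgroup Cfsg Cfsg.Agent.ZN Cfsg.Agent.ZN.ChoiceBase Cfsg.Agent.Omega.MinPar
open Cfsg.Agent.ZN.ChoiceSit (Syl o2_le_syl)
open Cfsg.Agent.Omega.SQ1
open Cfsg.Agent.PLocal.ElemAbSup Cfsg.Agent.PLocal.ThompsonJ
open Cfsg.Agent.MinSimple.VModule (zc_le zc_le_zl zl_le le_o2 le_normalizer_zl le_normalizer_o2)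
open Cfsg.Agent.Omega.SQ1.FFOne Cfsg.Agent.Omega.SQ1.FFSym Cfsg.Agent.Lib.SL2Mat
open Cfsg.Agent.Omega.FFThm (NatK SymK NatKM SymKM OffM NoOverM ActsSym ActsSL StmtM)
open Cfsg.Agent.Omega.FrameFF (cv)
open Cfsg.Agent.Omega.NatPair (ap ap_zero' ap_one' ap_one ap_mul ap_add ap_smul ext2 ap_inv_ap ap_inj)
open Cfsg.Agent.Omega.NO3S.OneLine (NatC natC_of card_of_hom syl_of minH card_mul_relIndex cyc_T' disj' sy_of)

universe u

variable {G : Type u} [Group G]

/-- What is used of the FF theorem, module form. -/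
structure PtM (S P V1 : Subgroup G) : Prop where
  no : NoOverM (zl S P) P
  le : V1 ≤ zl S P
  off : ∀ A ≤ S, OffM (zl S P) A → A ≤ centralizer (V1 : Set G)
  cen : (o2 P).relIndex (S ⊓ centralizer (V1 : Set G)) ≤ Nat.card V1
  sq : Nat.card (zl S P) * Nat.card (cv S P) ≤ Nat.card V1 ^ 2

/-! ### Natural modules -/

section nat

variable {F : Type} [Field F] {T H V D : Subgroup G} {k : ℕ} (M : NatC F T H V D k)

/-- the kernel of the `i`-th coordinate -/
def ker1 (i : Fin k) : Subgroup G where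
  carrier := {v | v ∈ V ∧ M.nat.e v i = 0}
  mul_mem' := by
    rintro a b ⟨ha, ha'⟩ ⟨hb, hb'⟩
    exact ⟨mul_mem ha hb, by rw [M.nat.mul a ha b hb, Pi.add_apply, ha', hb', add_zero]⟩
  one_mem' := ⟨one_mem V, by rw [M.map_one]; rfl⟩
  inv_mem' := by
    rintro a ⟨ha, ha'⟩
    exact ⟨inv_mem ha, by rw [M.map_inv ha, Pi.neg_apply, ha', neg_zero]⟩

/-- its stabiliser -/
def stab1 (i : Fin k) : Subgroup G where
  carrier := {g | g ∈ H ∧ ∀ v ∈ V, M.nat.e (g * v * g⁻¹) i = 0 ↔ M.nat.e v i = 0}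
  mul_mem' := by
    rintro a b ⟨ha, ha'⟩ ⟨hb, hb'⟩
    refine ⟨mul_mem ha hb, fun v hv => ?_⟩
    have e : a * b * v * (a * b)⁻¹ = a * (b * v * b⁻¹) * a⁻¹ := by group
    rw [e, ha' _ (M.Vn b hb v hv), hb' v hv]
  one_mem' := ⟨one_mem H, fun v hv => by rw [one_mul, inv_one, mul_one]⟩
  inv_mem' := by
    rintro a ⟨ha, ha'⟩
    refine ⟨inv_mem ha, fun v hv => ?_⟩
    rw [← ha' _ (M.Vn a⁻¹ (inv_mem ha) v hv)]
    have e : a * (a⁻¹ * v * a⁻¹⁻¹) * a⁻¹ = v := by group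
    rw [e]

theorem ap_eq_zero {A : Matrix.SpecialLinearGroup (Fin 2) F} {x : Fin 2 → F} : ap A x = 0 ↔ x = 0 := by
  have h0 : ∀ B : Matrix.SpecialLinearGroup (Fin 2) F, ap B 0 = 0 := by
    intro B
    have h1 := ap_smul B (0 : F) (0 : Fin 2 → F)
    rwa [zero_smul, zero_smul] at h1
  constructor
  · intro h
    have h1 := congrArg (ap A⁻¹) h
    rwa [ap_inv_ap, h0] at h1
  · rintro rfl
    exact h0 A

/-- the `i`-th section -/
def sec1 (i : Fin k) : NatSec F (stab1 M i) V (ker1 M i) where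
  π v := M.nat.e v i
  map_mul v hv w hw := by rw [M.nat.mul v hv w hw]; rfl
  V0V v hv := hv.1
  ker v hv := ⟨fun h => ⟨hv, h⟩, fun h => h.2⟩
  surj x := by
    obtain ⟨v, hv, e⟩ := M.nat.surj fun _ => x
    exact ⟨v, hv, by rw [e]⟩
  Vn h hh v hv := M.Vn h hh.1 v hv
  V0n h hh v hv := ⟨M.Vn h hh.1 v hv.1, (hh.2 v hv.1).2 hv.2⟩
  lift A := by
    obtain ⟨g, hg, h1, -⟩ := M.nat.lift fun _ => A
    refine ⟨g, ⟨hg, fun v hv => ?_⟩, fun v hv => h1 v hv i⟩
    rw [h1 v hv i, ap_eq_zero]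
  norm := by
    intro g hg h hh A hA
    obtain ⟨x, hx, h1, -⟩ := M.nat.lift fun _ => A
    obtain ⟨B, hB⟩ := M.nat.norm g hg.1 x hx (fun _ => A) h1
    refine ⟨B i, fun v hv => ?_⟩
    rw [← hB v hv]
    have hv' : g⁻¹ * v * g ∈ V := by
      have := M.Vn g⁻¹ (inv_mem hg.1) v hv
      rwa [inv_inv] at this
    have ha := M.Vn h hh.1 _ hv'
    have hb := M.Vn x hx _ hv'
    have h2 : M.nat.e (h * (g⁻¹ * v * g) * h⁻¹ * (x * (g⁻¹ * v * g) * x⁻¹)⁻¹) i = 0 := by
      rw [M.map_div ha hb, Pi.sub_apply, hA _ hv', h1 _ hv' i, sub_self]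
    have h3 := (hg.2 _ (mul_mem ha (inv_mem hb))).2 h2
    have e : g * (h * (g⁻¹ * v * g) * h⁻¹ * (x * (g⁻¹ * v * g) * x⁻¹)⁻¹) * g⁻¹ =
        (g * h * g⁻¹ * v * (g * h * g⁻¹)⁻¹) * (g * x * g⁻¹ * v * (g * x * g⁻¹)⁻¹)⁻¹ := by group
    have hc := M.Vn _ (mul_mem (mul_mem hg.1 hh.1) (inv_mem hg.1)) v hv
    have hd := M.Vn _ (mul_mem (mul_mem hg.1 hx) (inv_mem hg.1)) v hv
    rw [e, M.map_div hc hd, Pi.sub_apply, sub_eq_zero] at h3
    exact h3

/-- the product of the lines -/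
def lineM : Subgroup G where
  carrier := {v | v ∈ V ∧ ∀ i, M.nat.e v i 1 = 0}
  mul_mem' := by
    rintro a b ⟨ha, ha'⟩ ⟨hb, hb'⟩
    exact ⟨mul_mem ha hb, fun i => by
      rw [M.nat.mul a ha b hb, Pi.add_apply, Pi.add_apply, ha' i, hb' i, add_zero]⟩
  one_mem' := ⟨one_mem V, fun i => by rw [M.map_one]; rfl⟩
  inv_mem' := by
    rintro a ⟨ha, ha'⟩
    exact ⟨inv_mem ha, fun i => by rw [M.map_inv ha, Pi.neg_apply, Pi.neg_apply, ha' i, neg_zero]⟩

theorem D_le_lineM : D ≤ lineM M := fun v hv => ⟨M.DV hv, fun i => by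
  rw [(M.nat.ker v (M.DV hv)).2 hv]; rfl⟩

/-- elements of `T` which centralise the lines -/
theorem natUp [Finite G] [Finite F] [CharP F 2] (hT : Syl T H) {t : G} (ht : t ∈ T)
    (hc : ∀ v ∈ lineM M, t * v = v * t) : ∃ c : Fin k → F, M.Acts t fun i => up (c i) := by
  classical
  have htH := hT.1 ht
  obtain ⟨n, hn⟩ := hT.2.1 ⟨t, ht⟩
  have hn' : t ^ 2 ^ n = 1 := by simpa using congrArg Subtype.val hn
  obtain ⟨σ, hσ⟩ := M.nat.perm t htH
  -- vectors of the lines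
  have hl : ∀ (i : Fin k) (x : Fin 2 → F), x 1 = 0 → ∃ w ∈ lineM M, M.nat.e w = Pi.single i x := by
    intro i x hx
    obtain ⟨w, hw, e⟩ := M.nat.surj (Pi.single i x)
    refine ⟨w, ⟨hw, fun j => ?_⟩, e⟩
    rw [e]
    by_cases hj : j = i
    · subst hj; rw [Pi.single_eq_same]; exact hx
    · rw [Pi.single_eq_of_ne hj]; rfl
  have hfix : ∀ w ∈ lineM M, t * w * t⁻¹ = w := fun w hw => by rw [hc w hw]; group
  have hσ1 : ∀ i, σ i = i := by
    intro i
    by_contra hne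
    obtain ⟨w, hw, e⟩ := hl i ![1, 0] (by simp)
    have h1 := hσ w hw.1 i
    rw [hfix w hw, e, Pi.single_eq_of_ne hne, Pi.single_eq_same] at h1
    have h2 := congrFun (h1.1 rfl) 0
    simp at h2
  have hup : ∀ i, ∃ c : F, ∀ v ∈ V, M.nat.e (t * v * t⁻¹) i = ap (up c) (M.nat.e v i) := by
    intro i
    have htS : t ∈ stab1 M i := ⟨htH, fun v hv => by
      have h1 := hσ v hv i
      rwa [hσ1 i] at h1⟩
    obtain ⟨c, hcc⟩ := (sec1 M i).up_of_line htS hn' (by
      intro v hv h0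
      show M.nat.e (t * v * t⁻¹) i = M.nat.e v i
      obtain ⟨w, hw, e⟩ := hl i (M.nat.e v i) h0
      have h1 : M.nat.e (w⁻¹ * v) i = 0 := by
        rw [M.nat.mul _ (inv_mem hw.1) v hv, Pi.add_apply, M.map_inv hw.1, Pi.neg_apply, e, Pi.single_eq_same,
          neg_add_cancel]
      have hwv := mul_mem (inv_mem hw.1) hv
      have h2 := (htS.2 _ hwv).2 h1
      have h3 := M.Vn t htH _ hwv
      have e2 : t * v * t⁻¹ = (t * w * t⁻¹) * (t * (w⁻¹ * v) * t⁻¹) := by group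
      rw [e2, hfix w hw, M.nat.mul w hw.1 _ h3, Pi.add_apply, h2, add_zero, e, Pi.single_eq_same])
    exact ⟨c, hcc⟩
  choose c hcc using hup
  exact ⟨c, fun v hv i => hcc i v hv⟩

theorem natCenM [Finite G] [Finite F] [CharP F 2] (hm : MinH H T)
    (hcV : T ⊓ centralizer (V : Set G) ≤ o2 H) :
    (o2 H).relIndex (T ⊓ centralizer (lineM M : Set G)) ≤ Nat.card (Fin k → F) := by
  have key : ∀ x : (T ⊓ centralizer (lineM M : Set G) : Subgroup G), ∃ c : Fin k → F,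
      M.Acts x fun i => up (c i) := fun x =>
    natUp M hm.syl x.2.1 fun v hv => (mem_centralizer_iff.1 x.2.2 v hv).symm
  choose f hf using key
  refine relIndex_le_card f fun x y hxy => ?_
  have hxH := hm.syl.1 x.2.1
  have hyH := hm.syl.1 y.2.1
  have h1 := NatC.acts_mul hyH (NatC.acts_inv hxH (hf x)) (hf y)
  rw [hxy, inv_mul_cancel] at h1
  refine hcV (mem_inf.2 ⟨mul_mem (inv_mem x.2.1) y.2.1, mem_centralizer_iff.2 fun v hv => ?_⟩)
  refine (M.cent_of_stab hm ⟨mul_mem (inv_mem hxH) hyH, h1, fun d hd => ?_⟩ hv).symm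
  have hd' := D_le_lineM M hd
  have e1 : Commute (x : G) d := (mem_centralizer_iff.1 x.2.2 d hd').symm
  have e2 : Commute (y : G) d := (mem_centralizer_iff.1 y.2.2 d hd').symm
  exact (e1.inv_left.mul_left e2).eq

theorem natCardM [Finite G] [Finite F] : Nat.card V = Nat.card (lineM M) * Nat.card (Fin k → F) := by
  refine card_of_hom (fun v hv => hv.1) (fun v i => M.nat.e v i 1) ?_ ?_ ?_
  · intro v hv w hw
    funext i
    show M.nat.e (v * w) i 1 = M.nat.e v i 1 + M.nat.e w i 1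
    rw [M.nat.mul v hv w hw]; rfl
  · intro c
    obtain ⟨v, hv, e⟩ := M.nat.surj fun i => ![0, c i]
    refine ⟨v, hv, ?_⟩
    funext i
    rw [e]; simp
  · intro v hv
    constructor
    · intro h
      exact ⟨hv, fun i => congrFun h i⟩
    · intro h
      funext i
      exact h.2 i

theorem natCard1M [Finite G] [Finite F] : Nat.card (lineM M) = Nat.card D * Nat.card (Fin k → F) := by
  refine card_of_hom (D_le_lineM M) (fun v i => M.nat.e v i 0) ?_ ?_ ?_
  · intro v hv w hw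
    funext i
    show M.nat.e (v * w) i 0 = M.nat.e v i 0 + M.nat.e w i 0
    rw [M.nat.mul v hv.1 w hw.1]; rfl
  · intro c
    obtain ⟨v, hv, e⟩ := M.nat.surj fun i => ![c i, 0]
    refine ⟨v, ⟨hv, fun i => by rw [e]; simp⟩, ?_⟩
    funext i
    rw [e]; simp
  · intro v hv
    rw [← M.nat.ker v hv.1]
    constructor
    · intro h
      funext i
      exact ext2 (congrFun h i) (hv.2 i)
    · intro h
      funext i
      show M.nat.e v i 0 = 0
      rw [h]; rfl

end nat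

/-! ### Even-subset modules -/

section sym

variable {T H V D : Subgroup G} {k n : ℕ} {o : Fin n} {e : G → Fin k → Fin n → ZMod 2}

/-- the transposition `(x y)` of the component `j` is induced by `T` -/
def TrM (T H V D : Subgroup G) (e : G → Fin k → Fin n → ZMod 2) (j : Fin k) (x y : Fin n) : Prop :=
  x ≠ y ∧ ∃ t ∈ T, Gd H V D e (Pi.mulSingle j (Equiv.swap x y)) t

/-- the module data, with a transposition induced by `T` -/
structure SyC (T H V D : Subgroup G) {k n : ℕ} (o : Fin n) (e : G → Fin k → Fin n → ZMod 2) : Prop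
    extends Sy H V D e where
  TH : T ≤ H
  Tp : IsPGroup 2 T
  trans : ∀ i j, ∃ t ∈ T, ∃ σ τ, ActsSym e V t σ τ ∧ σ i = j
  fix0 : ∀ t ∈ T, ∀ σ τ, ActsSym e V t σ τ → ∀ i, τ i o = o
  cyc : ∀ (j : Fin k) (x y : Fin n), x ≠ o → y ≠ o → ∃ t ∈ T, ∃ π, Gd H V D e (Pi.mulSingle j π) t ∧ π x = y
  ex : ∃ j x y, TrM T H V D e j x y

theorem TrM.symm {j : Fin k} {x y : Fin n} (h1 : TrM T H V D e j x y) : TrM T H V D e j y x := by
  obtain ⟨h2, t, ht, h3⟩ := h1
  exact ⟨h2.symm, t, ht, by rwa [Equiv.swap_comm]⟩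

theorem TrM.ne (h : SyC T H V D o e) {j : Fin k} {x y : Fin n} (h1 : TrM T H V D e j x y) : x ≠ o := by
  obtain ⟨h2, t, ht, h3⟩ := h1
  have h4 := h.fix0 t ht _ _ h3.act j
  rw [Pi.mulSingle_eq_same] at h4
  intro h5
  subst h5
  rw [Equiv.swap_apply_left] at h4
  exact h2 h4.symm

theorem TrM.conj (h : SyC T H V D o e) {j : Fin k} {x y : Fin n}
    (h1 : TrM T H V D e j x y) {s : G} (hs : s ∈ T) {σ : Equiv.Perm (Fin k)}
    {τ : Fin k → Equiv.Perm (Fin n)} (hsa : ActsSym e V s σ τ) :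
    TrM T H V D e (σ j) (τ j x) (τ j y) := by
  obtain ⟨h2, t, ht, h3⟩ := h1
  refine ⟨fun e => h2 ((τ j).injective e), s * t * s⁻¹, mul_mem (mul_mem hs ht) (inv_mem hs), ?_⟩
  have h4 := h.gd_conj_single (h.TH hs) hsa h3
  rwa [← Equiv.swap_apply_apply] at h4

theorem TrM.disj (h : SyC T H V D o e) {j : Fin k} {x y z : Fin n} (h1 : TrM T H V D e j x y)
    (h2 : TrM T H V D e j x z) : y = z := by
  obtain ⟨h3, t, ht, h4⟩ := h1
  obtain ⟨h5, s, hs, h6⟩ := h2
  exact disj' h.toSy h.Tp h3 h5 ht hs h4 h6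

/-- every point different from `o` is moved by a transposition -/
theorem SyC.cover (h : SyC T H V D o e) (j : Fin k) {x : Fin n} (hx : x ≠ o) : ∃ y, TrM T H V D e j x y := by
  obtain ⟨j₀, x₀, y₀, h0⟩ := h.ex
  obtain ⟨t, ht, σ, τ, hta, hσ⟩ := h.trans j₀ j
  have h1 := h0.conj h ht hta
  rw [hσ] at h1
  obtain ⟨s, hs, π, hπ, hπx⟩ := h.cyc j _ _ (h1.ne h) hx
  have h2 := h1.conj h hs hπ.act
  rw [Equiv.Perm.one_apply, Pi.mulSingle_eq_same, hπx] at h2
  exact ⟨_, h2⟩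

/-- The index set of the transpositions. -/
structure ChM (T H V D : Subgroup G) (e : G → Fin k → Fin n → ZMod 2) {ι : Type}
    (J : ι → Fin k) (X Y : ι → Fin n) : Prop where
  tr : ∀ i, TrM T H V D e (J i) (X i) (Y i)
  inj : ∀ i j, u H V D e (J i) (X i) (Y i) = u H V D e (J j) (X j) (Y j) → i = j
  ex : ∀ j x y, TrM T H V D e j x y → ∃ i, u H V D e (J i) (X i) (Y i) = u H V D e j x y

theorem SyC.exists_ch (h : SyC T H V D o e) : ∃ (ι : Type) (J : ι → Fin k) (X Y : ι → Fin n),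
    Finite ι ∧ ChM T H V D e J X Y := by
  let ι : Type := {p : Fin k × Fin n × Fin n // TrM T H V D e p.1 p.2.1 p.2.2 ∧ p.2.1 < p.2.2}
  refine ⟨ι, fun i => i.1.1, fun i => i.1.2.1, fun i => i.1.2.2, inferInstance, fun i => i.2.1, ?_, ?_⟩
  · rintro ⟨⟨j, x, y⟩, hT, hxy⟩ ⟨⟨j', x', y'⟩, hT', hxy'⟩ hij
    obtain ⟨h1, h2⟩ := h.u_inj hT.1 hij
    simp only at h1 h2 hxy hxy'
    rcases h2 with ⟨h2, h3⟩ | ⟨h2, h3⟩
    · subst h1; subst h2; subst h3; rfl
    · exfalso
      rw [h2, h3] at hxy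
      exact absurd hxy (not_lt.2 hxy'.le)
  · intro j x y hT
    rcases lt_or_gt_of_ne hT.1 with h1 | h1
    · exact ⟨⟨(j, x, y), hT, h1⟩, rfl⟩
    · exact ⟨⟨(j, y, x), hT.symm, h1⟩, h.u_symm _ _ _⟩

variable {ι : Type} {J : ι → Fin k} {X Y : ι → Fin n}

theorem ChM.exists_idx (h : SyC T H V D o e) (c : ChM T H V D e J X Y) {j : Fin k}
    {x y : Fin n} (hT : TrM T H V D e j x y) : ∃ i, J i = j ∧
      u H V D e (J i) (X i) (Y i) = u H V D e j x y ∧ ((X i = x ∧ Y i = y) ∨ (X i = y ∧ Y i = x)) := by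
  obtain ⟨i, hi⟩ := c.ex j x y hT
  obtain ⟨h1, h2⟩ := h.u_inj (c.tr i).1 hi
  exact ⟨i, h1, hi, h2⟩

/-- Two indices: equal, or different components, or disjoint pairs. -/
theorem ChM.cases (h : SyC T H V D o e) (c : ChM T H V D e J X Y) {i j : ι} (hij : i ≠ j)
    (hJ : J i = J j) : X i ≠ X j ∧ X i ≠ Y j ∧ Y i ≠ X j ∧ Y i ≠ Y j := by
  have hi := c.tr i
  have hj := c.tr j
  rw [hJ] at hi
  have key : ∀ {a b : Fin n}, (a = X i ∧ b = Y i) ∨ (a = Y i ∧ b = X i) →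
      ((a = X j ∧ b = Y j) ∨ (a = Y j ∧ b = X j)) → False := by
    intro a b h1 h2
    apply hij
    apply c.inj
    rw [hJ]
    rcases h1 with ⟨rfl, rfl⟩ | ⟨rfl, rfl⟩ <;> rcases h2 with ⟨h2, h3⟩ | ⟨h2, h3⟩
    · rw [h2, h3]
    · rw [h2, h3, h.u_symm]
    · rw [h2, h3, h.u_symm]
    · rw [h2, h3]
  refine ⟨fun e1 => ?_, fun e1 => ?_, fun e1 => ?_, fun e1 => ?_⟩
  · have hi' := hi
    rw [e1] at hi'
    exact key (Or.inl ⟨rfl, rfl⟩) (Or.inl ⟨e1, TrM.disj h hi' hj⟩)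
  · have hi' := hi
    rw [e1] at hi'
    exact key (Or.inl ⟨rfl, rfl⟩) (Or.inr ⟨e1, TrM.disj h hi' hj.symm⟩)
  · have hi' := hi.symm
    rw [e1] at hi'
    exact key (Or.inr ⟨rfl, rfl⟩) (Or.inl ⟨e1, TrM.disj h hi' hj⟩)
  · have hi' := hi.symm
    rw [e1] at hi'
    exact key (Or.inr ⟨rfl, rfl⟩) (Or.inr ⟨e1, TrM.disj h hi' hj.symm⟩)

/-- the coordinates of `u i` -/
theorem e_u_valM (h : SyC T H V D o e) (c : ChM T H V D e J X Y) (i l : ι) [Decidable (l = i)] :
    e (u H V D e (J i) (X i) (Y i)) (J l) (X l) = (if l = i then 1 else 0) ∧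
      e (u H V D e (J i) (X i) (Y i)) (J l) (Y l) = (if l = i then 1 else 0) := by
  have h1 := h.e_u (J i) (X i) (Y i)
  rw [h1]
  have hxy := (c.tr i).1
  by_cases hli : l = i
  · subst hli
    rw [if_pos rfl]
    constructor
    · rw [Pi.add_apply, Pi.add_apply, E_self, E_ne fun h => hxy h.2, add_zero]
    · rw [Pi.add_apply, Pi.add_apply, E_self, E_ne fun h => hxy h.2.symm, zero_add]
  · rw [if_neg hli]
    by_cases hJ : J l = J i
    · obtain ⟨a1, a2, a3, a4⟩ := c.cases h hli hJ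
      constructor
      · rw [Pi.add_apply, Pi.add_apply, E_ne fun h => a1 h.2, E_ne fun h => a2 h.2, add_zero]
      · rw [Pi.add_apply, Pi.add_apply, E_ne fun h => a3 h.2, E_ne fun h => a4 h.2, add_zero]
    · constructor
      · rw [Pi.add_apply, Pi.add_apply, E_ne fun h => hJ h.1, E_ne fun h => hJ h.1, add_zero]
      · rw [Pi.add_apply, Pi.add_apply, E_ne fun h => hJ h.1, E_ne fun h => hJ h.1, add_zero]

/-- `D` and the `u i` -/
def uM (H V D : Subgroup G) (e : G → Fin k → Fin n → ZMod 2) (J : ι → Fin k) (X Y : ι → Fin n) : Subgroup G :=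
  D ⊔ closure (Set.range fun i => u H V D e (J i) (X i) (Y i))

theorem D_le_uM : D ≤ uM H V D e J X Y := le_sup_left

theorem u_mem_uM (i : ι) : u H V D e (J i) (X i) (Y i) ∈ uM H V D e J X Y :=
  mem_sup_right (subset_closure ⟨i, rfl⟩)

theorem uM_le {K : Subgroup G} (h1 : D ≤ K) (h2 : ∀ i, u H V D e (J i) (X i) (Y i) ∈ K) :
    uM H V D e J X Y ≤ K := by
  refine sup_le h1 ((closure_le _).2 ?_)
  rintro _ ⟨i, rfl⟩
  exact h2 i

theorem uM_le_V (h : SyC T H V D o e) : uM H V D e J X Y ≤ V := uM_le h.DV fun i => h.u_mem _ _ _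

theorem exists_uM (h : SyC T H V D o e) (c : ChM T H V D e J X Y) [Finite ι] (f : ι → ZMod 2) :
    ∃ w ∈ uM H V D e J X Y, ∀ l, e w (J l) (X l) = f l ∧ e w (J l) (Y l) = f l := by
  classical
  have := Fintype.ofFinite ι
  have key : ∀ s : Finset ι, ∃ w ∈ uM H V D e J X Y, ∀ l, e w (J l) (X l) = (if l ∈ s then f l else 0) ∧
      e w (J l) (Y l) = (if l ∈ s then f l else 0) := by
    intro s
    induction s using Finset.induction_on with
    | empty =>
      refine ⟨1, one_mem _, fun l => ?_⟩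
      rw [h.e_one]
      simp
    | insert i s hi ih =>
      obtain ⟨w, hw, hwl⟩ := ih
      by_cases hf : f i = 0
      · refine ⟨w, hw, fun l => ?_⟩
        rw [(hwl l).1, (hwl l).2]
        by_cases hl : l = i
        · subst hl
          simp [hi, hf]
        · simp [hl]
      · refine ⟨w * u H V D e (J i) (X i) (Y i), mul_mem hw (u_mem_uM i), fun l => ?_⟩
        obtain ⟨h1, h2⟩ := e_u_valM h c i l
        rw [h.mul w (uM_le_V h hw) _ (h.u_mem _ _ _), Pi.add_apply, Pi.add_apply, Pi.add_apply, h1, h2,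
          (hwl l).1, (hwl l).2]
        by_cases hl : l = i
        · subst hl
          simp [hi, two_eq hf]
        · simp [hl]
  obtain ⟨w, hw, h1⟩ := key Finset.univ
  exact ⟨w, hw, fun l => by simpa using h1 l⟩

theorem mem_D_ofM (h : SyC T H V D o e) (c : ChM T H V D e J X Y) {v : G} (hv : v ∈ V)
    (h1 : ∀ l, e v (J l) (X l) = 0 ∧ e v (J l) (Y l) = 0) : v ∈ D := by
  rw [← h.ker v hv]
  have key : ∀ j x, x ≠ o → e v j x = 0 := by
    intro j x hx
    obtain ⟨y, hy⟩ := h.cover j hx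
    obtain ⟨i, hiJ, -, hi⟩ := c.exists_idx h hy
    rcases hi with ⟨hi, -⟩ | ⟨-, hi⟩
    · rw [← hiJ, ← hi]; exact (h1 i).1
    · rw [← hiJ, ← hi]; exact (h1 i).2
  funext j x
  by_cases hx : x = o
  · subst hx
    have h2 := h.even v hv j
    rw [Finset.sum_eq_single x (fun y _ hy => key j y hy) (fun hx => absurd (Finset.mem_univ x) hx)] at h2
    exact h2
  · exact key j x hx

theorem mem_uM_of (h : SyC T H V D o e) (c : ChM T H V D e J X Y) [Finite ι] {v : G} (hv : v ∈ V)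
    (h1 : ∀ l, e v (J l) (X l) = e v (J l) (Y l)) : v ∈ uM H V D e J X Y := by
  obtain ⟨w, hw, h2⟩ := exists_uM h c fun l => e v (J l) (X l)
  have hwV := uM_le_V h hw
  have h3 : v * w ∈ D := by
    refine mem_D_ofM h c (mul_mem hv hwV) fun l => ?_
    rw [h.mul v hv w hwV, Pi.add_apply, Pi.add_apply, Pi.add_apply, (h2 l).1, (h2 l).2, ← h1 l]
    exact ⟨CharTwo.add_self_eq_zero _, CharTwo.add_self_eq_zero _⟩
  have h4 := mul_mem (D_le_uM h3) (inv_mem hw)
  rwa [mul_inv_cancel_right] at h4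

theorem e_uM (h : SyC T H V D o e) (c : ChM T H V D e J X Y) {v : G} (hv : v ∈ uM H V D e J X Y) (l : ι) :
    e v (J l) (X l) = e v (J l) (Y l) := by
  classical
  let K : Subgroup G :=
    { carrier := {v | v ∈ V ∧ e v (J l) (X l) = e v (J l) (Y l)}
      mul_mem' := by
        rintro a b ⟨ha, ha'⟩ ⟨hb, hb'⟩
        refine ⟨mul_mem ha hb, ?_⟩
        rw [h.mul a ha b hb, Pi.add_apply, Pi.add_apply, Pi.add_apply, ha', hb']
      one_mem' := ⟨one_mem _, by rw [h.e_one]; rfl⟩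
      inv_mem' := by
        rintro a ⟨ha, ha'⟩
        exact ⟨inv_mem ha, by rw [h.e_inv ha]; exact ha'⟩ }
  have h1 : uM H V D e J X Y ≤ K := by
    refine uM_le (fun d hd => ⟨h.DV hd, ?_⟩) fun i => ⟨h.u_mem _ _ _, ?_⟩
    · rw [(h.ker d (h.DV hd)).2 hd]; rfl
    · obtain ⟨a, b⟩ := e_u_valM h c i l
      rw [a, b]
  exact (h1 hv).2

theorem symCard1M [Finite G] (h : SyC T H V D o e) (c : ChM T H V D e J X Y) [Finite ι] :
    Nat.card (uM H V D e J X Y) = Nat.card D * Nat.card (ι → ZMod 2) := by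
  refine card_of_hom D_le_uM (fun (v : G) (i : ι) => e v (J i) (X i)) ?_ ?_ ?_
  · intro v hv w hw
    funext i
    show e (v * w) (J i) (X i) = e v (J i) (X i) + e w (J i) (X i)
    rw [h.mul v (uM_le_V h hv) w (uM_le_V h hw)]; rfl
  · intro f
    obtain ⟨w, hw, h1⟩ := exists_uM h c f
    exact ⟨w, hw, funext fun l => (h1 l).1⟩
  · intro v hv
    constructor
    · intro h1
      refine mem_D_ofM h c (uM_le_V h hv) fun l => ?_
      rw [← e_uM h c hv l]
      exact ⟨congrFun h1 l, congrFun h1 l⟩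
    · intro h1
      funext i
      show e v (J i) (X i) = 0
      rw [(h.ker v (uM_le_V h hv)).2 h1]; rfl

theorem symCardM [Finite G] (h : SyC T H V D o e) (c : ChM T H V D e J X Y) [Finite ι] :
    Nat.card V ≤ Nat.card (uM H V D e J X Y) * Nat.card (ι → ZMod 2) := by
  rw [← card_mul_relIndex (uM_le_V h : uM H V D e J X Y ≤ V)]
  refine Nat.mul_le_mul_left _ (relIndex_le_card (fun (v : V) (i : ι) =>
    e (v : G) (J i) (X i) + e (v : G) (J i) (Y i)) fun x y hxy => ?_)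
  refine mem_uM_of h c (mul_mem (inv_mem x.2) y.2) fun l => ?_
  rw [h.mul _ (inv_mem x.2) _ y.2, h.e_inv x.2]
  have h1 : e (x : G) (J l) (X l) + e (x : G) (J l) (Y l) = e (y : G) (J l) (X l) + e (y : G) (J l) (Y l) :=
    congrFun hxy l
  have h2 := CharTwo.add_self_eq_zero (e (y : G) (J l) (X l))
  have h3 := CharTwo.add_self_eq_zero (e (x : G) (J l) (Y l))
  simp only [Pi.add_apply]
  linear_combination h1 + h2 - h3

/-- the elements of `T` centralising `V₁` -/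
theorem symCenM [Finite G] {Q : Subgroup G} (h : SyC T H V D o e) (c : ChM T H V D e J X Y) [Finite ι]
    (cT : T ⊓ centralizer (V : Set G) ≤ Q) :
    Q.relIndex (T ⊓ centralizer (uM H V D e J X Y : Set G)) ≤ Nat.card (ι → ZMod 2) := by
  classical
  have key : ∀ x : (T ⊓ centralizer (uM H V D e J X Y : Set G) : Subgroup G), ∃ τ, Gd H V D e τ x ∧
      (∀ j, τ j o = o) ∧ ∀ i,
      (τ (J i) (X i) = X i ∧ τ (J i) (Y i) = Y i) ∨ (τ (J i) (X i) = Y i ∧ τ (J i) (Y i) = X i) := by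
    rintro ⟨x, hx, hxc⟩
    have hxc' : ∀ v ∈ uM H V D e J X Y, x * v = v * x := fun v hv => (mem_centralizer_iff.1 hxc v hv).symm
    obtain ⟨σ, τ, hxa⟩ := h.perm x (h.TH hx)
    have h0 := h.fix0 x hx σ τ hxa
    have key : ∀ j a b, TrM T H V D e j a b → σ j = j ∧
        ((τ j a = a ∧ τ j b = b) ∨ (τ j a = b ∧ τ j b = a)) := by
      intro j a b hT
      obtain ⟨i, -, hi, -⟩ := c.exists_idx h hT
      have h1 := h.u_conj (h.TH hx) hxa j a b
      have h2 := hxc' _ (u_mem_uM i)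
      rw [hi] at h2
      have h3 : u H V D e (σ j) (τ j a) (τ j b) = u H V D e j a b := by
        rw [← h1, h2]; group
      exact h.u_inj (fun e => hT.1 ((τ j).injective e)) h3
    have hσ : σ = 1 := by
      ext j
      obtain ⟨z, hz, -⟩ := h.exists_third o o
      obtain ⟨y, hy⟩ := h.cover j hz
      rw [(key j z y hy).1]; rfl
    subst hσ
    exact ⟨τ, ⟨h.TH hx, fun d hd => hxc' d (D_le_uM hd), hxa⟩, h0, fun i => (key _ _ _ (c.tr i)).2⟩
  choose f hf h0 hf' using key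
  refine relIndex_le_card (fun x i => if f x (J i) (X i) = X i then (0 : ZMod 2) else 1) fun x y hxy => ?_
  have h1 : f x = f y := by
    funext j
    ext1 z
    by_cases hz : z = o
    · rw [hz, h0, h0]
    · obtain ⟨z', hz'⟩ := h.cover j hz
      obtain ⟨i, hiJ, -, hi⟩ := c.exists_idx h hz'
      have hne := (c.tr i).1
      have h2 := congrFun hxy i
      have h3 : (f x (J i) (X i) = X i) ↔ (f y (J i) (X i) = X i) := by
        by_cases h4 : f x (J i) (X i) = X i <;> by_cases h5 : f y (J i) (X i) = X i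
        · exact ⟨fun _ => h5, fun _ => h4⟩
        · simp [h4, h5] at h2
        · simp [h4, h5] at h2
        · exact ⟨fun h => absurd h h4, fun h => absurd h h5⟩
      have h6 : f x (J i) (X i) = f y (J i) (X i) ∧ f x (J i) (Y i) = f y (J i) (Y i) := by
        rcases hf' x i with ⟨a1, a2⟩ | ⟨a1, a2⟩ <;> rcases hf' y i with ⟨b1, b2⟩ | ⟨b1, b2⟩
        · exact ⟨a1.trans b1.symm, a2.trans b2.symm⟩
        · exact absurd ((h3.1 a1).symm.trans b1) hne
        · exact absurd ((h3.2 b1).symm.trans a1) hne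
        · exact ⟨a1.trans b1.symm, a2.trans b2.symm⟩
      rw [← hiJ]
      rcases hi with ⟨hi, -⟩ | ⟨-, hi⟩
      · rw [← hi]; exact h6.1
      · rw [← hi]; exact h6.2
  have h2 := h.gd_mul (h.gd_inv (hf x)) (hf y)
  rw [h1, inv_mul_cancel] at h2
  refine cT (mem_inf.2 ⟨mul_mem (inv_mem x.2.1) y.2.1, mem_centralizer_iff.2 fun v hv => ?_⟩)
  have h3 := h.gd_sim h2 h.gd_one v hv
  rw [one_mul, inv_one, mul_one] at h3
  symm
  calc (x : G)⁻¹ * y * v = ((x : G)⁻¹ * y * v * ((x : G)⁻¹ * y)⁻¹) * ((x : G)⁻¹ * y) := by group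
    _ = v * ((x : G)⁻¹ * y) := by rw [h3]

/-- an element which acts as a product of transpositions centralises `V₁` -/
theorem symOffM (h : SyC T H V D o e) (c : ChM T H V D e J X Y) {a : G} (ha : a ∈ H)
    (hD : ∀ d ∈ D, a * d = d * a) {τ : Fin k → Equiv.Perm (Fin n)} (hτ : ActsSym e V a 1 τ)
    (h2 : ∀ i x, τ i x ≠ x → TrM T H V D e i x (τ i x)) :
    a ∈ centralizer (uM H V D e J X Y : Set G) := by
  have hle : uM H V D e J X Y ≤ centralizer {a} := by
    refine uM_le (fun d hd => mem_centralizer_singleton_iff.2 (hD d hd).symm) fun i => ?_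
    rw [mem_centralizer_singleton_iff]
    have hT := c.tr i
    have hkey : ∀ x y : Fin n, TrM T H V D e (J i) x y → τ (J i) x = x ∨ τ (J i) x = y := by
      intro x y hxy
      by_cases hx : τ (J i) x = x
      · exact Or.inl hx
      · exact Or.inr (TrM.disj h hxy (h2 _ _ hx)).symm
    have h3 := hkey _ _ hT
    have h4 := hkey _ _ hT.symm
    have h5 : u H V D e (J i) (τ (J i) (X i)) (τ (J i) (Y i)) = u H V D e (J i) (X i) (Y i) := by
      rcases h3 with h3 | h3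
      · rcases h4 with h4 | h4
        · rw [h3, h4]
        · exfalso
          exact hT.1 ((τ (J i)).injective (h3.trans h4.symm))
      · rcases h4 with h4 | h4
        · exfalso
          exact hT.1 ((τ (J i)).injective (h3.trans h4.symm))
        · rw [h3, h4, h.u_symm]
    have h1 := h.u_conj ha hτ (J i) (X i) (Y i)
    rw [Equiv.Perm.one_apply, h5] at h1
    symm
    calc a * u H V D e (J i) (X i) (Y i) =
        (a * u H V D e (J i) (X i) (Y i) * a⁻¹) * a := by group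
      _ = _ := by rw [h1]
  exact mem_centralizer_iff.2 fun v hv => mem_centralizer_singleton_iff.1 (hle hv)

end sym

/-! ### The result -/

variable [Finite G] {S : Sylow 2 G} {R : Subgroup G}

/-- **A member of `P*(S)` with an offender.** -/
theorem ptM_of (hFF : StmtM.{u}) (hG : IsCharacteristicTwoType G) (hR : IsParS (S : Subgroup G) R)
    {A : Subgroup G} (hA : A ≤ (S : Subgroup G)) (hoff : OffM (zl (S : Subgroup G) R) A) :
    ∃ V1, PtM (S : Subgroup G) R V1 := by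
  have hsyl := syl_of hR
  have hch := hR.isLoc.char2 S hG
  have hm := minH hG hR
  have hcV := (IsParS.inf_centralizer S hG hR).le
  obtain ⟨hno, hcon⟩ := hFF G (S : Subgroup G) R hsyl hR.toIsMinPar hch ⟨A, hA.trans hsyl.1, hoff⟩
  rcases hcon with ⟨F, _, _, _, k, hk, ⟨M⟩⟩ | ⟨k, m, hk, hm2, ⟨M⟩⟩
  · let N := natC_of hm hk M.toNatK
    have h1 := natCenM N hm hcV
    have h2 := natCardM N
    have h3 := natCard1M N
    refine ⟨lineM N, hno, fun v hv => hv.1, fun B hB hB' b hb => ?_, h1.trans ?_, ?_⟩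
    · obtain ⟨I, h4, h5⟩ := M.offM B hB hB'
      refine mem_centralizer_iff.2 fun v hv => ?_
      exact (N.cent_line hm hB hB'.le h4 h5 hv.1 hv.2 hb).symm
    · rw [h3]
      exact Nat.le_mul_of_pos_left _ Nat.card_pos
    · rw [h2, pow_two, mul_assoc]
      refine Nat.mul_le_mul_left _ ?_
      rw [h3, mul_comm]
  · have hs := sy_of hm M.toSymK hk (by omega) SQ1.FFOf.cv_le SQ1.FFOf.cv_norm
    have hTH := hm.syl.1
    have hswap : ∀ B : Subgroup G, B ≤ (S : Subgroup G) → OffM (zl (S : Subgroup G) R) B → ∀ b ∈ B,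
        ∃ τ, Gd R (zl (S : Subgroup G) R) (cv (S : Subgroup G) R) M.e τ b ∧ ∀ i x, τ i x ≠ x →
          TrM (S : Subgroup G) R (zl (S : Subgroup G) R) (cv (S : Subgroup G) R) M.e i x (τ i x) := by
      intro B hB hB' b hb
      obtain ⟨hD, h2⟩ := M.offM B hB hB'
      obtain ⟨τ, hτ, hτ'⟩ := h2 b hb
      refine ⟨τ, ⟨hTH (hB hb), hD b hb, hτ⟩, fun i x hx => ?_⟩
      obtain ⟨-, b', hb', hb''⟩ := hτ' i x hx
      exact ⟨Ne.symm hx, b', hB hb', hTH (hB hb'), hD b' hb', hb''⟩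
    have h : SyC (S : Subgroup G) R (zl (S : Subgroup G) R) (cv (S : Subgroup G) R) (0 : Fin (2 ^ m + 1)) M.e := by
      refine ⟨hs, hTH, hm.syl.2.1, M.trans, M.fix0, fun j x y hx hy => cyc_T' hm M.toSymK hs (by omega) j hx hy, ?_⟩
      by_contra hcon
      push Not at hcon
      apply hoff.ne
      intro a ha
      obtain ⟨τ, hτ, hτ'⟩ := hswap A hA hoff a ha
      have h1 : τ = 1 := by
        funext i
        ext x
        by_contra hx
        have hx' : τ i x ≠ x := fun e => hx (by rw [e]; rfl)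
        exact hcon i x (τ i x) (hτ' i x hx')
      subst h1
      refine mem_centralizer_iff.2 fun v hv => ?_
      have h2 := hs.gd_sim hτ hs.gd_one v hv
      symm
      calc a * v = (a * v * a⁻¹) * a := by group
        _ = v * a := by rw [h2]; group
    obtain ⟨ι, J, X, Y, _, c⟩ := h.exists_ch
    have h1 := symCenM h c hcV
    have h2 := symCardM h c
    have h3 := symCard1M h c
    refine ⟨uM R (zl (S : Subgroup G) R) (cv (S : Subgroup G) R) M.e J X Y, hno, uM_le_V h,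
      fun B hB hB' b hb => ?_, h1.trans ?_, ?_⟩
    · obtain ⟨τ, hτ, hτ'⟩ := hswap B hB hB' b hb
      exact symOffM h c hτ.mem hτ.cd hτ.act hτ'
    · rw [h3]
      exact Nat.le_mul_of_pos_left _ Nat.card_pos
    · calc _ ≤ Nat.card (uM R (zl (S : Subgroup G) R) (cv (S : Subgroup G) R) M.e J X Y) * Nat.card (ι → ZMod 2) *
            Nat.card (cv (S : Subgroup G) R) := Nat.mul_le_mul_right _ h2
        _ = Nat.card (uM R (zl (S : Subgroup G) R) (cv (S : Subgroup G) R) M.e J X Y) *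
            (Nat.card (cv (S : Subgroup G) R) * Nat.card (ι → ZMod 2)) := by ring
        _ = _ := by rw [← h3, pow_two]

end Cfsg.Agent.Omega.NO3S.Fld

end

section


/-!
# BETA-FF (#19171 (4)): full support

`P ∈ P*(S)`, `V = V_P`, `D = C_V(O²(P))`, `A ≤ S` an offender on `V` (module form), `v ∈ V` such that some
`z ∈ Ω₁(Z(S)) - D` is a commutator `[a, v]`, `a ∈ A`.  Then all blocks of `V / D` occur in `A` and in `v`:

* `FS S P A V₁ v` : `C_V(A) = V₁`, `V₁ = [v, A] D`, `[a, v] ∈ D` only for `a ∈ C(V)`, `|C_S(V₁) : O₂(P)| |D| ≤ |V₁|`;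
* `exists_fs` : it holds (natural modules: the product of the lines; even-subset modules: the span of the pairs).
-/

set_option autoImplicit false
set_option linter.unusedSectionVars false
set_option linter.unusedVariables false

namespace Cfsg.Agent.Omega.NO3S.BetaFF

open Subgroup Cfsg Cfsg.Agent.ZN Cfsg.Agent.ZN.ChoiceBase Cfsg.Agent.Omega.MinPar
open Cfsg.Agent.ZN.ChoiceSit (Syl o2_le_syl)
open Cfsg.Agent.Omega.SQ1
open Cfsg.Agent.MinSimple.VModule (zc_le zc_le_zl zl_le le_o2 le_normalizer_zl le_normalizer_o2)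
open Cfsg.Agent.Omega.SQ1.FFOne Cfsg.Agent.Omega.SQ1.FFSym Cfsg.Agent.Lib.SL2Mat
open Cfsg.Agent.Omega.FFThm (NatK SymK NatKM SymKM OffM NoOverM ActsSym ActsSL StmtM)
open Cfsg.Agent.Omega.FrameFF (cv)
open Cfsg.Agent.Omega.NatPair (ap ap_zero' ap_one' ap_one ap_mul ap_add ap_smul ext2 ap_inv_ap ap_inj)
open Cfsg.Agent.Omega.NO3S.OneLine (NatC natC_of card_of_hom syl_of minH card_mul_relIndex cyc_T' disj' sy_of)
open Cfsg.Agent.Omega.NO3S.Fld

universe u

variable {G : Type u} [Group G]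

/-- **Full support.** -/
structure FS (S P A V1 : Subgroup G) (v : G) : Prop where
  le : V1 ≤ zl S P
  DV1 : cv S P ≤ V1
  cA : A ≤ centralizer (V1 : Set G)
  cV : zl S P ⊓ centralizer (A : Set G) ≤ V1
  mem : ∀ a ∈ A, a * v * a⁻¹ * v⁻¹ ∈ V1
  dec : ∀ w ∈ V1, ∃ a ∈ A, w * (a * v * a⁻¹ * v⁻¹) ∈ cv S P
  ker : ∀ a ∈ A, a * v * a⁻¹ * v⁻¹ ∈ cv S P → a ∈ centralizer (zl S P : Set G)
  cen : (o2 P).relIndex (S ⊓ centralizer (V1 : Set G)) * Nat.card (cv S P) ≤ Nat.card V1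
  no : NoOverM (zl S P) P

/-! ### Natural modules -/

section nat

variable {F : Type} [Field F] {T H V D : Subgroup G} {k : ℕ} (M : NatC F T H V D k)

/-- a fixed vector of `T` has full support -/
theorem fix_ne {z : G} (hzV : z ∈ V) (hz : z ∉ D) (hzT : ∀ t ∈ T, t * z = z * t) (j : Fin k) :
    M.nat.e z j ≠ 0 := by
  intro h0
  apply hz
  rw [← M.nat.ker z hzV]
  funext i
  obtain ⟨t, ht, h1⟩ := M.nat.trans i j
  have h2 := h1 z hzV
  rw [hzT t ht, mul_inv_cancel_right] at h2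
  exact h2.1 h0

/-- the coordinates of `[a, v]` -/
theorem e_comm {a v : G} (hv : v ∈ V) (ha : a ∈ H) {b : Fin k → F}
    (h : ActsSL M.nat.e V D a fun i => up (b i)) (i : Fin k) :
    M.nat.e (a * v * a⁻¹ * v⁻¹) i = ![b i * M.nat.e v i 1, 0] := by
  rw [M.map_div (M.Vn a ha v hv) hv, Pi.sub_apply, h.1 v hv i]
  refine ext2 ?_ ?_
  · rw [Pi.sub_apply, ap_zero', up_00, up_01]
    simp
  · rw [Pi.sub_apply, ap_one', up_10, up_11]
    simp

theorem nat_fs [Finite G] [Finite F] [CharP F 2] (hm : MinH H T) (hcV : T ⊓ centralizer (V : Set G) ≤ o2 H)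
    {A : Subgroup G} (hA : A ≤ T) (hoff : OffM V A) {I : Set (Fin k)}
    (h4 : ∀ a ∈ A, ∃ b : Fin k → F, (∀ i, i ∉ I → b i = 0) ∧ ActsSL M.nat.e V D a fun i => up (b i))
    (h5 : ∀ b : Fin k → F, (∀ i, i ∉ I → b i = 0) → ∃ a ∈ A, ActsSL M.nat.e V D a fun i => up (b i))
    {v z a₀ : G} (hv : v ∈ V) (hz : z ∉ D) (hzT : ∀ t ∈ T, t * z = z * t) (ha₀ : a₀ ∈ A)
    (haz : a₀ * v * a₀⁻¹ * v⁻¹ = z) :
    (∀ i, M.nat.e v i 1 ≠ 0) ∧ ∀ i, i ∈ I := by
  have hTH := hm.syl.1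
  have hzV : z ∈ V := by
    rw [← haz]
    exact mul_mem (M.Vn a₀ (hTH (hA ha₀)) v hv) (inv_mem hv)
  obtain ⟨b, hb, hbA⟩ := h4 a₀ ha₀
  have key : ∀ i, b i ≠ 0 ∧ M.nat.e v i 1 ≠ 0 := by
    intro i
    have h1 := e_comm M hv (hTH (hA ha₀)) hbA i
    rw [haz] at h1
    have h2 := fix_ne M hzV hz hzT i
    constructor
    · intro h3
      apply h2
      rw [h1, h3, zero_mul]
      exact ext2 rfl rfl
    · intro h3
      apply h2
      rw [h1, h3, mul_zero]
      exact ext2 rfl rfl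
  refine ⟨fun i => (key i).2, fun i => ?_⟩
  by_contra hi
  exact (key i).1 (hb i hi)

end nat

/-! ### Even-subset modules -/

section sym

variable {T H V D : Subgroup G} {k n : ℕ} {o : Fin n} {e : G → Fin k → Fin n → ZMod 2}
  {ι : Type} {J : ι → Fin k} {X Y : ι → Fin n}

theorem z2_eq {a : ZMod 2} (h : a ≠ 0) : a = 1 := by
  revert a; decide

/-- a fixed vector of `T` is `1` at all points `≠ o` -/
theorem fix_sym [Finite G] (h : SyC T H V D o e) (c : ChM T H V D e J X Y) {z : G} (hzV : z ∈ V) (hz : z ∉ D)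
    (hzT : ∀ t ∈ T, t * z = z * t) {j : Fin k} {x : Fin n} (hx : x ≠ o) : e z j x = 1 := by
  have hfix : ∀ t ∈ T, t * z * t⁻¹ = z := fun t ht => by rw [hzT t ht, mul_inv_cancel_right]
  obtain ⟨l, hl⟩ : ∃ l, ¬ (e z (J l) (X l) = 0 ∧ e z (J l) (Y l) = 0) := by
    by_contra hcon
    push Not at hcon
    exact hz (mem_D_ofM h c hzV hcon)
  obtain ⟨j₀, x₀, hx₀, h1⟩ : ∃ j₀ x₀, x₀ ≠ o ∧ e z j₀ x₀ = 1 := by
    by_cases h2 : e z (J l) (X l) = 0
    · refine ⟨J l, Y l, (c.tr l).symm.ne h, z2_eq fun h3 => hl ⟨h2, h3⟩⟩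
    · exact ⟨J l, X l, (c.tr l).ne h, z2_eq h2⟩
  obtain ⟨t, ht, σ, τ, hta, hσ⟩ := h.trans j₀ j
  have h2 := hta z hzV j₀ x₀
  rw [hfix t ht, hσ, h1] at h2
  have h3 : τ j₀ x₀ ≠ o := by
    intro h4
    apply hx₀
    apply (τ j₀).injective
    rw [h4, h.fix0 t ht σ τ hta]
  obtain ⟨s, hs, π, hπ, hπx⟩ := h.cyc j _ _ h3 hx
  have h4 := hπ.act z hzV j (τ j₀ x₀)
  rw [hfix s hs, Equiv.Perm.one_apply, Pi.mulSingle_eq_same, hπx, h2] at h4
  exact h4

/-- the coordinates of `[a, v]` -/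
theorem e_comm_sym (h : SyC T H V D o e) {a v : G} (hv : v ∈ V) (ha : a ∈ H) {τ : Fin k → Equiv.Perm (Fin n)}
    (hτ : ActsSym e V a 1 τ) (j : Fin k) (x : Fin n) :
    e (a * v * a⁻¹ * v⁻¹) j (τ j x) = e v j x + e v j (τ j x) := by
  have h1 := hτ v hv j x
  rw [Equiv.Perm.one_apply] at h1
  rw [h.mul _ (h.Vn a ha v hv) _ (inv_mem hv), Pi.add_apply, Pi.add_apply, h1, h.e_inv hv]

/-- what is known on the elements of the offender -/
structure SymA (T H V D A : Subgroup G) (e : G → Fin k → Fin n → ZMod 2) : Prop where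
  AT : A ≤ T
  act : ∀ a ∈ A, ∃ τ, Gd H V D e τ a ∧ ∀ i x, τ i x ≠ x → TrM T H V D e i x (τ i x) ∧
    ∃ b ∈ A, Gd H V D e (Function.update 1 i (Equiv.swap x (τ i x))) b

theorem SymA.pts (h : SyC T H V D o e) (c : ChM T H V D e J X Y) {A : Subgroup G}
    {τ : Fin k → Equiv.Perm (Fin n)} (hτ : ∀ i x, τ i x ≠ x → TrM T H V D e i x (τ i x)) (l : ι) :
    (τ (J l) (X l) = X l ∧ τ (J l) (Y l) = Y l) ∨ (τ (J l) (X l) = Y l ∧ τ (J l) (Y l) = X l) := by
  have hT := c.tr l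
  have hkey : ∀ x y : Fin n, TrM T H V D e (J l) x y → τ (J l) x = x ∨ τ (J l) x = y := by
    intro x y hxy
    by_cases hx : τ (J l) x = x
    · exact Or.inl hx
    · exact Or.inr (TrM.disj h hxy (hτ _ _ hx)).symm
  have h3 := hkey _ _ hT
  have h4 := hkey _ _ hT.symm
  rcases h3 with h3 | h3 <;> rcases h4 with h4 | h4
  · exact Or.inl ⟨h3, h4⟩
  · exact absurd ((τ (J l)).injective (h3.trans h4.symm)) hT.1
  · exact absurd ((τ (J l)).injective (h3.trans h4.symm)) hT.1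
  · exact Or.inr ⟨h3, h4⟩

/-- all pairs occur in `v` and in `A` -/
theorem SymA.full [Finite G] (h : SyC T H V D o e) (c : ChM T H V D e J X Y) {A : Subgroup G}
    (hA : SymA T H V D A e) {v z a₀ : G} (hv : v ∈ V) (hz : z ∉ D) (hzT : ∀ t ∈ T, t * z = z * t)
    (ha₀ : a₀ ∈ A) (haz : a₀ * v * a₀⁻¹ * v⁻¹ = z) :
    (∃ τ, Gd H V D e τ a₀ ∧ ∀ l, τ (J l) (X l) = Y l ∧ τ (J l) (Y l) = X l) ∧
      (∀ l, e v (J l) (X l) + e v (J l) (Y l) = 1) ∧
      ∀ l, ∃ b ∈ A, Gd H V D e (Function.update 1 (J l) (Equiv.swap (X l) (Y l))) b := by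
  have ha₀H := h.TH (hA.AT ha₀)
  have hzV : z ∈ V := by
    rw [← haz]
    exact mul_mem (h.Vn a₀ ha₀H v hv) (inv_mem hv)
  obtain ⟨τ, hτ, hτ'⟩ := hA.act a₀ ha₀
  have key : ∀ l, τ (J l) (X l) = Y l ∧ τ (J l) (Y l) = X l := by
    intro l
    rcases SymA.pts (A := A) h c (fun i x hx => (hτ' i x hx).1) l with h1 | h1
    · exfalso
      have h2 := e_comm_sym h hv ha₀H hτ.act (J l) (X l)
      rw [h1.1, haz, fix_sym h c hzV hz hzT ((c.tr l).ne h), CharTwo.add_self_eq_zero] at h2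
      exact one_ne_zero h2
    · exact h1
  refine ⟨⟨τ, hτ, key⟩, fun l => ?_, fun l => ?_⟩
  · have h2 := e_comm_sym h hv ha₀H hτ.act (J l) (X l)
    rw [(key l).1, haz, fix_sym h c hzV hz hzT ((c.tr l).symm.ne h)] at h2
    exact h2.symm
  · have h1 : τ (J l) (X l) ≠ X l := by
      rw [(key l).1]
      exact (c.tr l).1.symm
    obtain ⟨-, b, hb, h2⟩ := hτ' _ _ h1
    rw [(key l).1] at h2
    exact ⟨b, hb, h2⟩

/-- an element which moves no point `≠ o` centralises `V` -/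
theorem SymA.cent [Finite G] (h : SyC T H V D o e) (c : ChM T H V D e J X Y) {a : G}
    {τ : Fin k → Equiv.Perm (Fin n)} (hg : Gd H V D e τ a) (ho : ∀ i, τ i o = o)
    (hτ : ∀ l, τ (J l) (X l) = X l ∧ τ (J l) (Y l) = Y l) : a ∈ centralizer (V : Set G) := by
  have h1 : τ = 1 := by
    funext j
    ext1 x
    rw [Pi.one_apply, Equiv.Perm.one_apply]
    by_cases hx : x = o
    · rw [hx, ho]
    · obtain ⟨y, hy⟩ := h.cover j hx
      obtain ⟨i, hiJ, -, hi⟩ := c.exists_idx h hy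
      rw [← hiJ]
      rcases hi with ⟨hi, -⟩ | ⟨-, hi⟩
      · rw [← hi]; exact (hτ i).1
      · rw [← hi]; exact (hτ i).2
  subst h1
  refine mem_centralizer_iff.2 fun v hv => ?_
  have h2 := h.gd_sim hg h.gd_one v hv
  rw [one_mul, inv_one, mul_one] at h2
  symm
  calc a * v = (a * v * a⁻¹) * a := by group
    _ = v * a := by rw [h2]

end sym

/-! ### The result -/

variable [Finite G] {S : Sylow 2 G} {P : Subgroup G}

/-- `[a b, v] = [a, v] [b, v]` if `a` centralises `[b, v]` -/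
theorem comm_mul {a b v : G} (h : a * (b * v * b⁻¹ * v⁻¹) = b * v * b⁻¹ * v⁻¹ * a) :
    a * b * v * (a * b)⁻¹ * v⁻¹ = b * v * b⁻¹ * v⁻¹ * (a * v * a⁻¹ * v⁻¹) := by
  calc a * b * v * (a * b)⁻¹ * v⁻¹ = a * (b * v * b⁻¹ * v⁻¹) * v * a⁻¹ * v⁻¹ := by group
    _ = b * v * b⁻¹ * v⁻¹ * a * v * a⁻¹ * v⁻¹ := by rw [h]
    _ = _ := by group

/-- **LEMMA FS (full support).** -/
theorem exists_fs (hFF : StmtM.{u}) (hG : IsCharacteristicTwoType G) (hP : IsParS (S : Subgroup G) P)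
    {A : Subgroup G} (hA : A ≤ (S : Subgroup G)) (hoff : OffM (zl (S : Subgroup G) P) A) {v z a₀ : G}
    (hv : v ∈ zl (S : Subgroup G) P) (hz : z ∈ zc (S : Subgroup G)) (hzD : z ∉ cv (S : Subgroup G) P)
    (ha₀ : a₀ ∈ A) (haz : a₀ * v * a₀⁻¹ * v⁻¹ = z) :
    ∃ V1, FS (S : Subgroup G) P A V1 v := by
  have hsyl := syl_of hP
  have hch := hP.isLoc.char2 S hG
  have hm := minH hG hP
  have hcV := (IsParS.inf_centralizer S hG hP).le
  have hzT : ∀ t ∈ (S : Subgroup G), t * z = z * t := (mem_zc.1 hz).2.2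
  have hTH := hm.syl.1
  obtain ⟨hno, hcon⟩ := hFF G (S : Subgroup G) P hsyl hP.toIsMinPar hch ⟨A, hA.trans hsyl.1, hoff⟩
  rcases hcon with ⟨F, _, _, _, k, hk, ⟨M⟩⟩ | ⟨k, m, hk, hm2, ⟨M⟩⟩
  · let N := natC_of hm hk M.toNatK
    obtain ⟨I, h4, h5⟩ := M.offM A hA hoff
    obtain ⟨hv1, hI⟩ := nat_fs N hm hcV hA hoff h4 h5 hv hzD hzT ha₀ haz
    have hcA : A ≤ centralizer (lineM N : Set G) := fun b hb => mem_centralizer_iff.2 fun v hv =>
      (N.cent_line hm hA hoff.le h4 h5 hv.1 hv.2 hb).symm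
    refine ⟨lineM N, fun v hv => hv.1, D_le_lineM N, hcA, ?_, ?_, ?_, ?_, ?_, hno⟩
    · rintro w ⟨hw, hwA⟩
      refine ⟨hw, fun i => ?_⟩
      obtain ⟨a, ha, h6⟩ := h5 (fun _ => 1) fun i hi => absurd (hI i) hi
      have h7 := e_comm N hw (hTH (hA ha)) h6 i
      have h8 : a * w * a⁻¹ * w⁻¹ = 1 := by
        rw [mem_centralizer_iff.1 hwA a ha]; group
      rw [h8, N.map_one] at h7
      have h9 := congrFun h7 0
      simpa using h9.symm
    · intro a ha
      obtain ⟨b, hb, h6⟩ := h4 a ha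
      refine ⟨mul_mem (N.Vn a (hTH (hA ha)) v hv) (inv_mem hv), fun i => ?_⟩
      rw [e_comm N hv (hTH (hA ha)) h6 i]
      simp
    · intro w hw
      obtain ⟨a, ha, h6⟩ := h5 (fun i => N.nat.e w i 0 / N.nat.e v i 1) fun i hi => absurd (hI i) hi
      refine ⟨a, ha, ?_⟩
      have h7 : a * v * a⁻¹ * v⁻¹ ∈ zl (S : Subgroup G) P :=
        mul_mem (N.Vn a (hTH (hA ha)) v hv) (inv_mem hv)
      rw [← N.nat.ker _ (mul_mem hw.1 h7), N.nat.mul w hw.1 _ h7]
      funext i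
      rw [Pi.add_apply, e_comm N hv (hTH (hA ha)) h6 i]
      refine ext2 ?_ ?_
      · rw [Pi.add_apply]
        simp only [Matrix.cons_val_zero]
        rw [div_mul_cancel₀ _ (hv1 i), CharTwo.add_self_eq_zero]
        rfl
      · rw [Pi.add_apply]
        show N.nat.e w i 1 + 0 = 0
        rw [add_zero]
        exact hw.2 i
    · intro a ha hD
      obtain ⟨b, hb, h6⟩ := h4 a ha
      have h7 := (N.nat.ker _ (N.DV hD)).2 hD
      have h8 : b = 0 := by
        funext i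
        have h9 := e_comm N hv (hTH (hA ha)) h6 i
        rw [h7] at h9
        have h10 := congrFun h9 0
        simp only [Pi.zero_apply, Matrix.cons_val_zero] at h10
        exact (mul_eq_zero.1 h10.symm).resolve_right (hv1 i)
      subst h8
      refine mem_centralizer_iff.2 fun w hw => (N.cent_of_stab hm ⟨hTH (hA ha), fun u hu i => ?_, h6.2⟩ hw).symm
      have h9 : _ = ap (up ((0 : Fin k → F) i)) _ := h6.1 u hu i
      have h10 : up ((0 : Fin k → F) i) = 1 := up_zero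
      rw [h10] at h9
      exact h9
    · have h1 := natCenM N hm hcV
      rw [natCard1M N, mul_comm]
      exact Nat.mul_le_mul_left _ h1
  · have hs := sy_of hm M.toSymK hk (by omega) SQ1.FFOf.cv_le SQ1.FFOf.cv_norm
    have hswap : ∀ B : Subgroup G, B ≤ (S : Subgroup G) → OffM (zl (S : Subgroup G) P) B → ∀ b ∈ B,
        ∃ τ, Gd P (zl (S : Subgroup G) P) (cv (S : Subgroup G) P) M.e τ b ∧ ∀ i x, τ i x ≠ x →
          TrM (S : Subgroup G) P (zl (S : Subgroup G) P) (cv (S : Subgroup G) P) M.e i x (τ i x) ∧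
          ∃ b' ∈ B, Gd P (zl (S : Subgroup G) P) (cv (S : Subgroup G) P) M.e
            (Function.update 1 i (Equiv.swap x (τ i x))) b' := by
      intro B hB hB' b hb
      obtain ⟨hD, h2⟩ := M.offM B hB hB'
      obtain ⟨τ, hτ, hτ'⟩ := h2 b hb
      refine ⟨τ, ⟨hTH (hB hb), hD b hb, hτ⟩, fun i x hx => ?_⟩
      obtain ⟨-, b', hb', hb''⟩ := hτ' i x hx
      exact ⟨⟨Ne.symm hx, b', hB hb', hTH (hB hb'), hD b' hb', hb''⟩, b', hb', hTH (hB hb'), hD b' hb', hb''⟩
    have hSA : SymA (S : Subgroup G) P (zl (S : Subgroup G) P) (cv (S : Subgroup G) P) A M.e :=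
      ⟨hA, hswap A hA hoff⟩
    have h : SyC (S : Subgroup G) P (zl (S : Subgroup G) P) (cv (S : Subgroup G) P) (0 : Fin (2 ^ m + 1)) M.e := by
      refine ⟨hs, hTH, hm.syl.2.1, M.trans, M.fix0, fun j x y hx hy => cyc_T' hm M.toSymK hs (by omega) j hx hy, ?_⟩
      by_contra hcon
      push Not at hcon
      apply hoff.ne
      intro a ha
      obtain ⟨τ, hτ, hτ'⟩ := hswap A hA hoff a ha
      have h1 : τ = 1 := by
        funext i
        ext x
        by_contra hx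
        have hx' : τ i x ≠ x := fun e => hx (by rw [e]; rfl)
        exact hcon i x (τ i x) (hτ' i x hx').1
      subst h1
      refine mem_centralizer_iff.2 fun v hv => ?_
      have h2 := hs.gd_sim hτ hs.gd_one v hv
      symm
      calc a * v = (a * v * a⁻¹) * a := by group
        _ = v * a := by rw [h2]; group
    obtain ⟨ι, J, X, Y, _, c⟩ := h.exists_ch
    obtain ⟨⟨τ₀, hτ₀, hτ₀'⟩, hvl, hbl⟩ := hSA.full h c hv hzD hzT ha₀ haz
    have hV1 := uM_le_V h (J := J) (X := X) (Y := Y)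
    have hcA : A ≤ centralizer (uM P (zl (S : Subgroup G) P) (cv (S : Subgroup G) P) M.e J X Y : Set G) := by
      intro b hb
      obtain ⟨τ, hτ, hτ'⟩ := hSA.act b hb
      exact symOffM h c hτ.mem hτ.cd hτ.act fun i x hx => (hτ' i x hx).1
    have hmem : ∀ a ∈ A, a * v * a⁻¹ * v⁻¹ ∈ uM P (zl (S : Subgroup G) P) (cv (S : Subgroup G) P) M.e J X Y := by
      intro a ha
      have haH := hTH (hA ha)
      obtain ⟨τ, hτ, hτ'⟩ := hSA.act a ha
      refine mem_uM_of h c (mul_mem (h.Vn a haH v hv) (inv_mem hv)) fun l => ?_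
      have h1 := e_comm_sym h hv haH hτ.act (J l) (X l)
      have h2 := e_comm_sym h hv haH hτ.act (J l) (Y l)
      rcases SymA.pts (A := A) h c (fun i x hx => (hτ' i x hx).1) l with ⟨h3, h4⟩ | ⟨h3, h4⟩
      · rw [h3] at h1
        rw [h4] at h2
        rw [h1, h2, CharTwo.add_self_eq_zero, CharTwo.add_self_eq_zero]
      · rw [h3] at h1
        rw [h4] at h2
        rw [h1, h2, add_comm]
    refine ⟨uM P (zl (S : Subgroup G) P) (cv (S : Subgroup G) P) M.e J X Y, hV1, D_le_uM, hcA, ?_, hmem, ?_, ?_, ?_,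
      hno⟩
    · rintro w ⟨hw, hwA⟩
      refine mem_uM_of h c hw fun l => ?_
      have h1 := e_comm_sym h hw (hTH (hA ha₀)) hτ₀.act (J l) (X l)
      have h8 : a₀ * w * a₀⁻¹ * w⁻¹ = 1 := by
        rw [mem_centralizer_iff.1 hwA a₀ ha₀]; group
      rw [h8, (hτ₀' l).1, h.e_one] at h1
      exact (CharTwo.add_eq_zero.1 h1.symm)
    · -- `V₁ = D [v, A]`
      let K : Subgroup G :=
        { carrier := {w | w ∈ zl (S : Subgroup G) P ∧ ∃ a ∈ A, w * (a * v * a⁻¹ * v⁻¹) ∈ cv (S : Subgroup G) P}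
          mul_mem' := by
            rintro x y ⟨hx, a, ha, hxa⟩ ⟨hy, b, hb, hyb⟩
            refine ⟨mul_mem hx hy, a * b, mul_mem ha hb, ?_⟩
            have h1 := comm_mul (a := a) (b := b) (v := v) (mem_centralizer_iff.1 (hcA ha) _ (hmem b hb)).symm
            rw [h1]
            have h2 := hV1 (hmem a ha)
            have h3 := hV1 (hmem b hb)
            have e1 : x * y * (b * v * b⁻¹ * v⁻¹ * (a * v * a⁻¹ * v⁻¹)) =
                x * (a * v * a⁻¹ * v⁻¹) * (y * (b * v * b⁻¹ * v⁻¹)) := by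
              have c1 := h.comm _ (mul_mem hy h3) _ h2
              calc x * y * (b * v * b⁻¹ * v⁻¹ * (a * v * a⁻¹ * v⁻¹))
                  = x * (y * (b * v * b⁻¹ * v⁻¹) * (a * v * a⁻¹ * v⁻¹)) := by group
                _ = x * ((a * v * a⁻¹ * v⁻¹) * (y * (b * v * b⁻¹ * v⁻¹))) := by rw [c1]
                _ = _ := by group
            rw [e1]
            exact mul_mem hxa hyb
          one_mem' := ⟨one_mem _, 1, one_mem _, by simp⟩
          inv_mem' := by
            rintro x ⟨hx, a, ha, hxa⟩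
            have h1 : x⁻¹ = x := inv_eq_of_mul_eq_one_left (by rw [← pow_two]; exact h.sq x hx)
            rw [h1]
            exact ⟨hx, a, ha, hxa⟩ }
      have hle : uM P (zl (S : Subgroup G) P) (cv (S : Subgroup G) P) M.e J X Y ≤ K := by
        refine uM_le (fun d hd => ⟨h.DV hd, 1, one_mem _, by simpa using hd⟩) fun l => ?_
        obtain ⟨b, hb, hbg⟩ := hbl l
        refine ⟨h.u_mem _ _ _, b, hb, ?_⟩
        have h7 := hV1 (hmem b hb)
        refine mem_D_ofM h c (mul_mem (h.u_mem _ _ _) h7) fun l' => ?_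
        rw [h.mul _ (h.u_mem _ _ _) _ h7, Pi.add_apply, Pi.add_apply, Pi.add_apply]
        classical
        obtain ⟨h1, h2⟩ := e_u_valM h c l l'
        rw [h1, h2]
        have h3 := e_comm_sym h hv hbg.mem hbg.act (J l') (X l')
        have h4 := e_comm_sym h hv hbg.mem hbg.act (J l') (Y l')
        by_cases hl : l' = l
        · subst hl
          rw [if_pos rfl]
          rw [Function.update_self, Equiv.swap_apply_left, hvl l'] at h3
          rw [Function.update_self, Equiv.swap_apply_right, add_comm, hvl l'] at h4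
          rw [h3, h4]
          exact ⟨CharTwo.add_self_eq_zero _, CharTwo.add_self_eq_zero _⟩
        · rw [if_neg hl]
          have h5 : (Function.update 1 (J l) (Equiv.swap (X l) (Y l)) : Fin k → Equiv.Perm (Fin (2 ^ m + 1))) (J l')
              (X l') = X l' ∧ (Function.update 1 (J l) (Equiv.swap (X l) (Y l)) : Fin k → Equiv.Perm (Fin (2 ^ m + 1)))
              (J l') (Y l') = Y l' := by
            by_cases hJ : J l' = J l
            · obtain ⟨a1, a2, a3, a4⟩ := c.cases h hl hJ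
              rw [hJ, Function.update_self]
              exact ⟨Equiv.swap_apply_of_ne_of_ne a1 a2, Equiv.swap_apply_of_ne_of_ne a3 a4⟩
            · rw [Function.update_of_ne hJ]
              exact ⟨rfl, rfl⟩
          rw [h5.1, CharTwo.add_self_eq_zero] at h3
          rw [h5.2, CharTwo.add_self_eq_zero] at h4
          rw [h3, h4, add_zero]
          exact ⟨rfl, rfl⟩
      exact fun w hw => (hle hw).2
    · intro a ha hD
      obtain ⟨τ, hτ, hτ'⟩ := hSA.act a ha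
      have h7 := (hs.ker _ (h.DV hD)).2 hD
      refine SymA.cent h c hτ (fun i => h.fix0 a (hA ha) 1 τ hτ.act i) fun l => ?_
      rcases SymA.pts (A := A) h c (fun i x hx => (hτ' i x hx).1) l with h3 | h3
      · exact h3
      · exfalso
        have h1 := e_comm_sym h hv hτ.mem hτ.act (J l) (X l)
        rw [h3.1, hvl l, h7] at h1
        exact zero_ne_one h1
    · have h1 := symCenM h c hcV
      rw [symCard1M h c, mul_comm]
      exact Nat.mul_le_mul_left _ h1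

end Cfsg.Agent.Omega.NO3S.BetaFF

end
end

-- part: Mrg/Omega/NO3S/Fld/ZJ
section
prune_inst 0xd0000900142202000018000080001c42aa000102002b000101000a800780ad80a54187218400010210020a4400300008124400500000000000000000011904a1800200021200a104260009801004000000000000000000000000000000000000000000000
set_option linter.all false
open scoped Cfsg.Agent.FastGrp

-- part: Mrg/Omega/NO3S/Fld/LineOf
section
section


/-!
# Fld: the facts `Red.Line` from the coordinates

`Crd.line` : if some element of `S` moves `R`, then `Red.Line S V R Rs q r` with `q = |F| = r²` and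
`Rs = {(a, 0) : φ a = a}`, `φ` the involution of `Aut F`; `Crd.S_Rs` : `Rs` is normalised by `S`.
-/

set_option autoImplicit false
set_option linter.unusedSectionVars false
set_option linter.unusedVariables false

namespace Cfsg.Agent.Omega.NO3S.Fld

open Subgroup Cfsg Cfsg.Agent.ZN Cfsg.Agent.ZN.ChoiceBase Cfsg.Agent.Omega.MinPar
open Cfsg.Agent.Omega.NatPair (ext2)
open Cfsg.Agent.Omega.NO3S.OneLine (conj_mem card_mul_relIndex)

universe u

variable {G : Type u} [Group G]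

namespace Crd

variable {F : Type*} [Field F] {S P V : Subgroup G} (M : Crd F S P V)

/-- an involution of `Aut F` -/
theorem exists_involution [Finite F] (hS : IsPGroup 2 S) (hne : ¬ S ≤ centralizer (M.R : Set G)) :
    ∃ φ : F ≃+* F, φ ≠ RingEquiv.refl F ∧ ∀ x, φ (φ x) = x := by
  obtain ⟨s, hs, hsR⟩ := SetLike.not_le_iff_exists.1 hne
  obtain ⟨n, hn⟩ := hS ⟨s, hs⟩
  have h1 : M.sgHom ⟨s, hs⟩ ^ 2 ^ n = 1 := by rw [← map_pow, hn, map_one]
  have h0 : M.sgHom ⟨s, hs⟩ ≠ 1 := fun h => hsR (M.sgHom_eq_one.1 h)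
  classical
  have hex : ∃ n, M.sgHom ⟨s, hs⟩ ^ 2 ^ n = 1 := ⟨n, h1⟩
  obtain ⟨m, hm⟩ : ∃ m, Nat.find hex = m + 1 := by
    refine Nat.exists_eq_succ_of_ne_zero fun h2 => h0 ?_
    have h3 := Nat.find_spec hex
    rw [h2, pow_zero, pow_one] at h3
    exact h3
  have h2 := Nat.find_spec hex
  have h3 : M.sgHom ⟨s, hs⟩ ^ 2 ^ m ≠ 1 := Nat.find_min hex (by omega)
  rw [hm, pow_succ, pow_mul] at h2
  refine ⟨M.sgHom ⟨s, hs⟩ ^ 2 ^ m, h3, fun x => ?_⟩
  rw [pow_two] at h2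
  exact congrArg (fun τ : F ≃+* F => τ x) h2

/-- `{(a, 0) : φ a = a}` -/
def Rs (φ : F ≃+* F) : Subgroup G where
  carrier := {g | ∃ a : F, φ a = a ∧ M.e ![a, 0] = g}
  mul_mem' := by
    rintro _ _ ⟨a, ha, rfl⟩ ⟨b, hb, rfl⟩
    refine ⟨a + b, by rw [map_add, ha, hb], ?_⟩
    rw [← M.e_add]
    congr 1
    apply ext2 <;> simp
  one_mem' := ⟨0, map_zero _, by
    rw [← M.e_zero]
    congr 1
    apply ext2 <;> simp⟩
  inv_mem' := by
    rintro _ ⟨a, ha, rfl⟩
    refine ⟨-a, by rw [map_neg, ha], ?_⟩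
    rw [← M.e_neg]
    congr 1
    apply ext2 <;> simp

theorem mem_Rs {φ : F ≃+* F} {g : G} : g ∈ M.Rs φ ↔ ∃ a : F, φ a = a ∧ M.e ![a, 0] = g := Iff.rfl

theorem e_mem_Rs {φ : F ≃+* F} {x : Fin 2 → F} : M.e x ∈ M.Rs φ ↔ φ (x 0) = x 0 ∧ x 1 = 0 := by
  rw [mem_Rs]
  constructor
  · rintro ⟨a, ha, h⟩
    rw [← M.e_inj h]
    exact ⟨ha, rfl⟩
  · rintro ⟨h, h1⟩
    exact ⟨x 0, h, congrArg M.e (ext2 rfl h1.symm)⟩

theorem Rs_le (φ : F ≃+* F) : M.Rs φ ≤ M.R := by
  rintro _ ⟨a, -, rfl⟩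
  exact ⟨a, rfl⟩

theorem El.sqR {D : Subgroup G} (h : Red.El D) (X : Subgroup G) : ∀ a ∈ D, a ^ 2 ∈ centralizer (X : Set G) :=
  fun a ha => by rw [h.sq a ha]; exact one_mem _

/-- **`Red.Line`.** -/
theorem line [Finite G] [Finite F] [CharP F 2] {φ : F ≃+* F} (hφ1 : φ ≠ RingEquiv.refl F)
    (hφ2 : ∀ x, φ (φ x) = x) :
    Red.Line S V M.R (M.Rs φ) (Nat.card F) (Nat.card {x : F // φ x = x}) := by
  have hq : Nat.card {x : F // φ x = x} * Nat.card {x : F // φ x = x} = Nat.card F := card_fixed hφ1 hφ2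
  set r := Nat.card {x : F // φ x = x} with hr
  have hr0 : 0 < r := by
    rw [hr]
    have : Nonempty {x : F // φ x = x} := ⟨⟨0, map_zero _⟩⟩
    exact Nat.card_pos
  have hphi : ∀ s ∈ S, s ^ 2 ∈ centralizer (V : Set G) → s ∉ centralizer (M.R : Set G) → ∃ c, M.Act s φ c := by
    intro s hs h2 hsR
    obtain ⟨σ, c, h⟩ := M.exists_act hs
    have h1 : σ ≠ RingEquiv.refl F := fun h0 => hsR (h.mem_centR.2 h0)
    have h3 : ∀ x, σ (σ x) = x := by
      intro x
      have h4 : s * s ∈ centralizer (M.R : Set G) := by rw [← pow_two]; exact centralizer_le M.R_le h2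
      exact congrArg (fun τ : F ≃+* F => τ x) ((h.mul h).mem_centR.1 h4)
    obtain rfl := inv_unique h1 h3 hφ1 hφ2
    exact ⟨c, h⟩
  refine ⟨M.R_le, M.Rs_le φ, ?_, ?_, ?_, ?_, ?_, ?_, ?_⟩
  · intro D hD hE hn
    exact M.relIndex_two hD (fun a ha => centralizer_le M.R_le (hE.sq a ha)) hn
  · intro D hD hE hn
    have h1 := M.card_fixR_D hD (fun a ha => centralizer_le M.R_le (hE.sq a ha)) hn
    have h2 := card_mul_relIndex (inf_le_left : M.R ⊓ centralizer (D : Set G) ≤ M.R)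
    rw [inf_relIndex_left, M.card_R] at h2
    set n := Nat.card ↥(M.R ⊓ centralizer (D : Set G)) with hn'
    have hn0 : 0 < n := Nat.card_pos
    have h3 : n = r := by
      have h4 : n * n = r * r := h1.trans hq.symm
      exact Nat.mul_self_inj.1 h4
    rw [h3] at h2
    have h5 : r * (centralizer (D : Set G)).relIndex M.R = r * r := h2.trans hq.symm
    exact (Nat.eq_of_mul_eq_mul_left hr0 h5).ge
  · rintro D hD hE _ ⟨a, rfl⟩ d hd
    have e : M.e ![a, 0] * d * (M.e ![a, 0])⁻¹ * d⁻¹ = (d * M.e ![a, 0] * d⁻¹ * (M.e ![a, 0])⁻¹)⁻¹ := by group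
    rw [e]
    refine inv_mem ?_
    by_cases hdR : d ∈ centralizer (M.R : Set G)
    · have h1 : d * M.e ![a, 0] = M.e ![a, 0] * d := (mem_centralizer_iff.1 hdR _ ⟨a, rfl⟩).symm
      have e2 : d * M.e ![a, 0] * d⁻¹ * (M.e ![a, 0])⁻¹ = 1 := by rw [h1]; group
      rw [e2]
      exact one_mem _
    · obtain ⟨c, h⟩ := hphi d (hD hd) (hE.sq d hd) hdR
      rw [h, ← M.e_sub, M.e_mem_Rs]
      have e1 : (![φ ((![a, 0] : Fin 2 → F) 0) + c * φ ((![a, 0] : Fin 2 → F) 1), φ ((![a, 0] : Fin 2 → F) 1)] -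
        ![a, 0] : Fin 2 → F) 0 = φ a - a := by simp
      have e2 : (![φ ((![a, 0] : Fin 2 → F) 0) + c * φ ((![a, 0] : Fin 2 → F) 1), φ ((![a, 0] : Fin 2 → F) 1)] -
        ![a, 0] : Fin 2 → F) 1 = 0 := by simp
      refine ⟨?_, e2⟩
      rw [e1, map_sub, hφ2, CharTwo.sub_eq_add, CharTwo.sub_eq_add, add_comm]
  · intro D hD hR hn
    obtain ⟨d, hd, hdV⟩ := SetLike.not_le_iff_exists.1 hn
    have h1 : V ⊓ centralizer (D : Set G) ≤ M.R := by
      rintro v ⟨hv, hvD⟩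
      exact M.fix (hD hd) (hR hd) hdV hv (mem_centralizer_iff.1 hvD d hd)
    have h2 := card_mul_relIndex (inf_le_left : V ⊓ centralizer (D : Set G) ≤ V)
    rw [inf_relIndex_left, M.card_V] at h2
    have h3 := Subgroup.card_le_of_le h1
    rw [M.card_R] at h3
    have hF0 : 0 < Nat.card F := Nat.card_pos
    by_contra hlt
    rw [not_le] at hlt
    have h4 : Nat.card ↥(V ⊓ centralizer (D : Set G)) * (centralizer (D : Set G)).relIndex V <
        Nat.card F * Nat.card F :=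
      lt_of_le_of_lt (Nat.mul_le_mul_right _ h3) (Nat.mul_lt_mul_of_pos_left hlt hF0)
    omega
  · intro D hD hR
    exact M.relIndex_le (le_inf hD hR)
  · intro D hD hR s hs h2 hsR hc
    obtain ⟨c, h⟩ := hphi s hs h2 hsR
    have h3 := M.relIndex_sq_le (le_inf hD hR) h hφ1 hφ2 fun d hd => by
      have h4 := inv_mem (hc d hd)
      have e : (d * s * d⁻¹ * s⁻¹)⁻¹ = s * d * s⁻¹ * d⁻¹ := by group
      rwa [e] at h4
    rw [← hq] at h3
    exact Nat.mul_self_le_mul_self_iff.1 h3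
  · intro K hK s hs h2 hsR hc
    obtain ⟨c, h⟩ := hphi s hs h2 hsR
    have h1 : K ≤ M.fixV h := by
      intro v hv
      rw [M.mem_fixV]
      refine ⟨hK hv, ?_⟩
      have e : s * v * s⁻¹ * v⁻¹ = (v * s * v⁻¹ * s⁻¹)⁻¹ := by group
      rw [e]
      exact inv_mem (hc v hv)
    have h3 := Subgroup.card_le_of_le h1
    rw [M.card_fixV h, ← hr] at h3
    have h4 := card_mul_relIndex hK
    rw [M.card_V] at h4
    have hF0 : 0 < Nat.card F := Nat.card_pos
    by_contra hlt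
    rw [not_le] at hlt
    have h5 : Nat.card K * K.relIndex V < Nat.card F * Nat.card F := by
      calc Nat.card K * K.relIndex V ≤ Nat.card F * r * K.relIndex V := Nat.mul_le_mul_right _ h3
        _ < Nat.card F * r * r := Nat.mul_lt_mul_of_pos_left hlt (Nat.mul_pos hF0 hr0)
        _ = Nat.card F * Nat.card F := by rw [mul_assoc, hq]
    omega

end Crd

end Cfsg.Agent.Omega.NO3S.Fld

end

section


/-!
# Fld: the facts from `J(S) ≰ O₂(P)`

`M : Crd F S P V`, `V = V_P`, `R = M.R`, `B = S ∩ C(R)`, `J(S) ≰ O₂(P)`, `|F| ≥ 4`; `|Z|` arbitrary.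

* `AA_le_centR` : every `A ∈ A(S)` centralises `R`;
* `BR S P B R` : the output (the analogue of `OneLine.Blk` over `B`): `C_V(b) = R` for `b ∈ B - O₂(P)`, `[V, B] ≤ R`,
  `|V : R| = |B : O₂(P)|`; `br_of`;
* `BR.replace`, `BR.zc_o2` : `Ω₁(Z(O₂(P))) = V`; `BR.zj_eq` : `Ω₁(Z(J(S))) = R`.
-/

set_option autoImplicit false
set_option linter.unusedSectionVars false
set_option linter.unusedVariables false

namespace Cfsg.Agent.Omega.NO3S.Fld

open Subgroup Cfsg Cfsg.Agent.ZN Cfsg.Agent.ZN.ChoiceBase Cfsg.Agent.Omega.MinPar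
open Cfsg.Agent.ZN.ChoiceSit (Syl o2_le_syl)
open Cfsg.Agent.Omega.SQ1.Bau (mem_AA_of_comm zj_le_AA elem_comm elem_sq mem_sup_comm card_sup_comm mem_sup_norm)
open Cfsg.Agent.PLocal.ElemAbSup Cfsg.Agent.PLocal.ThompsonJ
open Cfsg.Agent.MinSimple.VModule (zc_le zc_le_zl zl_le le_o2 le_normalizer_zl le_normalizer_o2)
open Cfsg.Agent.Omega.NatPair (ext2)
open Cfsg.Agent.Omega.NO3S.OneLine (conj_mem card_mul_relIndex minH exists_fixed zc_elem o2_le card_sup_norm)

universe u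

variable {G : Type u} [Group G]

theorem elem_of {A : Subgroup G} (hA : IsElementaryAbelian 2 A) : Red.El A :=
  ⟨elem_sq hA, fun a ha b hb => elem_comm hA a ha b hb⟩

namespace Crd

variable {F : Type*} [Field F] {S P V : Subgroup G} (M : Crd F S P V)

/-- `|C_V(s)| ≤ q` for `s ∈ S` inducing an involution on `F` -/
theorem card_fix_le [Finite G] [Finite F] [CharP F 2] {s : G} {σ : F ≃+* F} {c : F} (h : M.Act s σ c)
    (h1 : σ ≠ RingEquiv.refl F) (h2 : ∀ x, σ (σ x) = x) :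
    Nat.card ↥(V ⊓ centralizer ({s} : Set G)) ≤ Nat.card F := by
  have hq := card_fixed h1 h2
  set r := Nat.card {x : F // σ x = x} with hr
  have h3 := card_sup_comm (A := V ⊓ centralizer ({s} : Set G)) (B := M.R)
    fun a ha b hb => M.comm ha.1 (M.R_le hb)
  have h4 : (V ⊓ centralizer ({s} : Set G)) ⊓ M.R = M.R ⊓ centralizer ({s} : Set G) := by
    apply le_antisymm
    · rintro x ⟨⟨-, hx⟩, hx'⟩
      exact ⟨hx', hx⟩
    · rintro x ⟨hx, hx'⟩
      exact ⟨⟨M.R_le hx, hx'⟩, hx⟩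
  have h5 : (V ⊓ centralizer ({s} : Set G)) ⊔ M.R ≤ M.fixV h := by
    refine sup_le ?_ ?_
    · rintro v ⟨hv, hvs⟩
      rw [M.mem_fixV]
      refine ⟨hv, ?_⟩
      have h6 : s * v = v * s := (mem_centralizer_singleton_iff.1 hvs).symm
      have e : s * v * s⁻¹ * v⁻¹ = 1 := by rw [h6]; group
      rw [e]
      exact one_mem _
    · rintro _ ⟨a, rfl⟩
      exact ⟨![a, 0], by simp, rfl⟩
  have h6 := Subgroup.card_le_of_le h5
  rw [M.card_fixV h, ← hr] at h6
  rw [h4, M.card_fixR h, ← hr, M.card_R] at h3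
  have hF0 : 0 < Nat.card F := Nat.card_pos
  have h7 : Nat.card F * Nat.card ↥(V ⊓ centralizer ({s} : Set G)) ≤ Nat.card F * Nat.card F := by
    calc Nat.card F * Nat.card ↥(V ⊓ centralizer ({s} : Set G))
        = Nat.card ↥(V ⊓ centralizer ({s} : Set G)) * Nat.card F := mul_comm _ _
      _ = Nat.card ↥((V ⊓ centralizer ({s} : Set G)) ⊔ M.R) * r := h3.symm
      _ ≤ Nat.card F * r * r := Nat.mul_le_mul_right _ h6
      _ = Nat.card F * Nat.card F := by rw [mul_assoc, hq]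
  exact Nat.le_of_mul_le_mul_left h7 hF0

end Crd

section

variable [Finite G] {S : Sylow 2 G} {P : Subgroup G} {F : Type*} [Field F] [Finite F] [CharP F 2]

/-- **Every `A ∈ A(S)` centralises `R`.** -/
theorem AA_le_centR (hG : IsCharacteristicTwoType G) (hP : IsParS (S : Subgroup G) P)
    (M : Crd F (S : Subgroup G) P (zl (S : Subgroup G) P)) {A : Subgroup G} (hA : A ∈ AA (S : Subgroup G)) :
    A ≤ centralizer (M.R : Set G) := by
  by_contra hn
  have hE := elem_of hA.1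
  have hsq := fun a ha => (Crd.El.sqR hE (M.R : Subgroup G)) a ha
  obtain ⟨φ, h1, h2, h3⟩ := M.exists_phi hA.2.1 hsq hn
  obtain ⟨a, ha, haR⟩ := SetLike.not_le_iff_exists.1 hn
  obtain ⟨c, hc⟩ := h3 a ha haR
  have hq := card_fixed h1 h2
  set r := Nat.card {x : F // φ x = x} with hr
  have hr2 : 2 ≤ r := by
    have h4 : Nat.card (Fin 2) ≤ r := by
      refine Nat.card_le_card_of_injective (fun i : Fin 2 => (if i = 0 then ⟨0, map_zero φ⟩ else ⟨1, map_one φ⟩ :
        {x : F // φ x = x})) ?_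
      intro i j hij
      fin_cases i <;> fin_cases j
      · rfl
      · exact absurd (congrArg Subtype.val hij) (by simp)
      · exact absurd (congrArg Subtype.val hij) (by simp)
      · rfl
    simpa using h4
  have hoff := SQ1.VOf.off (minH hG hP) hA
  have hD2 := M.relIndex_two hA.2.1 hsq hn
  set D := A ⊓ centralizer (M.R : Set G) with hD
  have hcD : Nat.card D * 2 = Nat.card A := by
    have h4 := card_mul_relIndex (inf_le_left : D ≤ A)
    have h5 : D.relIndex A = 2 := by rw [hD, inf_relIndex_left, hD2]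
    rwa [h5] at h4
  have hVR : centralizer (zl (S : Subgroup G) P : Set G) ≤ centralizer (M.R : Set G) := centralizer_le M.R_le
  have hp : 0 < Nat.card ↥(A ⊓ centralizer (zl (S : Subgroup G) P : Set G)) := Nat.card_pos
  have hVc := M.card_V
  by_cases hDV : D ≤ centralizer (zl (S : Subgroup G) P : Set G)
  · have h4 : A ⊓ centralizer (zl (S : Subgroup G) P : Set G) = D :=
      le_antisymm (le_inf inf_le_left (inf_le_right.trans hVR)) (le_inf inf_le_left hDV)
    have h5 : Nat.card ↥(zl (S : Subgroup G) P ⊓ centralizer (A : Set G)) ≤ Nat.card F :=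
      (Subgroup.card_le_of_le (inf_le_inf_left _ (centralizer_le (Set.singleton_subset_iff.2 ha)))).trans
        (M.card_fix_le hc h1 h2)
    rw [h4, hVc, ← hcD] at hoff
    rw [h4] at hp
    have h6 : Nat.card D * (Nat.card F * Nat.card F) ≤ Nat.card D * (2 * Nat.card F) := by
      calc Nat.card D * (Nat.card F * Nat.card F) = Nat.card F * Nat.card F * Nat.card D := mul_comm _ _
        _ ≤ _ := hoff
        _ ≤ Nat.card F * (Nat.card D * 2) := Nat.mul_le_mul_right _ h5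
        _ = _ := by ring
    have h7 := Nat.le_of_mul_le_mul_left h6 hp
    have h8 : Nat.card F ≤ 2 := Nat.le_of_mul_le_mul_right h7 Nat.card_pos
    rw [← hq] at h8
    have : 2 * 2 ≤ r * r := Nat.mul_le_mul hr2 hr2
    omega
  · have hDB : D ≤ M.B := le_inf (inf_le_left.trans hA.2.1) inf_le_right
    have h4 := M.relIndex_sq_le hDB hc h1 h2 fun d hd => by
      have h5 : a * d = d * a := elem_comm hA.1 a ha d hd.1
      have e : a * d * a⁻¹ * d⁻¹ = 1 := by rw [h5]; group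
      rw [e]
      exact one_mem _
    rw [← hq] at h4
    have h5 := Nat.mul_self_le_mul_self_iff.1 h4
    have h6 : Nat.card ↥(zl (S : Subgroup G) P ⊓ centralizer (A : Set G)) ≤ r := by
      obtain ⟨d, hd, hdV⟩ := SetLike.not_le_iff_exists.1 hDV
      have h7 : zl (S : Subgroup G) P ⊓ centralizer (A : Set G) ≤ M.R ⊓ centralizer ({a} : Set G) := by
        rintro v ⟨hv, hvA⟩
        refine ⟨M.fix (hDB hd).1 (hDB hd).2 hdV hv (mem_centralizer_iff.1 hvA d hd.1),
          mem_centralizer_singleton_iff.2 (mem_centralizer_iff.1 hvA a ha).symm⟩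
      have h8 := Subgroup.card_le_of_le h7
      rwa [M.card_fixR hc, ← hr] at h8
    have h7 : Nat.card D ≤ Nat.card ↥(A ⊓ centralizer (zl (S : Subgroup G) P : Set G)) * r := by
      have h8 := card_mul_relIndex (inf_le_left : D ⊓ centralizer (zl (S : Subgroup G) P : Set G) ≤ D)
      rw [inf_relIndex_left] at h8
      rw [← h8]
      refine Nat.mul_le_mul (Subgroup.card_le_of_le ?_) h5
      exact le_inf (inf_le_left.trans inf_le_left) inf_le_right
    rw [hVc] at hoff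
    set C := Nat.card ↥(A ⊓ centralizer (zl (S : Subgroup G) P : Set G)) with hC
    have h8 : C * (Nat.card F * Nat.card F) ≤ C * (2 * Nat.card F) := by
      calc C * (Nat.card F * Nat.card F) = Nat.card F * Nat.card F * C := mul_comm _ _
        _ ≤ _ := hoff
        _ ≤ r * Nat.card A := Nat.mul_le_mul_right _ h6
        _ ≤ r * (C * r * 2) := Nat.mul_le_mul_left _ (by rw [← hcD]; exact Nat.mul_le_mul_right _ h7)
        _ = C * (2 * (r * r)) := by ring
        _ = _ := by rw [hq]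
    have h9 := Nat.le_of_mul_le_mul_left h8 hp
    have h10 : Nat.card F ≤ 2 := Nat.le_of_mul_le_mul_right h9 Nat.card_pos
    rw [← hq] at h10
    have : 2 * 2 ≤ r * r := Nat.mul_le_mul hr2 hr2
    omega

end

/-! ### The abstract part over `B` -/

/-- `V_P` has the shape of a natural module over `B`. -/
structure BR (S P B R : Subgroup G) : Prop where
  star : IsParS S P
  BS : B ≤ S
  QB : o2 P ≤ B
  RV : R ≤ zl S P
  RS : S ≤ normalizer (R : Set G)
  AB : ∀ A ∈ AA S, A ≤ B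
  cB : ∀ b ∈ B, ∀ r ∈ R, b * r = r * b
  fix : ∀ a ∈ B, a ∉ o2 P → ∀ v ∈ zl S P, a * v = v * a → v ∈ R
  comm : ∀ a ∈ B, ∀ v ∈ zl S P, a * v * a⁻¹ * v⁻¹ ∈ R
  card : Nat.card (zl S P) = Nat.card R * (o2 P).relIndex B

section blk

variable [Finite G] {S : Sylow 2 G} {P B R : Subgroup G}

theorem br_of {F : Type*} [Field F] [Finite F] [CharP F 2] (hG : IsCharacteristicTwoType G)
    (hP : IsParS (S : Subgroup G) P) (M : Crd F (S : Subgroup G) P (zl (S : Subgroup G) P)) :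
    BR (S : Subgroup G) P M.B M.R where
  star := hP
  BS := inf_le_left
  QB := by
    rw [← IsParS.inf_centralizer S hG hP]
    exact inf_le_inf_left _ (centralizer_le M.R_le)
  RV := M.R_le
  RS := M.S_R
  AB A hA := le_inf hA.2.1 (AA_le_centR hG hP M hA)
  cB b hb r hr := (mem_centralizer_iff.1 hb.2 r hr).symm
  fix a ha haQ v hv hav := by
    refine M.fix ha.1 ha.2 (fun h => haQ ?_) hv hav
    rw [← IsParS.inf_centralizer S hG hP]
    exact ⟨ha.1, h⟩
  comm a ha v hv := M.comm_R ha.1 ha.2 hv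
  card := by
    have h1 : (o2 P).relIndex M.B = Nat.card F := by
      rw [← M.relIndex_B, ← inf_relIndex_right (centralizer (zl (S : Subgroup G) P : Set G)),
        ← inf_relIndex_right (o2 P)]
      congr 1
      rw [← IsParS.inf_centralizer S hG hP]
      apply le_antisymm
      · exact le_inf (inf_le_left.trans inf_le_right) inf_le_right
      · exact le_inf (le_inf (inf_le_right.trans inf_le_left) inf_le_left) inf_le_right
    rw [h1, M.card_V, M.card_R]

namespace BR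

variable (hG : IsCharacteristicTwoType G) (h : BR (S : Subgroup G) P B R)
include hG h

theorem zl_le_zc : zl (S : Subgroup G) P ≤ zc (o2 P) := h.star.isLoc.zl_le S hG

theorem zl_le_o2 : zl (S : Subgroup G) P ≤ o2 P := (zl_le_zc hG h).trans (zc_le _)

theorem zl_elem : IsElementaryAbelian 2 (zl (S : Subgroup G) P) :=
  isElementaryAbelian_mono (zc_elem (o2 P)) (zl_le_zc hG h)

theorem comm_o2 : ∀ a ∈ o2 P, ∀ v ∈ zl (S : Subgroup G) P, a * v = v * a := fun a ha v hv =>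
  (mem_zc.1 (zl_le_zc hG h hv)).2.2 a ha

/-- `R ≤ A` -/
theorem R_le_AA {A : Subgroup G} (hA : A ∈ AA (S : Subgroup G)) : R ≤ A := fun r hr =>
  mem_AA_of_comm hA (h.BS (h.QB (zl_le_o2 hG h (h.RV hr)))) (elem_sq (zl_elem hG h) r (h.RV hr))
    fun a ha => h.cB a (h.AB A hA ha) r hr

/-- `A ∩ V = R` for `A ∈ A(S)`, `A ≰ O₂(P)`. -/
theorem inf_eq {A : Subgroup G} (hA : A ∈ AA (S : Subgroup G)) (hAQ : ¬ A ≤ o2 P) :
    A ⊓ zl (S : Subgroup G) P = R := by
  apply le_antisymm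
  · rintro v ⟨hvA, hvV⟩
    obtain ⟨a, ha, haQ⟩ := SetLike.not_le_iff_exists.1 hAQ
    exact h.fix a (h.AB A hA ha) haQ v hvV (elem_comm hA.1 a ha v hvA)
  · exact le_inf (R_le_AA hG h hA) h.RV

omit hG in
/-- `|A| ≤ |A ∩ Q| |B : Q|` -/
theorem card_le {A : Subgroup G} (hA : A ∈ AA (S : Subgroup G)) :
    Nat.card A ≤ Nat.card ↥(A ⊓ o2 P) * (o2 P).relIndex B := by
  have h1 := card_mul_relIndex (inf_le_left : A ⊓ o2 P ≤ A)
  rw [inf_relIndex_left] at h1
  rw [← h1]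
  refine Nat.mul_le_mul_left _ (relIndex_le_of_le_right (h.AB A hA) ?_)
  rw [relIndex]
  exact Subgroup.index_ne_zero_of_finite

/-- `(A ∩ Q) V` for an elementary abelian `A ≤ S` with `A ∩ V = R`. -/
theorem card_sup {A : Subgroup G} (hinf : A ⊓ zl (S : Subgroup G) P = R) :
    Nat.card ↥((A ⊓ o2 P) ⊔ zl (S : Subgroup G) P) = Nat.card ↥(A ⊓ o2 P) * (o2 P).relIndex B := by
  have h2 := card_sup_comm (A := A ⊓ o2 P) (B := zl (S : Subgroup G) P)
    fun a ha v hv => comm_o2 hG h a ha.2 v hv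
  have h3 : (A ⊓ o2 P) ⊓ zl (S : Subgroup G) P = R := by
    rw [inf_assoc, inf_eq_right.2 (zl_le_o2 hG h), hinf]
  rw [h3, h.card] at h2
  have hp : 0 < Nat.card R := Nat.card_pos
  have e : Nat.card ↥((A ⊓ o2 P) ⊔ zl (S : Subgroup G) P) * Nat.card R =
      Nat.card ↥(A ⊓ o2 P) * (o2 P).relIndex B * Nat.card R := by
    rw [h2]; ring
  exact Nat.eq_of_mul_eq_mul_right hp e

theorem sup_elem {A : Subgroup G} (hA : IsElementaryAbelian 2 A) :
    IsElementaryAbelian 2 ((A ⊓ o2 P) ⊔ zl (S : Subgroup G) P : Subgroup G) :=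
  isElementaryAbelian_sup (isElementaryAbelian_mono hA inf_le_left) (zl_elem hG h)
    fun v hv => mem_centralizer_iff.2 fun a ha => comm_o2 hG h a ha.2 v hv

theorem sup_le_o2 (A : Subgroup G) : (A ⊓ o2 P) ⊔ zl (S : Subgroup G) P ≤ o2 P :=
  sup_le inf_le_right (zl_le_o2 hG h)

/-- **Replacement**: `(A ∩ Q) V ∈ A(S)`. -/
theorem replace {A : Subgroup G} (hA : A ∈ AA (S : Subgroup G)) (hAQ : ¬ A ≤ o2 P) :
    (A ⊓ o2 P) ⊔ zl (S : Subgroup G) P ∈ AA (S : Subgroup G) := by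
  rw [mem_AA_iff]
  refine ⟨sup_elem hG h hA.1, (sup_le_o2 hG h A).trans (h.QB.trans h.BS), ?_⟩
  rw [card_sup hG h (inf_eq hG h hA hAQ), mm_eq hA]
  exact card_le h hA

/-- `|A| = |A ∩ Q| |B : Q|` -/
theorem card_eq {A : Subgroup G} (hA : A ∈ AA (S : Subgroup G)) (hAQ : ¬ A ≤ o2 P) :
    Nat.card A = Nat.card ↥(A ⊓ o2 P) * (o2 P).relIndex B := by
  rw [← card_sup hG h (inf_eq hG h hA hAQ), ← mm_eq hA, mm_eq (replace hG h hA hAQ)]

omit hG in
theorem B_norm : B ≤ normalizer (o2 P : Set G) :=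
  (h.BS.trans h.star.le).trans (MinSimple.VModule.le_normalizer_o2 P)

/-- `B = A Q` -/
theorem sup_eq {A : Subgroup G} (hA : A ∈ AA (S : Subgroup G)) (hAQ : ¬ A ≤ o2 P) : A ⊔ o2 P = B := by
  have hle := sup_le (h.AB A hA) h.QB
  refine Subgroup.eq_of_le_of_card_ge hle ?_
  have h1 := card_sup_norm (H := A) (N := o2 P) ((h.AB A hA).trans h.B_norm)
  have h2 := card_eq hG h hA hAQ
  have h3 := card_mul_relIndex h.QB
  rw [h2] at h1
  have hp : 0 < Nat.card ↥(A ⊓ o2 P) := Nat.card_pos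
  have e : Nat.card ↥(A ⊔ o2 P) * Nat.card ↥(A ⊓ o2 P) = Nat.card B * Nat.card ↥(A ⊓ o2 P) := by
    rw [h1, ← h3]; ring
  exact (Nat.eq_of_mul_eq_mul_right hp e).ge

/-- (T6) `Ω₁(Z(Q)) = V`, if `Ω₁(Z(B)) ≤ V`. -/
theorem zc_o2 (hB : ∀ y ∈ B, y ^ 2 = 1 → (∀ b ∈ B, b * y = y * b) → y ∈ R) {A : Subgroup G}
    (hA : A ∈ AA (S : Subgroup G)) (hAQ : ¬ A ≤ o2 P) : zc (o2 P) = zl (S : Subgroup G) P := by
  symm
  refine Subgroup.eq_of_le_of_card_ge (zl_le_zc hG h) ?_
  have hQB := h.QB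
  have hc : ∀ a ∈ A ⊓ o2 P, ∀ y ∈ zc (o2 P), a * y = y * a := fun a ha y hy => (mem_zc.1 hy).2.2 a ha.2
  -- `A ∩ Y ≤ R`
  have h1 : (A ⊓ o2 P) ⊓ zc (o2 P) ≤ R := by
    rintro y ⟨⟨hyA, hyQ⟩, hyY⟩
    refine hB y (hQB hyQ) (mem_zc.1 hyY).2.1 fun s hs => ?_
    rw [← sup_eq hG h hA hAQ] at hs
    obtain ⟨a, ha, x, hx, rfl⟩ := mem_sup_norm ((h.AB A hA).trans h.B_norm) hs
    have e1 := elem_comm hA.1 a ha y hyA
    have e2 := (mem_zc.1 hyY).2.2 x hx
    calc a * x * y = a * (x * y) := mul_assoc _ _ _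
      _ = (a * y) * x := by rw [e2, mul_assoc]
      _ = y * (a * x) := by rw [e1, mul_assoc]
  have h2 : IsElementaryAbelian 2 ((A ⊓ o2 P) ⊔ zc (o2 P) : Subgroup G) :=
    isElementaryAbelian_sup (isElementaryAbelian_mono hA.1 inf_le_left) (zc_elem _)
      fun y hy => mem_centralizer_iff.2 fun a ha => hc a ha y hy
  have hQS := h.QB.trans h.BS
  have h3 := hA.2.2 _ h2 (sup_le (inf_le_right.trans hQS) ((zc_le _).trans hQS))
  have h4 := card_sup_comm hc
  have h5 : Nat.card ↥((A ⊓ o2 P) ⊓ zc (o2 P)) ≤ Nat.card R := Subgroup.card_le_of_le h1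
  rw [card_eq hG h hA hAQ] at h3
  rw [h.card]
  have hp : 0 < Nat.card ↥(A ⊓ o2 P) := Nat.card_pos
  have e : Nat.card ↥(A ⊓ o2 P) * Nat.card (zc (o2 P)) ≤
      Nat.card ↥(A ⊓ o2 P) * (Nat.card R * (o2 P).relIndex B) := by
    rw [← h4]
    calc _ ≤ Nat.card ↥(A ⊓ o2 P) * (o2 P).relIndex B * Nat.card R := Nat.mul_le_mul h3 h5
      _ = _ := by ring
  exact Nat.le_of_mul_le_mul_left e hp

end BR

/-- Some `A ∈ A(S)` is not contained in `O₂(P)`. -/
theorem exists_AA' (hJ : ¬ jj (S : Subgroup G) ≤ o2 P) : ∃ A ∈ AA (S : Subgroup G), ¬ A ≤ o2 P := by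
  by_contra hc
  push Not at hc
  apply hJ
  rw [jj_eq]
  exact sSup_le hc

end blk

end Cfsg.Agent.Omega.NO3S.Fld

end

section


/-!
# Fld: `Ω₁(Z(B)) = R`

`S / B` is cyclic and acts freely on `R` (normal bases), so `|R| = |Z|^m`, `m = |S : B|`, while
`|Y| ≤ |C_Y(S)|^m` for every elementary abelian `Y` normalised by `S` and centralised by `B`.
-/

set_option autoImplicit false
set_option linter.unusedSectionVars false
set_option linter.unusedVariables false

namespace Cfsg.Agent.Omega.NO3S.Fld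

open Subgroup Cfsg Cfsg.Agent.ZN Cfsg.Agent.ZN.ChoiceBase Cfsg.Agent.Omega.MinPar
open Cfsg.Agent.Omega.NatPair (ext2)
open Cfsg.Agent.MinSimple.VModule (zc_le)

universe u

variable {G : Type u} [Group G]

/-- `|Y| ≤ |C_Y(t)|²` if `t²` centralises the elementary abelian group `Y`. -/
theorem card_le_sq [Finite G] {Y : Subgroup G} (hY : Red.El Y) {t : G} (ht : t ∈ normalizer (Y : Set G))
    (ht2 : t ^ 2 ∈ centralizer (Y : Set G)) :
    Nat.card Y ≤ Nat.card ↥(Y ⊓ centralizer ({t} : Set G)) ^ 2 := by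
  have hcj : ∀ y ∈ Y, t * y * t⁻¹ ∈ Y := fun y hy => (mem_normalizer_iff.1 ht y).1 hy
  have hinv : ∀ y ∈ Y, y⁻¹ = y := fun y hy => inv_eq_of_mul_eq_one_left (by rw [← pow_two]; exact hY.sq y hy)
  let φ : Y →* Y := MonoidHom.mk' (fun y => ⟨t * y * t⁻¹ * (y : G)⁻¹, Y.mul_mem (hcj y y.2) (Y.inv_mem y.2)⟩) (by
    rintro ⟨y, hy⟩ ⟨z, hz⟩
    apply Subtype.ext
    show t * (y * z) * t⁻¹ * (y * z)⁻¹ = t * y * t⁻¹ * y⁻¹ * (t * z * t⁻¹ * z⁻¹)
    have h1 : y⁻¹ * (t * z * t⁻¹ * z⁻¹) = (t * z * t⁻¹ * z⁻¹) * y⁻¹ :=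
      hY.comm _ (Y.inv_mem hy) _ (Y.mul_mem (hcj z hz) (Y.inv_mem hz))
    have h2 : t * (y * z) * t⁻¹ * (y * z)⁻¹ = t * y * t⁻¹ * ((t * z * t⁻¹ * z⁻¹) * y⁻¹) := by group
    rw [h2, ← h1]; group)
  have hk : Nat.card φ.ker = Nat.card ↥(Y ⊓ centralizer ({t} : Set G)) := by
    refine Nat.card_congr ⟨fun y => ⟨y.1.1, y.1.2, ?_⟩, fun y => ⟨⟨y.1, y.2.1⟩, ?_⟩, fun _ => rfl, fun _ => rfl⟩
    · have h1 : t * (y.1 : G) * t⁻¹ * (y.1 : G)⁻¹ = 1 := congrArg Subtype.val (MonoidHom.mem_ker.1 y.2)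
      rw [mul_inv_eq_one, mul_inv_eq_iff_eq_mul] at h1
      exact mem_centralizer_singleton_iff.2 h1.symm
    · refine MonoidHom.mem_ker.2 (Subtype.ext ?_)
      show t * (y : G) * t⁻¹ * (y : G)⁻¹ = 1
      rw [← mem_centralizer_singleton_iff.1 y.2.2]; group
  have hr : Nat.card φ.range ≤ Nat.card ↥(Y ⊓ centralizer ({t} : Set G)) := by
    refine Nat.card_le_card_of_injective (fun x : φ.range => (⟨(x : Y), (x : Y).2, ?_⟩ :
      ↥(Y ⊓ centralizer ({t} : Set G)))) ?_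
    · obtain ⟨x, y, rfl⟩ := x
      refine mem_centralizer_singleton_iff.2 ?_
      show t * (y : G) * t⁻¹ * (y : G)⁻¹ * t = t * (t * (y : G) * t⁻¹ * (y : G)⁻¹)
      -- `t x t⁻¹ = x`
      set w : G := t * (y : G) * t⁻¹ * (y : G)⁻¹ with hw
      have hwY : w ∈ Y := Y.mul_mem (hcj y y.2) (Y.inv_mem y.2)
      have h1 : t * w * t⁻¹ = t ^ 2 * (y : G) * (t ^ 2)⁻¹ * (t * y * t⁻¹)⁻¹ := by rw [hw, pow_two]; group
      have h2 : t ^ 2 * (y : G) * (t ^ 2)⁻¹ = y := by
        rw [← mem_centralizer_iff.1 ht2 y y.2]; group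
      have h3 : t * w * t⁻¹ = w := by
        rw [h1, h2, ← hinv w hwY, hw]; group
      rw [mul_inv_eq_iff_eq_mul] at h3
      exact h3.symm
    · intro a b h
      exact Subtype.ext (Subtype.ext (congrArg (fun z : ↥(Y ⊓ centralizer ({t} : Set G)) => (z : G)) h))
  have h3 : Nat.card φ.ker * Nat.card φ.range = Nat.card Y := by
    rw [← Subgroup.index_ker, Subgroup.card_mul_index]
  rw [← h3, hk, pow_two]
  exact Nat.mul_le_mul_left _ hr

/-- `|Y| ≤ |C_Y(s)|^(2^e)` if `s^(2^e)` centralises the elementary abelian group `Y`. -/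
theorem card_le_pow [Finite G] (e : ℕ) : ∀ {Y : Subgroup G}, Red.El Y → ∀ {s : G}, s ∈ normalizer (Y : Set G) →
    s ^ 2 ^ e ∈ centralizer (Y : Set G) → Nat.card Y ≤ Nat.card ↥(Y ⊓ centralizer ({s} : Set G)) ^ 2 ^ e := by
  induction e with
  | zero =>
    intro Y hY s hs h
    rw [pow_zero, pow_one] at h
    rw [pow_zero, pow_one]
    refine Subgroup.card_le_of_le (le_inf le_rfl fun y hy => ?_)
    exact mem_centralizer_singleton_iff.2 (mem_centralizer_iff.1 h y hy)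
  | succ e ih =>
    intro Y hY s hs h
    set t := s ^ 2 ^ e with ht
    have htN : t ∈ normalizer (Y : Set G) := pow_mem hs _
    have ht2 : t ^ 2 ∈ centralizer (Y : Set G) := by rw [ht, ← pow_mul, ← pow_succ]; exact h
    have h1 := card_le_sq hY htN ht2
    have hst : s * t = t * s := by rw [ht, ← pow_succ, ← pow_succ']
    have key : ∀ {r : G}, r ∈ normalizer (Y : Set G) → r * t = t * r → ∀ y ∈ Y ⊓ centralizer ({t} : Set G),
        r * y * r⁻¹ ∈ Y ⊓ centralizer ({t} : Set G) := by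
      intro r hr hrt y hy
      refine ⟨(mem_normalizer_iff.1 hr y).1 hy.1, ?_⟩
      have h2 := mem_centralizer_singleton_iff.1 hy.2
      refine mem_centralizer_singleton_iff.2 ?_
      have hrt' : r⁻¹ * t = t * r⁻¹ := by
        rw [inv_mul_eq_iff_eq_mul, ← mul_assoc, hrt, mul_inv_cancel_right]
      calc r * y * r⁻¹ * t = r * y * (r⁻¹ * t) := by group
        _ = r * (y * t) * r⁻¹ := by rw [hrt']; group
        _ = (r * t) * y * r⁻¹ := by rw [h2]; group
        _ = t * (r * y * r⁻¹) := by rw [hrt]; group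
    have hsN : s ∈ normalizer ((Y ⊓ centralizer ({t} : Set G) : Subgroup G) : Set G) := by
      rw [mem_normalizer_iff]
      refine fun y => ⟨key hs hst y, fun hy => ?_⟩
      have hst' : s⁻¹ * t = t * s⁻¹ := by
        rw [inv_mul_eq_iff_eq_mul, ← mul_assoc, hst, mul_inv_cancel_right]
      have h3 := key (inv_mem hs) hst' _ hy
      have e1 : s⁻¹ * (s * y * s⁻¹) * s⁻¹⁻¹ = y := by group
      rwa [e1] at h3
    have h2 := ih (Y := Y ⊓ centralizer ({t} : Set G))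
      ⟨fun a ha => hY.sq a ha.1, fun a ha b hb => hY.comm a ha.1 b hb.1⟩ hsN (by
        rw [mem_centralizer_iff]
        intro y hy
        exact mem_centralizer_singleton_iff.1 hy.2)
    have h3 : Nat.card ↥((Y ⊓ centralizer ({t} : Set G)) ⊓ centralizer ({s} : Set G)) ≤
        Nat.card ↥(Y ⊓ centralizer ({s} : Set G)) :=
      Subgroup.card_le_of_le (inf_le_inf_right _ inf_le_left)
    calc Nat.card Y ≤ Nat.card ↥(Y ⊓ centralizer ({t} : Set G)) ^ 2 := h1
      _ ≤ (Nat.card ↥(Y ⊓ centralizer ({s} : Set G)) ^ 2 ^ e) ^ 2 :=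
          Nat.pow_le_pow_left (h2.trans (Nat.pow_le_pow_left h3 _)) 2
      _ = _ := by rw [← pow_mul, ← pow_succ]

/-- `|F| = |F^σ|^m`, `m` the order of `σ`. -/
theorem card_eq_pow {F : Type*} [Field F] [Finite F] (σ : F ≃+* F) :
    Nat.card F = Nat.card {x : F // σ x = x} ^ orderOf σ := by
  have hfin : Finite (F ≃+* F) := Finite.of_injective (fun σ : F ≃+* F => (σ : F → F)) DFunLike.coe_injective
  let H : Subgroup (F ≃+* F) := zpowers σ
  have hH : Fintype H := Fintype.ofFinite H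
  have h1 : Module.finrank (FixedPoints.subfield H F) F = Fintype.card H := FixedPoints.finrank_eq_card H F
  have h2 : Nat.card F = Nat.card (FixedPoints.subfield H F) ^ Module.finrank (FixedPoints.subfield H F) F := by
    have : Fintype F := Fintype.ofFinite F
    have : Fintype (FixedPoints.subfield H F) := Fintype.ofFinite _
    rw [Nat.card_eq_fintype_card, Nat.card_eq_fintype_card]
    exact Module.card_eq_pow_finrank
  have h3 : Nat.card (FixedPoints.subfield H F) = Nat.card {x : F // σ x = x} := by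
    refine Nat.card_congr (Equiv.subtypeEquivRight fun x => ?_)
    constructor
    · intro hx
      exact hx ⟨σ, mem_zpowers σ⟩
    · rintro hx ⟨τ, hτ⟩
      obtain ⟨k, rfl⟩ := mem_zpowers_iff.1 hτ
      have h4 : ∀ n : ℕ, (σ ^ n) x = x := by
        intro n
        induction n with
        | zero => rfl
        | succ n ih =>
          rw [pow_succ]
          show (σ ^ n) (σ x) = x
          rw [hx, ih]
      obtain ⟨n, hn⟩ : ∃ n : ℕ, σ ^ n = σ ^ k := by
        have := (mem_powers_iff_mem_zpowers (x := σ) (y := σ ^ k)).2 ⟨k, rfl⟩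
        exact this
      show (σ ^ k) x = x
      rw [← hn]
      exact h4 n
  rw [h2, h3, h1]
  congr 1
  rw [← Nat.card_eq_fintype_card]
  exact Nat.card_zpowers σ

section

variable [Finite G] {S : Subgroup G} {P V : Subgroup G} {F : Type*} [Field F] [Finite F] [CharP F 2]

namespace Crd

variable (M : Crd F S P V)

/-- **`Ω₁(Z(B)) = R`.** -/
theorem mem_R_of_cent (hS : IsPGroup 2 S) (hV : V ≤ S) (hZ : zc S ≤ V) :
    ∀ y ∈ M.B, y ^ 2 = 1 → (∀ b ∈ M.B, b * y = y * b) → y ∈ M.R := by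
  obtain ⟨s₀, hs₀, hcyc⟩ := M.cyc
  obtain ⟨σ, c, hact⟩ := M.exists_act hs₀
  have hσ : M.sgHom ⟨s₀, hs₀⟩ = σ := M.sgHom_eq (s := ⟨s₀, hs₀⟩) hact
  -- the order of `σ` is a power of 2
  obtain ⟨e, he⟩ : ∃ e, orderOf σ = 2 ^ e := by
    obtain ⟨n, hn⟩ := hS ⟨s₀, hs₀⟩
    have h1 : σ ^ 2 ^ n = 1 := by rw [← hσ, ← map_pow, hn, map_one]
    obtain ⟨e, -, he⟩ := (Nat.dvd_prime_pow Nat.prime_two).1 (orderOf_dvd_of_pow_eq_one h1)
    exact ⟨e, he⟩
  have hcardR : Nat.card M.R = Nat.card (zc S) ^ 2 ^ e := by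
    rw [M.card_R, card_eq_pow σ, he, ← M.card_fixR hact]
    congr 1
    rw [M.zc_eq hV hZ]
    refine Nat.card_congr (Equiv.setCongr ?_)
    ext r
    constructor
    · rintro ⟨hr, hrs⟩
      refine ⟨hr, ?_⟩
      show r ∈ centralizer (S : Set G)
      rw [mem_centralizer_iff]
      intro s hs
      obtain ⟨k, hk⟩ := hcyc s hs
      have h1 : s₀ ∈ centralizer ({r} : Set G) :=
        mem_centralizer_singleton_iff.2 (mem_centralizer_singleton_iff.1 hrs).symm
      have h2 := pow_mem h1 k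
      have h3 := mem_centralizer_singleton_iff.1 h2
      have h4 := (mem_centralizer_iff.1 hk.2 r hr)
      have e1 : s = s * (s₀ ^ k)⁻¹ * s₀ ^ k := by group
      rw [e1, mul_assoc, h3, ← mul_assoc, ← h4, mul_assoc]
    · rintro ⟨hr, hrs⟩
      exact ⟨hr, mem_centralizer_singleton_iff.2 (mem_centralizer_iff.1 hrs s₀ hs₀).symm⟩
  -- the group `Y`
  let Y : Subgroup G := zc M.B
  have hYE : Red.El Y := ⟨fun a ha => (mem_zc.1 ha).2.1, fun a ha b hb => (mem_zc.1 hb).2.2 a (mem_zc.1 ha).1⟩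
  have hBn : ∀ s ∈ S, ∀ b ∈ M.B, s * b * s⁻¹ ∈ M.B := by
    intro s hs b hb
    refine ⟨S.mul_mem (S.mul_mem hs hb.1) (S.inv_mem hs), ?_⟩
    show s * b * s⁻¹ ∈ centralizer (M.R : Set G)
    rw [mem_centralizer_iff]
    intro r hr
    have h1 : s⁻¹ * r * s ∈ M.R := by
      have := (mem_normalizer_iff.1 (M.S_R (S.inv_mem hs)) r).1 hr
      rwa [inv_inv] at this
    have h2 := mem_centralizer_iff.1 hb.2 _ h1
    have h3 : s * (s⁻¹ * r * s * b) * s⁻¹ = s * (b * (s⁻¹ * r * s)) * s⁻¹ := by rw [h2]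
    calc r * (s * b * s⁻¹) = s * (s⁻¹ * r * s * b) * s⁻¹ := by group
      _ = s * (b * (s⁻¹ * r * s)) * s⁻¹ := h3
      _ = s * b * s⁻¹ * r := by group
  have hYn : ∀ s ∈ S, ∀ y ∈ Y, s * y * s⁻¹ ∈ Y := by
    intro s hs y hy
    have h1 := mem_zc.1 hy
    refine mem_zc.2 ⟨hBn s hs y h1.1, ?_, fun b hb => ?_⟩
    · have e1 : (s * y * s⁻¹) ^ 2 = s * y ^ 2 * s⁻¹ := by rw [pow_two, pow_two]; group
      rw [e1, h1.2.1]; group
    · have h2 := h1.2.2 (s⁻¹ * b * s) (by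
        have := hBn s⁻¹ (S.inv_mem hs) b hb
        rwa [inv_inv] at this)
      have h3 : s * (s⁻¹ * b * s * y) * s⁻¹ = s * (y * (s⁻¹ * b * s)) * s⁻¹ := by rw [h2]
      calc b * (s * y * s⁻¹) = s * (s⁻¹ * b * s * y) * s⁻¹ := by group
        _ = s * (y * (s⁻¹ * b * s)) * s⁻¹ := h3
        _ = s * y * s⁻¹ * b := by group
  have hs₀N : s₀ ∈ normalizer (Y : Set G) := by
    rw [mem_normalizer_iff]
    refine fun y => ⟨hYn s₀ hs₀ y, fun hy => ?_⟩
    have h3 := hYn s₀⁻¹ (S.inv_mem hs₀) _ hy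
    have e1 : s₀⁻¹ * (s₀ * y * s₀⁻¹) * s₀⁻¹⁻¹ = y := by group
    rwa [e1] at h3
  have hs₀B : s₀ ^ 2 ^ e ∈ M.B := by
    refine ⟨S.pow_mem hs₀ _, ?_⟩
    have h1 : M.sgHom (⟨s₀, hs₀⟩ ^ 2 ^ e) = 1 := by rw [map_pow, hσ, ← he, pow_orderOf_eq_one]
    exact M.sgHom_eq_one.1 h1
  have h1 := card_le_pow e hYE hs₀N (by
    rw [mem_centralizer_iff]
    intro y hy
    exact ((mem_zc.1 hy).2.2 _ hs₀B).symm)
  have h2 : Y ⊓ centralizer ({s₀} : Set G) ≤ zc S := by
    rintro y ⟨hy, hys⟩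
    have h3 := mem_zc.1 hy
    refine mem_zc.2 ⟨h3.1.1, h3.2.1, fun s hs => ?_⟩
    obtain ⟨k, hk⟩ := hcyc s hs
    have h4 : s₀ ∈ centralizer ({y} : Set G) :=
      mem_centralizer_singleton_iff.2 (mem_centralizer_singleton_iff.1 hys).symm
    have h5 := mem_centralizer_singleton_iff.1 (pow_mem h4 k)
    have h6 := h3.2.2 _ hk
    have e1 : s = s * (s₀ ^ k)⁻¹ * s₀ ^ k := by group
    rw [e1, mul_assoc, h5, ← mul_assoc, h6, mul_assoc]
  have h3 : Nat.card Y ≤ Nat.card M.R := by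
    rw [hcardR]
    exact h1.trans (Nat.pow_le_pow_left (Subgroup.card_le_of_le h2) _)
  have h4 : M.R ≤ Y := by
    intro r hr
    have hrV := M.R_le hr
    refine mem_zc.2 ⟨⟨hV hrV, ?_⟩, by rw [pow_two]; exact M.sq hrV,
      fun b hb => (mem_centralizer_iff.1 hb.2 r hr).symm⟩
    show r ∈ centralizer (M.R : Set G)
    exact mem_centralizer_iff.2 fun r' hr' => M.comm (M.R_le hr') hrV
  have h5 : M.R = Y := Subgroup.eq_of_le_of_card_ge h4 h3
  intro y hy hy2 hyc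
  rw [h5]
  exact mem_zc.2 ⟨hy, hy2, hyc⟩

end Crd

end

end Cfsg.Agent.Omega.NO3S.Fld

end
end

-- part: Mrg/Omega/NO3S/Fld/ZJ
section
/-!
# Fld: `Ω₁(Z(J(S))) = R`

`BR.zj_eq` : the argument of `OneLine.Blk.zj_eq` over `B`; `Crd.opp` : `R ∩ R^x = 1` for some `x ∈ P`;
`zj_eq_R`, `zc_o2_eq`, `normalizer_le_R` : the results under `HypJ S P` and `NatP`, any `|Z|`.
-/

set_option autoImplicit false
set_option linter.unusedSectionVars false
set_option linter.unusedVariables false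

namespace Cfsg.Agent.Omega.NO3S.Fld

open Subgroup Cfsg Cfsg.Agent.ZN Cfsg.Agent.ZN.ChoiceBase Cfsg.Agent.Omega.MinPar
open Cfsg.Agent.ZN.ChoiceSit (Syl o2_le_syl)
open Cfsg.Agent.Omega.SQ1.Bau (mem_AA_of_comm zj_le_AA elem_comm elem_sq mem_sup_comm card_sup_comm mem_sup_norm)
open Cfsg.Agent.PLocal.ElemAbSup Cfsg.Agent.PLocal.ThompsonJ
open Cfsg.Agent.MinSimple.VModule (zc_le zc_le_zl zl_le le_o2 le_normalizer_zl le_normalizer_o2)
open Cfsg.Agent.Omega.NatPair (ext2 ap ap_zero' ap_one')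
open Cfsg.Agent.Lib.SL2Mat
open Cfsg.Agent.Omega.NO3S.OneLine (conj_mem card_mul_relIndex minH exists_fixed zc_elem o2_le card_sup_norm)

universe u

variable {G : Type u} [Group G] [Finite G] {S : Sylow 2 G} {P B R : Subgroup G}

namespace BR

variable (hG : IsCharacteristicTwoType G) (h : BR (S : Subgroup G) P B R)
include hG h

/-- **`Ω₁(Z(J(S))) = R`.** -/
theorem zj_eq (hB : ∀ y ∈ B, y ^ 2 = 1 → (∀ b ∈ B, b * y = y * b) → y ∈ R)
    {A : Subgroup G} (hA : A ∈ AA (S : Subgroup G)) (hAQ : ¬ A ≤ o2 P)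
    (hsq : Nat.card (zl (S : Subgroup G) P) = Nat.card R ^ 2)
    {x : G} (hx : x ∈ P) (hxZ : R ⊓ cj x R = ⊥) :
    zj (S : Subgroup G) = R := by
  have hQS := o2_le S h.star.toIsPar
  have hA' := replace hG h hA hAQ
  have hA'Q := sup_le_o2 hG h A
  have hzo2 := zc_o2 hG h hB hA hAQ
  -- `A' = (A ∩ Q) V ∈ A(Q)`
  have hmm : mm (S : Subgroup G) ≤ mm (o2 P) := by
    rw [mm_eq hA']
    exact card_le_mm hA'.1 hA'Q
  have hA'' : (A ⊓ o2 P) ⊔ zl (S : Subgroup G) P ∈ AA (o2 P) :=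
    ⟨hA'.1, hA'Q, fun B hB hBQ => hA'.2.2 B hB (hBQ.trans hQS)⟩
  have hjj : jj (o2 P) ≤ jj (S : Subgroup G) := jj_mono hQS hmm
  set V := zl (S : Subgroup G) P with hV
  set Y := zj (o2 P) with hY
  have hYc : ∀ y ∈ Y, ∀ w ∈ Y, y * w = w * y := fun y hy w hw => (mem_zj.1 hw).2.2 y (mem_zj.1 hy).1
  have hYe : IsElementaryAbelian 2 Y := isElementaryAbelian_iff.2 ⟨hYc, fun a ha => (mem_zj.1 ha).2.1⟩
  have hVY : V ≤ Y := fun v hv => mem_zj.2 ⟨le_jj hA'' (mem_sup_right hv), elem_sq (zl_elem hG h) v hv,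
    fun y hy => comm_o2 hG h y (jj_le _ hy) v hv⟩
  have hYA' : Y ≤ (A ⊓ o2 P) ⊔ V := zj_le_AA hA''
  have hZJ : R ≤ zj (S : Subgroup G) := by
    intro r hr
    refine mem_zj.2 ⟨le_jj hA (R_le_AA hG h hA hr), elem_sq (zl_elem hG h) r (h.RV hr), fun y hy => ?_⟩
    have h1 : jj (S : Subgroup G) ≤ B := by
      rw [jj_eq]
      exact sSup_le h.AB
    exact h.cB y (h1 hy) r hr
  have hPY : P ≤ normalizer (Y : Set G) := (MinSimple.VModule.le_normalizer_o2 P).trans
    (normalizer_le_of_cj (F := zj) zj_cj (o2 P))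
  have hPV : P ≤ normalizer (V : Set G) := le_normalizer_zl _ _
  -- `C_Y(A)`
  let YA : Subgroup G := Y ⊓ centralizer (A : Set G)
  have hYsplit : ∀ y ∈ Y, ∃ v ∈ V, ∃ c ∈ YA, y = v * c := by
    intro y hy
    obtain ⟨a, ha, v, hv, rfl⟩ := mem_sup_comm (A := A ⊓ o2 P) (B := V)
      (fun a ha v hv => comm_o2 hG h a ha.2 v hv) (hYA' hy)
    refine ⟨v, hv, a, ⟨?_, mem_centralizer_iff.2 fun b hb => elem_comm hA.1 b hb a ha.1⟩,
      comm_o2 hG h a ha.2 v hv⟩
    have h1 := mul_mem hy (inv_mem (hVY hv))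
    rwa [mul_inv_cancel_right] at h1
  have hVYA : V ⊓ YA = R := by
    apply le_antisymm
    · rintro v ⟨hv, -, hvA⟩
      obtain ⟨a, ha, haQ⟩ := SetLike.not_le_iff_exists.1 hAQ
      exact h.fix a (h.AB A hA ha) haQ v hv (mem_centralizer_iff.1 hvA a ha)
    · refine le_inf h.RV (le_inf (h.RV.trans hVY) fun z hz => ?_)
      exact mem_centralizer_iff.2 fun a ha => h.cB a (h.AB A hA ha) z hz
  have hVsupYA : V ⊔ YA = Y := by
    apply le_antisymm (sup_le hVY inf_le_left)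
    intro y hy
    obtain ⟨v, hv, c, hc, rfl⟩ := hYsplit y hy
    exact mul_mem_sup hv hc
  have hcYA : Nat.card Y * Nat.card R = Nat.card V * Nat.card YA := by
    have h1 := card_sup_comm (A := V) (B := YA) fun v hv c hc => hYc v (hVY hv) c hc.1
    rwa [hVsupYA, hVYA] at h1
  have hYY : Nat.card Y = Nat.card R * Nat.card YA := by
    have hp : 0 < Nat.card R := Nat.card_pos
    rw [hsq] at hcYA
    have e : Nat.card Y * Nat.card R = Nat.card R * Nat.card YA * Nat.card R := by rw [hcYA]; ring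
    exact Nat.eq_of_mul_eq_mul_right hp e
  -- `D = C_Y(⟨A, A^x⟩)`
  have hxY : cj x Y = Y := cj_eq_of_mem_normalizer (hPY hx)
  have hxV : cj x V = V := cj_eq_of_mem_normalizer (hPV hx)
  let YB : Subgroup G := cj x YA
  have hYB : YB ≤ Y := by
    have h1 : cj x YA ≤ cj x Y := cj_mono x inf_le_left
    rwa [hxY] at h1
  have hcYB : Nat.card YB = Nat.card YA := card_cj _ _
  let C : Subgroup G := YA ⊓ YB
  have hVC : V ⊓ C = ⊥ := by
    rw [eq_bot_iff, ← hxZ]
    rintro v ⟨hv, hvA, hvB⟩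
    refine ⟨hVYA ▸ ⟨hv, hvA⟩, ?_⟩
    rw [← hVYA, cj_inf, hxV]
    exact ⟨hv, hvB⟩
  have hCcard : Nat.card Y ≤ Nat.card V * Nat.card C := by
    have h1 := card_sup_comm (A := YA) (B := YB) fun a ha b hb => hYc a ha.1 b (hYB hb)
    have h2 : Nat.card ↥(YA ⊔ YB) ≤ Nat.card Y := Subgroup.card_le_of_le (sup_le inf_le_left hYB)
    have h3 : Nat.card YA * Nat.card YB ≤ Nat.card Y * Nat.card C := by
      rw [← h1]
      exact Nat.mul_le_mul_right _ h2
    rw [hcYB] at h3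
    have hp : 0 < Nat.card YA := Nat.card_pos
    rw [hYY, hsq]
    rw [hYY] at h3
    have e : Nat.card YA * Nat.card YA ≤ Nat.card YA * (Nat.card R * Nat.card C) := by
      calc _ ≤ Nat.card R * Nat.card YA * Nat.card C := h3
        _ = _ := by ring
    have h4 := Nat.le_of_mul_le_mul_left e hp
    calc Nat.card R * Nat.card YA ≤ Nat.card R * (Nat.card R * Nat.card C) := Nat.mul_le_mul_left _ h4
      _ = Nat.card R ^ 2 * Nat.card C := by ring
  have hVsupC : V ⊔ C = Y := by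
    refine Subgroup.eq_of_le_of_card_ge (sup_le hVY (inf_le_left.trans inf_le_left)) ?_
    have h1 := card_sup_comm (A := V) (B := C) fun v hv c hc => hYc v (hVY hv) c hc.1.1
    rw [hVC, Subgroup.card_bot, mul_one] at h1
    rw [h1]
    exact hCcard
  -- the final argument
  refine le_antisymm ?_ hZJ
  by_contra hne
  have hBp : IsPGroup 2 B := S.isPGroup'.to_le h.BS
  have hzjB : zj (S : Subgroup G) ≤ B := (zj_le_AA hA).trans (h.AB A hA)
  obtain ⟨y, hy, hyZ, hyS⟩ := exists_fixed (M := R) hBp hzjB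
    (h.BS.trans (le_normalizer.trans (normalizer_le_of_cj (F := zj) zj_cj (S : Subgroup G)))) hne
  have hy' := mem_zj.1 hy
  have hyA : ∀ B ∈ AA (S : Subgroup G), y ∈ B := fun B hB => zj_le_AA hB hy
  have hyQ : y ∈ o2 P := hA'Q (hyA _ hA')
  have hyY : y ∈ Y := mem_zj.2 ⟨le_jj hA'' (hyA _ hA'), hy'.2.1, fun w hw => hy'.2.2 w (hjj hw)⟩
  have hyA1 : y ∈ YA := ⟨hyY, mem_centralizer_iff.2 fun a ha => hy'.2.2 a (le_jj hA ha)⟩
  obtain ⟨z, hz, c, hc, hyzc⟩ : ∃ z ∈ R, ∃ c ∈ C, y = z * c := by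
    rw [← hVsupC] at hyY
    obtain ⟨v, hv, c, hc, rfl⟩ := mem_sup_comm (A := V) (B := C)
      (fun v hv c hc => hYc v (hVY hv) c hc.1.1) hyY
    refine ⟨v, ?_, c, hc, rfl⟩
    rw [← hVYA]
    refine ⟨hv, ?_⟩
    have h1 := mul_mem hyA1 (inv_mem hc.1)
    rwa [mul_inv_cancel_right] at h1
  have hcZ : c ∉ R := fun h1 => hyZ (hyzc ▸ mul_mem hz h1)
  have hcY : c ∈ Y := hc.1.1
  have hcQ0 : c ∈ o2 P := jj_le _ (mem_zj.1 hcY).1
  have hcS : ∀ s ∈ B, s * c * s⁻¹ * c⁻¹ ∈ R := by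
    intro s hs
    have h1 := hyS s hs
    have h2 : s * z = z * s := h.cB s hs z hz
    have e : s * y * s⁻¹ * y⁻¹ = s * c * s⁻¹ * c⁻¹ := by
      rw [hyzc]
      have h4 : s * (z * c) * s⁻¹ * (z * c)⁻¹ = (s * z) * c * s⁻¹ * c⁻¹ * z⁻¹ := by group
      have h5 : z * (s * c * s⁻¹ * c⁻¹) = s * c * s⁻¹ * c⁻¹ * z := by
        have h6 : s * c * s⁻¹ * c⁻¹ ∈ B :=
          mul_mem (mul_mem (mul_mem hs (h.QB hcQ0)) (inv_mem hs)) (inv_mem (h.QB hcQ0))
        exact (h.cB _ h6 z hz).symm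
      rw [h4, h2]
      calc z * s * c * s⁻¹ * c⁻¹ * z⁻¹ = z * (s * c * s⁻¹ * c⁻¹) * z⁻¹ := by group
        _ = s * c * s⁻¹ * c⁻¹ := by rw [h5]; group
    rwa [e] at h1
  -- `c` centralises `Q`
  obtain ⟨a₀, ha₀, ha₀Q⟩ := SetLike.not_le_iff_exists.1 hAQ
  have hcQ : ∀ t ∈ o2 P, t * c = c * t := by
    intro t ht
    have hbP : x * a₀ * x⁻¹ ∈ P := mul_mem (mul_mem hx (h.star.le (hA.2.1 ha₀))) (inv_mem hx)
    set b := x * a₀ * x⁻¹ with hb
    have hbc : b * c = c * b := by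
      have h1 : c ∈ YB := hc.2
      have h2 : c ∈ cj x (centralizer (A : Set G)) := cj_mono x inf_le_right h1
      rw [mem_cj, mem_centralizer_iff] at h2
      have h3 := h2 a₀ ha₀
      have h4 : x * (a₀ * (x⁻¹ * c * x)) * x⁻¹ = x * (x⁻¹ * c * x * a₀) * x⁻¹ := by rw [h3]
      rw [hb]
      calc x * a₀ * x⁻¹ * c = x * (a₀ * (x⁻¹ * c * x)) * x⁻¹ := by group
        _ = x * (x⁻¹ * c * x * a₀) * x⁻¹ := h4
        _ = c * (x * a₀ * x⁻¹) := by group
    set e := t * c * t⁻¹ * c⁻¹ with he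
    have heZ : e ∈ R := hcS t (h.QB ht)
    have heV : e ∈ V := h.RV heZ
    have heZ' : b * e * b⁻¹ ∈ R := by
      have h1 : b * t * b⁻¹ ∈ o2 P := conj_mem (MinSimple.VModule.le_normalizer_o2 P) hbP ht
      have h2 := hcS _ (h.QB h1)
      have h3 : b * c * b⁻¹ = c := by rw [hbc]; group
      have h4 : b * e * b⁻¹ = (b * t * b⁻¹) * (b * c * b⁻¹) * (b * t * b⁻¹)⁻¹ * (b * c * b⁻¹)⁻¹ := by
        rw [he]; group
      rw [h4, h3]
      exact h2
    -- `[b, e] ∈ R ∩ R^x = 1`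
    have h1 : b * e * b⁻¹ * e⁻¹ ∈ R ⊓ cj x R := by
      refine mem_inf.2 ⟨mul_mem heZ' (inv_mem heZ), ?_⟩
      rw [mem_cj]
      have h2 : x⁻¹ * e * x ∈ V := by
        have := conj_mem hPV (inv_mem hx) heV
        rwa [inv_inv] at this
      have h3 := h.comm a₀ (h.AB A hA ha₀) _ h2
      have h4 : x⁻¹ * (b * e * b⁻¹ * e⁻¹) * x = a₀ * (x⁻¹ * e * x) * a₀⁻¹ * (x⁻¹ * e * x)⁻¹ := by
        rw [hb]; group
      rw [h4]
      exact h3
    rw [hxZ, mem_bot] at h1
    have h2 : e ∈ cj x R := by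
      rw [mem_cj]
      have h3 : x⁻¹ * e * x ∈ V := by
        have := conj_mem hPV (inv_mem hx) heV
        rwa [inv_inv] at this
      refine h.fix a₀ (h.AB A hA ha₀) ha₀Q _ h3 ?_
      have h4 : b * e = e * b := by
        have := mul_inv_eq_one.1 h1
        calc b * e = b * e * b⁻¹ * b := by group
          _ = e * b := by rw [this]
      have h5 : x⁻¹ * (b * e) * x = x⁻¹ * (e * b) * x := by rw [h4]
      calc a₀ * (x⁻¹ * e * x) = x⁻¹ * (b * e) * x := by rw [hb]; group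
        _ = x⁻¹ * (e * b) * x := h5
        _ = x⁻¹ * e * x * a₀ := by rw [hb]; group
    have h3 : e ∈ R ⊓ cj x R := ⟨heZ, h2⟩
    rw [hxZ, mem_bot, he] at h3
    have := mul_inv_eq_one.1 h3
    calc t * c = t * c * t⁻¹ * t := by group
      _ = c * t := by rw [this]
  have hcV : c ∈ V := by
    rw [← hzo2]
    exact mem_zc.2 ⟨hcQ0, (mem_zj.1 hcY).2.1, hcQ⟩
  have h1 : c ∈ V ⊓ C := ⟨hcV, hc⟩
  rw [hVC, mem_bot] at h1
  exact hcZ (h1 ▸ one_mem _)

end BR

/-! ### The results -/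

section res

variable {F : Type*} [Field F] [Finite F] [CharP F 2]

/-- `R ∩ R^x = 1` for some `x ∈ P` -/
theorem Crd.opp {S P V : Subgroup G} (M : Crd F S P V) : ∃ x ∈ P, M.R ⊓ cj x M.R = ⊥ := by
  obtain ⟨x, hx, h1⟩ := M.lift (wm 1 one_ne_zero)
  refine ⟨x, hx, ?_⟩
  rw [eq_bot_iff]
  rintro _ ⟨⟨a, rfl⟩, hb⟩
  obtain ⟨b, hb1⟩ := mem_cj.1 hb
  have h2 := h1 ![b, 0]
  rw [hb1] at h2
  have e : x * (x⁻¹ * M.e ![a, 0] * x) * x⁻¹ = M.e ![a, 0] := by group
  rw [e] at h2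
  have h3 := congrFun (M.e_inj h2) 0
  rw [ap_zero', wm_00, wm_01] at h3
  have h4 : a = 0 := by simpa using h3
  rw [mem_bot, h4, ← M.e_zero]
  congr 1
  apply ext2 <;> simp

variable (h : HypJ S P)

theorem HypJ.facts (M : Crd F (S : Subgroup G) P (zl (S : Subgroup G) P)) (h : HypJ S P) :
    BR (S : Subgroup G) P M.B M.R ∧ zc (o2 P) = zl (S : Subgroup G) P ∧ zj (S : Subgroup G) = M.R := by
  have hG := h.ctx.char2
  have hb := br_of hG h.star M
  have hVS : zl (S : Subgroup G) P ≤ (S : Subgroup G) := (BR.zl_le_o2 hG hb).trans (hb.QB.trans hb.BS)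
  have hB := M.mem_R_of_cent S.isPGroup' hVS (zc_le_zl _ _)
  obtain ⟨A, hA, hAQ⟩ := exists_AA' h.jnot
  obtain ⟨x, hx, hx0⟩ := M.opp
  refine ⟨hb, BR.zc_o2 hG hb hB hA hAQ, BR.zj_eq hG hb hB hA hAQ ?_ hx hx0⟩
  rw [M.card_V_R, pow_two]

/-- `N_G(J(S)) ≤ N_G(R)` -/
theorem normalizer_jj_le_R (M : Crd F (S : Subgroup G) P (zl (S : Subgroup G) P)) (h : HypJ S P) :
    normalizer (jj (S : Subgroup G) : Set G) ≤ normalizer (M.R : Set G) := by
  rw [← (HypJ.facts M h).2.2]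
  intro g hg
  apply mem_normalizer_of_cj_le
  intro x hx
  rw [mem_cj] at hx
  have h1 := mem_zj.1 hx
  have key : ∀ y, y ∈ jj (S : Subgroup G) ↔ g * y * g⁻¹ ∈ jj (S : Subgroup G) := mem_normalizer_iff.1 hg
  refine mem_zj.2 ⟨?_, ?_, fun y hy => ?_⟩
  · have h2 := (key _).1 h1.1
    have e : g * (g⁻¹ * x * g) * g⁻¹ = x := by group
    rwa [e] at h2
  · have e : (g⁻¹ * x * g) ^ 2 = g⁻¹ * x ^ 2 * g := by rw [pow_two, pow_two]; group
    have h2 := h1.2.1
    rw [e] at h2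
    have e2 : x ^ 2 = g * (g⁻¹ * x ^ 2 * g) * g⁻¹ := by group
    rw [e2, h2]; group
  · have h2 : g⁻¹ * y * g ∈ jj (S : Subgroup G) := by
      rw [key]
      have e : g * (g⁻¹ * y * g) * g⁻¹ = y := by group
      rwa [e]
    have h3 := h1.2.2 _ h2
    have h4 : g * (g⁻¹ * y * g * (g⁻¹ * x * g)) * g⁻¹ = g * (g⁻¹ * x * g * (g⁻¹ * y * g)) * g⁻¹ := by rw [h3]
    calc y * x = g * (g⁻¹ * y * g * (g⁻¹ * x * g)) * g⁻¹ := by group
      _ = g * (g⁻¹ * x * g * (g⁻¹ * y * g)) * g⁻¹ := h4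
      _ = x * y := by group

/-- `N_G(S) ≤ N_G(R)` -/
theorem normalizer_S_le_R (M : Crd F (S : Subgroup G) P (zl (S : Subgroup G) P)) (h : HypJ S P) :
    normalizer ((S : Subgroup G) : Set G) ≤ normalizer (M.R : Set G) :=
  (normalizer_le_of_cj (F := jj) jj_cj (S : Subgroup G)).trans (normalizer_jj_le_R M h)

end res

end Cfsg.Agent.Omega.NO3S.Fld
end
end

-- part: Mrg/Omega/NO3S/Fld/LevBR
section
prune_inst 0xd00009001522020000180000a0003c42ea000102002b000161000a8007c0ad8185418721b4a0130211020b6400380048124400590010000000000200411900a0802a00021200a104260009809884000000000000000000000000000000000000000000000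
set_option linter.all false
open scoped Cfsg.Agent.FastGrp

section


/-!
# Fld at every level: the facts over `B` for a family of best offenders

`M : Crd F S P V`, `V = V_P`, `R = M.R`, `B = S ∩ C(R)`; `X` elementary abelian, `AA` a family of best offenders of `S` on
`X` (`OneLine.BFam S X L AA`), `P ≤ L ⊓ N(X)`, `Ω₁(Z(O₂(P))) ≤ X`, some `A ∈ AA` is not contained in `O₂(P)`.

* `off_le_centR` : an offender `A ≤ S` on `V` centralises `R`;
* `BL S P B R` : `BR` without `A(S)`; `bl_of`;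
* `BL.fam_card`, `fam_sup`, `fam_cut` : `|A| = |A ∩ Q| |B : Q|`, `A Q = B`, `C_X(A ∩ Q) = V C_X(A)`;
* `BL.zc_o2_fam` : (T6) `Ω₁(Z(Q)) = V`;
* `BL.cent_fam` : `C_X(AA) = R`.
-/

set_option autoImplicit false
set_option linter.unusedSectionVars false
set_option linter.unusedVariables false

namespace Cfsg.Agent.Omega.NO3S.Fld

open Subgroup Cfsg Cfsg.Agent.ZN Cfsg.Agent.ZN.ChoiceBase Cfsg.Agent.Omega.MinPar
open Cfsg.Agent.ZN.ChoiceSit (Syl o2_le_syl)
open Cfsg.Agent.Omega.SQ1.Bau (elem_comm elem_sq mem_sup_comm card_sup_comm mem_sup_norm)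
open Cfsg.Agent.PLocal.ElemAbSup Cfsg.Agent.PLocal.ThompsonJ
open Cfsg.Agent.MinSimple.VModule (zc_le zc_le_zl zl_le le_o2 le_normalizer_zl)
open Cfsg.Agent.Omega.FFThm (ElemM)
open Cfsg.Agent.Omega.NO3S.OneLine (conj_mem card_mul_relIndex exists_fixed zc_elem o2_le card_sup_norm BFam
  mem_cent_sSup)

universe u

variable {G : Type u} [Group G]

namespace Crd

variable {F : Type*} [Field F] {S P V : Subgroup G} (M : Crd F S P V)

theorem two_le_fix [Finite F] (φ : F ≃+* F) : 2 ≤ Nat.card {x : F // φ x = x} := by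
  have h4 : Nat.card (Fin 2) ≤ Nat.card {x : F // φ x = x} := by
    refine Nat.card_le_card_of_injective (fun i : Fin 2 => (if i = 0 then ⟨0, map_zero φ⟩ else ⟨1, map_one φ⟩ :
      {x : F // φ x = x})) ?_
    intro i j hij
    fin_cases i <;> fin_cases j
    · rfl
    · exact absurd (congrArg Subtype.val hij) (by simp)
    · exact absurd (congrArg Subtype.val hij) (by simp)
    · rfl
  simpa using h4

/-- **An offender on `V` centralises `R`.** -/
theorem off_le_centR [Finite G] [Finite F] [CharP F 2] {A : Subgroup G} (hAS : A ≤ S) (hE : ElemM V A)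
    (hoff : Nat.card V * Nat.card ↥(A ⊓ centralizer (V : Set G)) ≤
      Nat.card A * Nat.card ↥(V ⊓ centralizer (A : Set G))) :
    A ≤ centralizer (M.R : Set G) := by
  by_contra hn
  have hVR : centralizer (V : Set G) ≤ centralizer (M.R : Set G) := centralizer_le M.R_le
  have hsq : ∀ a ∈ A, a ^ 2 ∈ centralizer (M.R : Set G) := fun a ha => hVR (hE.sq a ha)
  obtain ⟨φ, h1, h2, h3⟩ := M.exists_phi hAS hsq hn
  obtain ⟨a, ha, haR⟩ := SetLike.not_le_iff_exists.1 hn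
  obtain ⟨c, hc⟩ := h3 a ha haR
  have hq := card_fixed h1 h2
  have hr2 := two_le_fix φ
  set r := Nat.card {x : F // φ x = x} with hr
  have hD2 := M.relIndex_two hAS hsq hn
  set D := A ⊓ centralizer (M.R : Set G) with hD
  have hcD : Nat.card D * 2 = Nat.card A := by
    have h4 := card_mul_relIndex (inf_le_left : D ≤ A)
    have h5 : D.relIndex A = 2 := by rw [hD, inf_relIndex_left, hD2]
    rwa [h5] at h4
  have hp : 0 < Nat.card ↥(A ⊓ centralizer (V : Set G)) := Nat.card_pos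
  have hVc := M.card_V
  by_cases hDV : D ≤ centralizer (V : Set G)
  · have h4 : A ⊓ centralizer (V : Set G) = D :=
      le_antisymm (le_inf inf_le_left (inf_le_right.trans hVR)) (le_inf inf_le_left hDV)
    have h5 : Nat.card ↥(V ⊓ centralizer (A : Set G)) ≤ Nat.card F :=
      (Subgroup.card_le_of_le (inf_le_inf_left _ (centralizer_le (Set.singleton_subset_iff.2 ha)))).trans
        (M.card_fix_le hc h1 h2)
    rw [h4, hVc, ← hcD] at hoff
    rw [h4] at hp
    have h6 : Nat.card D * (Nat.card F * Nat.card F) ≤ Nat.card D * (2 * Nat.card F) := by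
      calc Nat.card D * (Nat.card F * Nat.card F) = Nat.card F * Nat.card F * Nat.card D := mul_comm _ _
        _ ≤ _ := hoff
        _ ≤ Nat.card D * 2 * Nat.card F := Nat.mul_le_mul_left _ h5
        _ = _ := by ring
    have h7 := Nat.le_of_mul_le_mul_left h6 hp
    have h8 : Nat.card F ≤ 2 := Nat.le_of_mul_le_mul_right h7 Nat.card_pos
    rw [← hq] at h8
    have : 2 * 2 ≤ r * r := Nat.mul_le_mul hr2 hr2
    omega
  · have hDB : D ≤ M.B := le_inf (inf_le_left.trans hAS) inf_le_right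
    have h4 := M.relIndex_sq_le hDB hc h1 h2 fun d hd => hE.comm a ha d hd.1
    rw [← hq] at h4
    have h5 := Nat.mul_self_le_mul_self_iff.1 h4
    have h6 : Nat.card ↥(V ⊓ centralizer (A : Set G)) ≤ r := by
      obtain ⟨d, hd, hdV⟩ := SetLike.not_le_iff_exists.1 hDV
      have h7 : V ⊓ centralizer (A : Set G) ≤ M.R ⊓ centralizer ({a} : Set G) := by
        rintro v ⟨hv, hvA⟩
        refine ⟨M.fix (hDB hd).1 (hDB hd).2 hdV hv (mem_centralizer_iff.1 hvA d hd.1),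
          mem_centralizer_singleton_iff.2 (mem_centralizer_iff.1 hvA a ha).symm⟩
      have h8 := Subgroup.card_le_of_le h7
      rwa [M.card_fixR hc, ← hr] at h8
    have h7 : Nat.card D ≤ Nat.card ↥(A ⊓ centralizer (V : Set G)) * r := by
      have h8 := card_mul_relIndex (inf_le_left : D ⊓ centralizer (V : Set G) ≤ D)
      rw [inf_relIndex_left] at h8
      rw [← h8]
      refine Nat.mul_le_mul (Subgroup.card_le_of_le ?_) h5
      exact le_inf (inf_le_left.trans inf_le_left) inf_le_right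
    rw [hVc] at hoff
    set C := Nat.card ↥(A ⊓ centralizer (V : Set G)) with hC
    have h8 : C * (Nat.card F * Nat.card F) ≤ C * (2 * Nat.card F) := by
      calc C * (Nat.card F * Nat.card F) = Nat.card F * Nat.card F * C := mul_comm _ _
        _ ≤ _ := hoff
        _ ≤ Nat.card A * r := Nat.mul_le_mul_left _ h6
        _ ≤ C * r * 2 * r := Nat.mul_le_mul_right _ (by rw [← hcD]; exact Nat.mul_le_mul_right _ h7)
        _ = C * (2 * (r * r)) := by ring
        _ = _ := by rw [hq]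
    have h9 := Nat.le_of_mul_le_mul_left h8 hp
    have h10 : Nat.card F ≤ 2 := Nat.le_of_mul_le_mul_right h9 Nat.card_pos
    rw [← hq] at h10
    have : 2 * 2 ≤ r * r := Nat.mul_le_mul hr2 hr2
    omega

end Crd

/-- `BR` without `A(S)`. -/
structure BL (S P B R : Subgroup G) : Prop where
  star : IsParS S P
  BS : B ≤ S
  QB : o2 P ≤ B
  RV : R ≤ zl S P
  RS : S ≤ normalizer (R : Set G)
  cB : ∀ b ∈ B, ∀ r ∈ R, b * r = r * b
  fix : ∀ a ∈ B, a ∉ o2 P → ∀ v ∈ zl S P, a * v = v * a → v ∈ R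
  comm : ∀ a ∈ B, ∀ v ∈ zl S P, a * v * a⁻¹ * v⁻¹ ∈ R
  card : Nat.card (zl S P) = Nat.card R * (o2 P).relIndex B

variable [Finite G] {S : Sylow 2 G} {P B R : Subgroup G}

theorem bl_of {F : Type*} [Field F] [Finite F] [CharP F 2] (hG : IsCharacteristicTwoType G)
    (hP : IsParS (S : Subgroup G) P) (M : Crd F (S : Subgroup G) P (zl (S : Subgroup G) P)) :
    BL (S : Subgroup G) P M.B M.R :=
  let h := br_of hG hP M
  ⟨h.star, h.BS, h.QB, h.RV, h.RS, h.cB, h.fix, h.comm, h.card⟩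

namespace BL

variable (hG : IsCharacteristicTwoType G) (h : BL (S : Subgroup G) P B R)
include hG h

theorem zl_le_zc : zl (S : Subgroup G) P ≤ zc (o2 P) := h.star.isLoc.zl_le S hG

theorem zl_le_o2 : zl (S : Subgroup G) P ≤ o2 P := (zl_le_zc hG h).trans (zc_le _)

theorem comm_o2 : ∀ a ∈ o2 P, ∀ v ∈ zl (S : Subgroup G) P, a * v = v * a := fun a ha v hv =>
  (mem_zc.1 (zl_le_zc hG h hv)).2.2 a ha

omit hG in
/-- `C_V(A) = R` for `A ≤ B`, `A ≰ O₂(P)` -/
theorem cent_eq {A : Subgroup G} (hA : A ≤ B) (hAQ : ¬ A ≤ o2 P) :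
    zl (S : Subgroup G) P ⊓ centralizer (A : Set G) = R := by
  apply le_antisymm
  · rintro v ⟨hvV, hvA⟩
    obtain ⟨a, ha, haQ⟩ := SetLike.not_le_iff_exists.1 hAQ
    exact h.fix a (hA ha) haQ v hvV (mem_centralizer_iff.1 hvA a ha)
  · exact le_inf h.RV fun z hz => mem_centralizer_iff.2 fun a ha => h.cB a (hA ha) z hz

theorem inf_cent {A : Subgroup G} (hA : A ≤ (S : Subgroup G)) :
    A ⊓ centralizer (zl (S : Subgroup G) P : Set G) = A ⊓ o2 P := by
  rw [← IsParS.inf_centralizer S hG h.star, ← inf_assoc, inf_eq_left.2 hA]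

omit hG in
/-- `|A| ≤ |A ∩ Q| |B : Q|` -/
theorem card_le {A : Subgroup G} (hA : A ≤ B) : Nat.card A ≤ Nat.card ↥(A ⊓ o2 P) * (o2 P).relIndex B := by
  have h1 := card_mul_relIndex (inf_le_left : A ⊓ o2 P ≤ A)
  rw [inf_relIndex_left] at h1
  rw [← h1]
  refine Nat.mul_le_mul_left _ (relIndex_le_of_le_right hA ?_)
  rw [relIndex]
  exact Subgroup.index_ne_zero_of_finite

/-- An offender `A ≤ B` on `V`, `A ≰ O₂(P)`: `|A| = |A ∩ Q| |B : Q|` -/
theorem off_card {A : Subgroup G} (hA : A ≤ B) (hAQ : ¬ A ≤ o2 P)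
    (ho : Nat.card (zl (S : Subgroup G) P) * Nat.card ↥(A ⊓ centralizer (zl (S : Subgroup G) P : Set G)) ≤
      Nat.card A * Nat.card ↥(zl (S : Subgroup G) P ⊓ centralizer (A : Set G))) :
    Nat.card A = Nat.card ↥(A ⊓ o2 P) * (o2 P).relIndex B := by
  refine le_antisymm (card_le h hA) ?_
  rw [inf_cent hG h (hA.trans h.BS), cent_eq h hA hAQ, h.card] at ho
  have hp : 0 < Nat.card R := Nat.card_pos
  refine Nat.le_of_mul_le_mul_right ?_ hp
  calc _ = Nat.card R * (o2 P).relIndex B * Nat.card ↥(A ⊓ o2 P) := by ring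
    _ ≤ _ := ho

omit hG in
theorem B_norm : B ≤ normalizer (o2 P : Set G) :=
  (h.BS.trans h.star.le).trans (MinSimple.VModule.le_normalizer_o2 P)

omit hG in
/-- `B = A Q` -/
theorem off_sup {A : Subgroup G} (hA : A ≤ B)
    (hc : Nat.card A = Nat.card ↥(A ⊓ o2 P) * (o2 P).relIndex B) : A ⊔ o2 P = B := by
  refine Subgroup.eq_of_le_of_card_ge (sup_le hA h.QB) ?_
  have h1 := card_sup_norm (H := A) (N := o2 P) (hA.trans h.B_norm)
  have h3 := card_mul_relIndex h.QB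
  rw [hc] at h1
  have hp : 0 < Nat.card ↥(A ⊓ o2 P) := Nat.card_pos
  have e : Nat.card ↥(A ⊔ o2 P) * Nat.card ↥(A ⊓ o2 P) = Nat.card B * Nat.card ↥(A ⊓ o2 P) := by
    rw [h1, ← h3]; ring
  exact (Nat.eq_of_mul_eq_mul_right hp e).ge

variable {X L : Subgroup G} {AA : Set (Subgroup G)} (hB : BFam (S : Subgroup G) X L AA)
  (hX : ∀ x ∈ X, ∀ y ∈ X, x * y = y * x) (hAB : ∀ A ∈ AA, A ≤ B)
include hB hX hAB

theorem fam_card (hVX : zl (S : Subgroup G) P ≤ X) {A : Subgroup G} (hA : A ∈ AA) (hAQ : ¬ A ≤ o2 P) :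
    Nat.card A = Nat.card ↥(A ⊓ o2 P) * (o2 P).relIndex B :=
  off_card hG h (hAB A hA) hAQ (hB.off hX hVX hA)

theorem fam_sup (hVX : zl (S : Subgroup G) P ≤ X) {A : Subgroup G} (hA : A ∈ AA) (hAQ : ¬ A ≤ o2 P) :
    A ⊔ o2 P = B := off_sup h (hAB A hA) (fam_card hG h hB hX hAB hVX hA hAQ)

/-- (T6) `Ω₁(Z(Q)) = V`. -/
theorem zc_o2_fam (hR : ∀ y ∈ B, y ^ 2 = 1 → (∀ b ∈ B, b * y = y * b) → y ∈ R) (hQX : zc (o2 P) ≤ X)
    {A : Subgroup G} (hA : A ∈ AA) (hAQ : ¬ A ≤ o2 P) : zc (o2 P) = zl (S : Subgroup G) P := by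
  symm
  have hVX := (zl_le_zc hG h).trans hQX
  have hAB' := hAB A hA
  refine Subgroup.eq_of_le_of_card_ge (zl_le_zc hG h) ?_
  -- `C_Y(A) ≤ R`
  have h1 : zc (o2 P) ⊓ centralizer (A : Set G) ≤ R := by
    rintro y ⟨hyY, hyA⟩
    refine hR y (h.QB (mem_zc.1 hyY).1) (mem_zc.1 hyY).2.1 fun s hs => ?_
    rw [← fam_sup hG h hB hX hAB hVX hA hAQ] at hs
    obtain ⟨a, ha, x, hx, rfl⟩ := mem_sup_norm (hAB'.trans h.B_norm) hs
    have e1 := mem_centralizer_iff.1 hyA a ha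
    have e2 := (mem_zc.1 hyY).2.2 x hx
    calc a * x * y = a * (x * y) := mul_assoc _ _ _
      _ = (a * y) * x := by rw [e2, mul_assoc]
      _ = y * (a * x) := by rw [e1, mul_assoc]
  have h2 : A ⊓ o2 P ≤ A ⊓ centralizer (zc (o2 P) : Set G) :=
    inf_le_inf_left _ fun x hx => mem_centralizer_iff.2 fun y hy => ((mem_zc.1 hy).2.2 x hx).symm
  have h3 := hB.off hX hQX hA
  have h4 := fam_card hG h hB hX hAB hVX hA hAQ
  rw [h.card]
  have hp : 0 < Nat.card ↥(A ⊓ o2 P) := Nat.card_pos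
  refine Nat.le_of_mul_le_mul_right ?_ hp
  calc Nat.card (zc (o2 P)) * Nat.card ↥(A ⊓ o2 P)
      ≤ Nat.card (zc (o2 P)) * Nat.card ↥(A ⊓ centralizer (zc (o2 P) : Set G)) :=
        Nat.mul_le_mul_left _ (Subgroup.card_le_of_le h2)
    _ ≤ Nat.card A * Nat.card ↥(zc (o2 P) ⊓ centralizer (A : Set G)) := h3
    _ ≤ Nat.card A * Nat.card R := Nat.mul_le_mul_left _ (Subgroup.card_le_of_le h1)
    _ = _ := by rw [h4]; ring

/-- `|A ∩ Q| |C_X(A ∩ Q)| = |A| |C_X(A)|` and `C_X(A ∩ Q) = V C_X(A)`. -/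
theorem fam_cut (hVX : zl (S : Subgroup G) P ≤ X) {A : Subgroup G} (hA : A ∈ AA) (hAQ : ¬ A ≤ o2 P) :
    Nat.card ↥(A ⊓ o2 P) * Nat.card ↥(X ⊓ centralizer ((A ⊓ o2 P : Subgroup G) : Set G)) =
        Nat.card A * Nat.card ↥(X ⊓ centralizer (A : Set G)) ∧
      zl (S : Subgroup G) P ⊔ (X ⊓ centralizer (A : Set G)) =
        X ⊓ centralizer ((A ⊓ o2 P : Subgroup G) : Set G) := by
  have hAS := hAB A hA
  have hc := fam_card hG h hB hX hAB hVX hA hAQ
  have hle : zl (S : Subgroup G) P ⊔ (X ⊓ centralizer (A : Set G)) ≤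
      X ⊓ centralizer ((A ⊓ o2 P : Subgroup G) : Set G) := by
    refine sup_le (le_inf hVX fun v hv => mem_centralizer_iff.2 fun a ha => comm_o2 hG h a ha.2 v hv) ?_
    exact inf_le_inf_left _ (centralizer_le inf_le_left)
  have h1 := card_sup_comm (A := zl (S : Subgroup G) P) (B := X ⊓ centralizer (A : Set G))
    fun v hv x hx => hX v (hVX hv) x hx.1
  have h2 : zl (S : Subgroup G) P ⊓ (X ⊓ centralizer (A : Set G)) = R := by
    rw [← cent_eq h hAS hAQ, ← inf_assoc, inf_eq_left.2 hVX]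
  rw [h2, h.card] at h1
  have hp : 0 < Nat.card R := Nat.card_pos
  have h3 : Nat.card ↥(zl (S : Subgroup G) P ⊔ (X ⊓ centralizer (A : Set G))) =
      (o2 P).relIndex B * Nat.card ↥(X ⊓ centralizer (A : Set G)) := by
    refine Nat.eq_of_mul_eq_mul_right hp ?_
    rw [h1]; ring
  have h4 : Nat.card ↥(A ⊓ o2 P) * Nat.card ↥(X ⊓ centralizer ((A ⊓ o2 P : Subgroup G) : Set G)) ≤
      Nat.card A * Nat.card ↥(X ⊓ centralizer (A : Set G)) := by
    refine hB.best A hA _ ?_ inf_le_left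
    rw [← inf_cent hG h (hAS.trans h.BS)]
    exact inf_le_inf_left _ (centralizer_le hVX)
  have h5 := Nat.mul_le_mul_left (Nat.card ↥(A ⊓ o2 P)) (Subgroup.card_le_of_le hle)
  have h6 : Nat.card ↥(A ⊓ o2 P) * Nat.card ↥(zl (S : Subgroup G) P ⊔ (X ⊓ centralizer (A : Set G))) =
      Nat.card A * Nat.card ↥(X ⊓ centralizer (A : Set G)) := by
    rw [h3, hc]; ring
  have h7 := le_antisymm h4 (h6 ▸ h5)
  refine ⟨h7, Subgroup.eq_of_le_of_card_ge hle ?_⟩
  have hp' : 0 < Nat.card ↥(A ⊓ o2 P) := Nat.card_pos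
  exact Nat.le_of_mul_le_mul_left (h7.trans h6.symm).le hp'

/-- `Y = C_X(members of AA in Q)` is normalised by `P`, contains `V` and is contained in `V C_X(A)`. -/
theorem exists_Y (hPX : P ≤ normalizer (X : Set G)) (hPL : P ≤ L) (hVX : zl (S : Subgroup G) P ≤ X) :
    ∃ Y : Subgroup G, Y ≤ X ∧ P ≤ normalizer (Y : Set G) ∧ zl (S : Subgroup G) P ≤ Y ∧
      X ⊓ centralizer ((sSup AA : Subgroup G) : Set G) ≤ Y ∧
      ∀ A ∈ AA, ¬ A ≤ o2 P → Y ≤ zl (S : Subgroup G) P ⊔ (X ⊓ centralizer (A : Set G)) := by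
  have hQS := o2_le S h.star.toIsPar
  have hSP : (S : Subgroup G) ≤ P := h.star.le
  refine ⟨X ⊓ centralizer ((sSup {B | B ∈ AA ∧ B ≤ o2 P} : Subgroup G) : Set G), inf_le_left, ?_, ?_, ?_, ?_⟩
  · intro p hp
    apply mem_normalizer_of_cj_le
    rw [cj_inf, cj_eq_of_mem_normalizer (hPX hp)]
    refine inf_le_inf_left _ ?_
    intro x hx
    rw [mem_cj, mem_cent_sSup] at hx
    rw [mem_cent_sSup]
    rintro B ⟨hB', hBQ⟩ b hb
    have h0 : cj p⁻¹ B ≤ o2 P := by
      have h2 := cj_mono p⁻¹ hBQ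
      rwa [cj_eq_of_mem_normalizer (MinSimple.VModule.le_normalizer_o2 P (inv_mem hp))] at h2
    have h2 := hB.conj B hB' p⁻¹ (hPL (inv_mem hp)) (h0.trans hQS)
    have h3 := hx _ ⟨h2, h0⟩ (p⁻¹ * b * p) (by rw [mem_cj]; have e : p⁻¹⁻¹ * (p⁻¹ * b * p) * p⁻¹ = b := by group
                                               rwa [e])
    calc b * x = p * ((p⁻¹ * b * p) * (p⁻¹ * x * p)) * p⁻¹ := by group
      _ = p * ((p⁻¹ * x * p) * (p⁻¹ * b * p)) * p⁻¹ := by rw [h3]
      _ = x * b := by group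
  · exact fun v hv => ⟨hVX hv, mem_cent_sSup.2 fun B hB' b hb => comm_o2 hG h b (hB'.2 hb) v hv⟩
  · exact fun y hy => ⟨hy.1, mem_cent_sSup.2 fun B hB' => mem_cent_sSup.1 hy.2 B hB'.1⟩
  · intro A hA hAQ
    obtain ⟨h1, h2⟩ := fam_cut hG h hB hX hAB hVX hA hAQ
    obtain ⟨B', hB', h3⟩ := hB.cut A hA (A ⊓ o2 P) (by
      rw [← inf_cent hG h (hB.le A hA)]
      exact inf_le_inf_left _ (centralizer_le hVX)) inf_le_left h1
    rw [h2]
    have hB'Q : B' ≤ o2 P := by
      intro b hb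
      have h4 : b ∈ (A ⊓ o2 P) ⊔ centralizer (X : Set G) := h3 ▸ mem_sup_left hb
      have h5 : A ⊓ o2 P ≤ normalizer (centralizer (X : Set G) : Set G) := by
        intro a ha
        apply mem_normalizer_of_cj_le
        rw [cj_centralizer, cj_eq_of_mem_normalizer (hPX (hSP (hB.le A hA ha.1)))]
      obtain ⟨a, ha, c, hc, rfl⟩ := mem_sup_norm h5 h4
      refine mul_mem ha.2 ?_
      have h6 : c ∈ (S : Subgroup G) := by
        have := mul_mem (inv_mem (hB.le A hA ha.1)) (hB.le B' hB' hb)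
        rwa [inv_mul_cancel_left] at this
      rw [← IsParS.inf_centralizer S hG h.star]
      exact ⟨h6, centralizer_le hVX hc⟩
    refine fun x hx => ⟨hx.1, mem_centralizer_iff.2 fun a ha => ?_⟩
    have h4 : a ∈ B' ⊔ centralizer (X : Set G) := by rw [h3]; exact mem_sup_left ha
    have h5 : B' ⊔ centralizer (X : Set G) ≤ centralizer {x} := by
      refine sup_le (fun b hb => ?_) (fun c hc => ?_)
      · rw [mem_centralizer_singleton_iff]
        exact mem_cent_sSup.1 hx.2 B' ⟨hB', hB'Q⟩ b hb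
      · rw [mem_centralizer_singleton_iff]
        exact (mem_centralizer_iff.1 hc x hx.1).symm
    exact mem_centralizer_singleton_iff.1 (h5 h4)

/-- **`C_X(AA) = R`.** -/
theorem cent_fam (hR : ∀ y ∈ B, y ^ 2 = 1 → (∀ b ∈ B, b * y = y * b) → y ∈ R) (hXsq : ∀ x ∈ X, x ^ 2 = 1)
    (hXS : X ≤ (S : Subgroup G)) (hPX : P ≤ normalizer (X : Set G)) (hPL : P ≤ L) (hQX : zc (o2 P) ≤ X)
    (hsq : Nat.card (zl (S : Subgroup G) P) = Nat.card R ^ 2) {x : G} (hx : x ∈ P) (hxZ : R ⊓ cj x R = ⊥)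
    {A : Subgroup G} (hA : A ∈ AA) (hAQ : ¬ A ≤ o2 P) :
    X ⊓ centralizer ((sSup AA : Subgroup G) : Set G) = R := by
  have hVX := (zl_le_zc hG h).trans hQX
  have hSP : (S : Subgroup G) ≤ P := h.star.le
  have hzo2 := zc_o2_fam hG h hB hX hAB hR hQX hA hAQ
  have hPV : P ≤ normalizer (zl (S : Subgroup G) P : Set G) := le_normalizer_zl _ _
  obtain ⟨Y, hYX, hPY, hVY, hYc', hYA'⟩ := exists_Y hG h hB hX hAB hPX hPL hVX
  have hYle := hYA' A hA hAQ
  set V := zl (S : Subgroup G) P with hV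
  have hYc : ∀ y ∈ Y, ∀ w ∈ Y, y * w = w * y := fun y hy w hw => hX y (hYX hy) w (hYX hw)
  have hAB' := hAB A hA
  refine le_antisymm ?_ (le_inf (h.RV.trans hVX) fun z hz => mem_cent_sSup.2 fun B' hB' b hb =>
    h.cB b (hAB B' hB' hb) z hz)
  -- `C_Y(A)`
  let YA : Subgroup G := Y ⊓ centralizer (A : Set G)
  have hYsplit : ∀ y ∈ Y, ∃ v ∈ V, ∃ c ∈ YA, y = v * c := by
    intro y hy
    obtain ⟨v, hv, a, ha, rfl⟩ := mem_sup_comm (A := V) (B := X ⊓ centralizer (A : Set G))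
      (fun v hv a ha => hX v (hVX hv) a ha.1) (hYle hy)
    refine ⟨v, hv, a, ⟨?_, ha.2⟩, rfl⟩
    have h1 := mul_mem (inv_mem (hVY hv)) hy
    rwa [inv_mul_cancel_left] at h1
  have hVYA : V ⊓ YA = R := by
    apply le_antisymm
    · rintro v ⟨hv, -, hvA⟩
      rw [← cent_eq h hAB' hAQ]
      exact ⟨hv, hvA⟩
    · refine le_inf h.RV (le_inf (h.RV.trans hVY) fun z hz => ?_)
      exact mem_centralizer_iff.2 fun a ha => h.cB a (hAB' ha) z hz
  have hVsupYA : V ⊔ YA = Y := by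
    apply le_antisymm (sup_le hVY inf_le_left)
    intro y hy
    obtain ⟨v, hv, c, hc, rfl⟩ := hYsplit y hy
    exact mul_mem_sup hv hc
  have hcYA : Nat.card Y * Nat.card R = Nat.card V * Nat.card YA := by
    have h1 := card_sup_comm (A := V) (B := YA) fun v hv c hc => hYc v (hVY hv) c hc.1
    rwa [hVsupYA, hVYA] at h1
  have hYY : Nat.card Y = Nat.card R * Nat.card YA := by
    have hp : 0 < Nat.card R := Nat.card_pos
    rw [hsq] at hcYA
    have e : Nat.card Y * Nat.card R = Nat.card R * Nat.card YA * Nat.card R := by rw [hcYA]; ring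
    exact Nat.eq_of_mul_eq_mul_right hp e
  have hxY : cj x Y = Y := cj_eq_of_mem_normalizer (hPY hx)
  have hxV : cj x V = V := cj_eq_of_mem_normalizer (hPV hx)
  let YB : Subgroup G := cj x YA
  have hYB : YB ≤ Y := by
    have h1 : cj x YA ≤ cj x Y := cj_mono x inf_le_left
    rwa [hxY] at h1
  have hcYB : Nat.card YB = Nat.card YA := card_cj _ _
  let C : Subgroup G := YA ⊓ YB
  have hVC : V ⊓ C = ⊥ := by
    rw [eq_bot_iff, ← hxZ]
    rintro v ⟨hv, hvA, hvB⟩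
    refine ⟨hVYA ▸ ⟨hv, hvA⟩, ?_⟩
    rw [← hVYA, cj_inf, hxV]
    exact ⟨hv, hvB⟩
  have hCcard : Nat.card Y ≤ Nat.card V * Nat.card C := by
    have h1 := card_sup_comm (A := YA) (B := YB) fun a ha b hb => hYc a ha.1 b (hYB hb)
    have h2 : Nat.card ↥(YA ⊔ YB) ≤ Nat.card Y := Subgroup.card_le_of_le (sup_le inf_le_left hYB)
    have h3 : Nat.card YA * Nat.card YB ≤ Nat.card Y * Nat.card C := by
      rw [← h1]
      exact Nat.mul_le_mul_right _ h2
    rw [hcYB] at h3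
    have hp : 0 < Nat.card YA := Nat.card_pos
    rw [hYY, hsq]
    rw [hYY] at h3
    have e : Nat.card YA * Nat.card YA ≤ Nat.card YA * (Nat.card R * Nat.card C) := by
      calc _ ≤ Nat.card R * Nat.card YA * Nat.card C := h3
        _ = _ := by ring
    have h4 := Nat.le_of_mul_le_mul_left e hp
    calc Nat.card R * Nat.card YA ≤ Nat.card R * (Nat.card R * Nat.card C) := Nat.mul_le_mul_left _ h4
      _ = Nat.card R ^ 2 * Nat.card C := by ring
  have hVsupC : V ⊔ C = Y := by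
    refine Subgroup.eq_of_le_of_card_ge (sup_le hVY (inf_le_left.trans inf_le_left)) ?_
    have h1 := card_sup_comm (A := V) (B := C) fun v hv c hc => hYc v (hVY hv) c hc.1.1
    rw [hVC, Subgroup.card_bot, mul_one] at h1
    rw [h1]
    exact hCcard
  -- the final argument
  by_contra hne
  have hBp : IsPGroup 2 B := S.isPGroup'.to_le h.BS
  -- `C_X(AA) ≤ B`
  have hsub : X ⊓ centralizer ((sSup AA : Subgroup G) : Set G) ≤ B := by
    intro y hy
    obtain ⟨v, hv, c, hc, hyc⟩ := hYsplit y (hYc' hy)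
    have hyS : y ∈ (S : Subgroup G) := hXS hy.1
    have hV' : y ∈ centralizer (V : Set G) := mem_centralizer_iff.2 fun w hw => hX w (hVX hw) y hy.1
    have h1 : y ∈ o2 P := by
      rw [← IsParS.inf_centralizer S hG h.star]
      exact ⟨hyS, hV'⟩
    exact h.QB h1
  -- `S` normalises `C_X(AA)`
  have hSn : (S : Subgroup G) ≤
      normalizer ((X ⊓ centralizer ((sSup AA : Subgroup G) : Set G) : Subgroup G) : Set G) := by
    intro s hs
    apply mem_normalizer_of_cj_le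
    rw [cj_inf, cj_eq_of_mem_normalizer (hPX (hSP hs))]
    refine inf_le_inf_left _ ?_
    intro y hy
    rw [mem_cj, mem_cent_sSup] at hy
    rw [mem_cent_sSup]
    intro B hB' b hb
    have h1 : cj s⁻¹ B ≤ (S : Subgroup G) := by
      have h2 := cj_mono s⁻¹ (hB.le B hB')
      rwa [cj_eq_of_mem_normalizer (le_normalizer (inv_mem hs) : s⁻¹ ∈ normalizer ((S : Subgroup G) : Set G))] at h2
    have h2 := hB.conj B hB' s⁻¹ (hPL (hSP (inv_mem hs))) h1
    have h3 := hy _ h2 (s⁻¹ * b * s) (by rw [mem_cj]; have e : s⁻¹⁻¹ * (s⁻¹ * b * s) * s⁻¹ = b := by group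
                                         rwa [e])
    calc b * y = s * ((s⁻¹ * b * s) * (s⁻¹ * y * s)) * s⁻¹ := by group
      _ = s * ((s⁻¹ * y * s) * (s⁻¹ * b * s)) * s⁻¹ := by rw [h3]
      _ = y * b := by group
  obtain ⟨y, hy, hyZ, hyS⟩ := exists_fixed (M := R) hBp hsub (h.BS.trans hSn) hne
  have hyY : y ∈ Y := hYc' hy
  have hyA1 : y ∈ YA := ⟨hyY, mem_centralizer_iff.2 fun a ha => mem_cent_sSup.1 hy.2 A hA a ha⟩
  obtain ⟨z, hz, c, hc, hyzc⟩ : ∃ z ∈ R, ∃ c ∈ C, y = z * c := by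
    rw [← hVsupC] at hyY
    obtain ⟨v, hv, c, hc, rfl⟩ := mem_sup_comm (A := V) (B := C)
      (fun v hv c hc => hYc v (hVY hv) c hc.1.1) hyY
    refine ⟨v, ?_, c, hc, rfl⟩
    rw [← hVYA]
    refine ⟨hv, ?_⟩
    have h1 := mul_mem hyA1 (inv_mem hc.1)
    rwa [mul_inv_cancel_right] at h1
  have hcZ : c ∉ R := fun h1 => hyZ (hyzc ▸ mul_mem hz h1)
  have hcY : c ∈ Y := hc.1.1
  have hcQ0 : c ∈ o2 P := by
    rw [← IsParS.inf_centralizer S hG h.star]
    exact ⟨hXS (hYX hcY), mem_centralizer_iff.2 fun w hw => hX w (hVX hw) c (hYX hcY)⟩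
  have hcS : ∀ s ∈ B, s * c * s⁻¹ * c⁻¹ ∈ R := by
    intro s hs
    have h1 := hyS s hs
    have h2 : s * z = z * s := h.cB s hs z hz
    have e : s * y * s⁻¹ * y⁻¹ = s * c * s⁻¹ * c⁻¹ := by
      rw [hyzc]
      have h4 : s * (z * c) * s⁻¹ * (z * c)⁻¹ = (s * z) * c * s⁻¹ * c⁻¹ * z⁻¹ := by group
      have h5 : z * (s * c * s⁻¹ * c⁻¹) = s * c * s⁻¹ * c⁻¹ * z := by
        have h6 : s * c * s⁻¹ * c⁻¹ ∈ B :=
          mul_mem (mul_mem (mul_mem hs (h.QB hcQ0)) (inv_mem hs)) (inv_mem (h.QB hcQ0))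
        exact (h.cB _ h6 z hz).symm
      rw [h4, h2]
      calc z * s * c * s⁻¹ * c⁻¹ * z⁻¹ = z * (s * c * s⁻¹ * c⁻¹) * z⁻¹ := by group
        _ = s * c * s⁻¹ * c⁻¹ := by rw [h5]; group
    rwa [e] at h1
  -- `c` centralises `Q`
  obtain ⟨a₀, ha₀, ha₀Q⟩ := SetLike.not_le_iff_exists.1 hAQ
  have hcQ : ∀ t ∈ o2 P, t * c = c * t := by
    intro t ht
    have hbP : x * a₀ * x⁻¹ ∈ P := mul_mem (mul_mem hx (hSP (hB.le A hA ha₀))) (inv_mem hx)
    set b := x * a₀ * x⁻¹ with hb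
    have hbc : b * c = c * b := by
      have h1 : c ∈ YB := hc.2
      have h2 : c ∈ cj x (centralizer (A : Set G)) := cj_mono x inf_le_right h1
      rw [mem_cj, mem_centralizer_iff] at h2
      have h3 := h2 a₀ ha₀
      have h4 : x * (a₀ * (x⁻¹ * c * x)) * x⁻¹ = x * (x⁻¹ * c * x * a₀) * x⁻¹ := by rw [h3]
      rw [hb]
      calc x * a₀ * x⁻¹ * c = x * (a₀ * (x⁻¹ * c * x)) * x⁻¹ := by group
        _ = x * (x⁻¹ * c * x * a₀) * x⁻¹ := h4
        _ = c * (x * a₀ * x⁻¹) := by group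
    set e := t * c * t⁻¹ * c⁻¹ with he
    have heZ : e ∈ R := hcS t (h.QB ht)
    have heV : e ∈ V := h.RV heZ
    have heZ' : b * e * b⁻¹ ∈ R := by
      have h1 : b * t * b⁻¹ ∈ o2 P := conj_mem (MinSimple.VModule.le_normalizer_o2 P) hbP ht
      have h2 := hcS _ (h.QB h1)
      have h3 : b * c * b⁻¹ = c := by rw [hbc]; group
      have h4 : b * e * b⁻¹ = (b * t * b⁻¹) * (b * c * b⁻¹) * (b * t * b⁻¹)⁻¹ * (b * c * b⁻¹)⁻¹ := by
        rw [he]; group
      rw [h4, h3]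
      exact h2
    -- `[b, e] ∈ R ∩ R^x = 1`
    have h1 : b * e * b⁻¹ * e⁻¹ ∈ R ⊓ cj x R := by
      refine mem_inf.2 ⟨mul_mem heZ' (inv_mem heZ), ?_⟩
      rw [mem_cj]
      have h2 : x⁻¹ * e * x ∈ V := by
        have := conj_mem hPV (inv_mem hx) heV
        rwa [inv_inv] at this
      have h3 := h.comm a₀ (hAB' ha₀) _ h2
      have h4 : x⁻¹ * (b * e * b⁻¹ * e⁻¹) * x = a₀ * (x⁻¹ * e * x) * a₀⁻¹ * (x⁻¹ * e * x)⁻¹ := by
        rw [hb]; group
      rw [h4]
      exact h3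
    rw [hxZ, mem_bot] at h1
    have h2 : e ∈ cj x R := by
      rw [mem_cj]
      have h3 : x⁻¹ * e * x ∈ V := by
        have := conj_mem hPV (inv_mem hx) heV
        rwa [inv_inv] at this
      refine h.fix a₀ (hAB' ha₀) ha₀Q _ h3 ?_
      have h4 : b * e = e * b := by
        have := mul_inv_eq_one.1 h1
        calc b * e = b * e * b⁻¹ * b := by group
          _ = e * b := by rw [this]
      have h5 : x⁻¹ * (b * e) * x = x⁻¹ * (e * b) * x := by rw [h4]
      calc a₀ * (x⁻¹ * e * x) = x⁻¹ * (b * e) * x := by rw [hb]; group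
        _ = x⁻¹ * (e * b) * x := h5
        _ = x⁻¹ * e * x * a₀ := by rw [hb]; group
    have h3 : e ∈ R ⊓ cj x R := ⟨heZ, h2⟩
    rw [hxZ, mem_bot, he] at h3
    have := mul_inv_eq_one.1 h3
    calc t * c = t * c * t⁻¹ * t := by group
      _ = c * t := by rw [this]
  have hcV : c ∈ V := by
    rw [← hzo2]
    exact mem_zc.2 ⟨hcQ0, hXsq c (hYX hcY), hcQ⟩
  have h1 : c ∈ V ⊓ C := ⟨hcV, hc⟩
  rw [hVC, mem_bot] at h1
  exact hcZ (h1 ▸ one_mem _)

end BL

end Cfsg.Agent.Omega.NO3S.Fld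

end

section


/-!
# Fld at the level `K`: the facts

`K` a level (`Level.Lev S K`), `K ≤ O₂(P)`, `A` a best offender of `S` on `X = Ω₁(Z(K))` with `A ≰ O₂(P)`,
`M : Crd F S P V`, `V = V_P`, `R = M.R`, `B = C_S(R)`.

* `LevF M K` : all members of `BO S K` are in `B`, (T6) `Ω₁(Z(O₂(P))) = V`, `C_X(BO S K) = R`;
* `levF` : this holds;
* `LevF.nxt` : `Ω₁(Z(nxt S K)) = R`; `LevF.NS` : `N_G(S) ≤ N_G(R)`; `LevF.NB` : `N_G(B) ≤ N_G(K)`.
-/

set_option autoImplicit false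
set_option linter.unusedSectionVars false

namespace Cfsg.Agent.Omega.NO3S.Fld

open Subgroup Cfsg Cfsg.Agent.ZN Cfsg.Agent.ZN.ChoiceBase Cfsg.Agent.Omega.MinPar
open Cfsg.Agent.Omega.SQ1.Bau (elem_comm elem_sq mem_sup_norm)
open Cfsg.Agent.MinSimple.VModule (zc_le zc_le_zl zl_le le_o2 le_normalizer_zl)
open Cfsg.Agent.Omega.NO3S.OneLine (zc_elem o2_le BFam bo bo_eq bo_fam mem_cent_sSup elemM_mono)
open Cfsg.Agent.Omega.NO3S.Level

universe u

variable {G : Type u} [Group G] [Finite G] {S : Sylow 2 G} {P K : Subgroup G}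
variable {F : Type*} [Field F] [Finite F] [CharP F 2]

/-- The best offenders on `Ω₁(Z(K))` form a family. -/
theorem fam_BO (T K : Subgroup G) : BFam T (zc K) (normalizer (zc K : Set G)) (BO T K) := by
  rw [bo_eq]; exact bo_fam T (zc K)

theorem zc_comm' (K : Subgroup G) : ∀ x ∈ zc K, ∀ y ∈ zc K, x * y = y * x := elem_comm (zc_elem K)

theorem bo_le_B (M : Crd F (S : Subgroup G) P (zl (S : Subgroup G) P)) (hV : zl (S : Subgroup G) P ≤ zc K)
    {A : Subgroup G} (hA : A ∈ BO (S : Subgroup G) K) : A ≤ M.B := by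
  have h1 := fam_BO (S : Subgroup G) K
  exact le_inf hA.1 (M.off_le_centR hA.1 (elemM_mono (h1.elem A hA) hV le_rfl) (h1.off (zc_comm' K) hV hA))

/-- The facts at the level `K`. -/
structure LevF (M : Crd F (S : Subgroup G) P (zl (S : Subgroup G) P)) (K : Subgroup G) : Prop where
  lev : Lev (S : Subgroup G) K
  le : K ≤ o2 P
  ex : ∃ A ∈ BO (S : Subgroup G) K, ¬ A ≤ o2 P
  bl : BL (S : Subgroup G) P M.B M.R
  VX : zl (S : Subgroup G) P ≤ zc K
  AB : ∀ A ∈ BO (S : Subgroup G) K, A ≤ M.B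
  zo : zc (o2 P) = zl (S : Subgroup G) P
  cent : zc K ⊓ centralizer ((sSup (BO (S : Subgroup G) K) : Subgroup G) : Set G) = M.R

theorem levF (hG : IsCharacteristicTwoType G) (hP : IsParS (S : Subgroup G) P)
    (M : Crd F (S : Subgroup G) P (zl (S : Subgroup G) P)) (hL : Lev (S : Subgroup G) K) (hK : K ≤ o2 P)
    {A : Subgroup G} (hA : A ∈ BO (S : Subgroup G) K) (hAQ : ¬ A ≤ o2 P) : LevF M K := by
  have hQS : o2 P ≤ (S : Subgroup G) := o2_le S hP.toIsPar
  have hQX : zc (o2 P) ≤ zc K := hL.zc_o2_le hK hQS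
  have hVX : zl (S : Subgroup G) P ≤ zc K := (hP.isLoc.zl_le S hG).trans hQX
  have hb := bl_of hG hP M
  have hAB : ∀ A ∈ BO (S : Subgroup G) K, A ≤ M.B := fun A hA => bo_le_B M hVX hA
  have hfam := fam_BO (S : Subgroup G) K
  have hPX : P ≤ normalizer (zc K : Set G) := (hL.le_norm_of_o2 hK hQS).trans (normalizer_le_zc K)
  have hVS : zl (S : Subgroup G) P ≤ (S : Subgroup G) := (hP.isLoc.zl_le S hG).trans ((zc_le _).trans hQS)
  have hR := M.mem_R_of_cent S.isPGroup' hVS (zc_le_zl _ _)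
  obtain ⟨x, hx, hx0⟩ := M.opp
  exact
    { lev := hL
      le := hK
      ex := ⟨A, hA, hAQ⟩
      bl := hb
      VX := hVX
      AB := hAB
      zo := BL.zc_o2_fam hG hb hfam (zc_comm' K) hAB hR hQX hA hAQ
      cent := BL.cent_fam hG hb hfam (zc_comm' K) hAB hR (elem_sq (zc_elem K)) ((zc_le K).trans hL.le) hPX hPX hQX
        (by rw [M.card_V_R, pow_two]) hx hx0 hA hAQ }

namespace LevF

variable {M : Crd F (S : Subgroup G) P (zl (S : Subgroup G) P)} (h : LevF M K)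
include h

theorem QS : o2 P ≤ (S : Subgroup G) := h.bl.QB.trans h.bl.BS

theorem KB : K ≤ M.B := h.le.trans h.bl.QB

theorem P_norm : P ≤ normalizer (K : Set G) := h.lev.le_norm_of_o2 h.le h.QS

/-- `Ω₁(Z(nxt S K)) = R` -/
theorem nxt : zc (nxt (S : Subgroup G) K) = M.R := by
  apply le_antisymm
  · intro x hx
    rw [← h.cent]
    refine ⟨h.lev.zc_le_zc (le_nxt h.lev.le) (nxt_le _ _) hx, mem_cent_sSup.2 fun B hB b hb => ?_⟩
    exact (ChoiceBase.mem_zc.1 hx).2.2 b (BO.le_nxt hB hb)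
  · intro x hx
    rw [← h.cent] at hx
    have h1 := ChoiceBase.mem_zc.1 hx.1
    refine ChoiceBase.mem_zc.2 ⟨le_nxt h.lev.le h1.1, h1.2.1, fun y hy => ?_⟩
    have h2 : Level.nxt (S : Subgroup G) K ≤ centralizer ({x} : Set G) := by
      refine sup_le ?_ (sSup_le fun B hB b hb => ?_)
      · rintro s ⟨-, hs⟩
        rw [mem_centralizer_singleton_iff]
        exact (mem_centralizer_iff.1 hs x hx.1).symm
      · rw [mem_centralizer_singleton_iff]
        exact mem_cent_sSup.1 hx.2 B hB b hb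
    exact mem_centralizer_singleton_iff.1 (h2 hy)

/-- `N_G(nxt S K) ≤ N_G(R)` -/
theorem norm_nxt : normalizer (Level.nxt (S : Subgroup G) K : Set G) ≤ normalizer (M.R : Set G) := by
  have h1 := normalizer_le_zc (Level.nxt (S : Subgroup G) K)
  rwa [h.nxt] at h1

/-- `N_G(S) ≤ N_G(R)` -/
theorem NS : normalizer ((S : Subgroup G) : Set G) ≤ normalizer (M.R : Set G) :=
  (h.lev.next.norm _ (nxt_le _ _) le_rfl).trans h.norm_nxt

/-- `N_G(B) ≤ N_G(K)` -/
theorem NB : normalizer (M.B : Set G) ≤ normalizer (K : Set G) := h.lev.norm _ h.KB h.bl.BS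

end LevF

/-- The facts at stage `n`. -/
theorem levF_of (hG : IsCharacteristicTwoType G) (hP : IsParS (S : Subgroup G) P)
    (M : Crd F (S : Subgroup G) P (zl (S : Subgroup G) P)) {n : ℕ} (h1 : lev (S : Subgroup G) n ≤ o2 P)
    (h2 : ¬ lev (S : Subgroup G) (n + 1) ≤ o2 P) : LevF M (lev (S : Subgroup G) n) := by
  obtain ⟨A, hA, hAQ⟩ : ∃ A ∈ BO (S : Subgroup G) (lev (S : Subgroup G) n), ¬ A ≤ o2 P := by
    by_contra hcon
    push Not at hcon
    apply h2
    show Level.nxt (S : Subgroup G) (lev (S : Subgroup G) n) ≤ o2 P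
    refine sup_le ?_ (sSup_le hcon)
    have h3 : zl (S : Subgroup G) P ≤ zc (lev (S : Subgroup G) n) :=
      (hP.isLoc.zl_le S hG).trans ((lev_isLev (S : Subgroup G) n).zc_o2_le h1 (hP.isLoc.o2_le S))
    rw [← IsParS.inf_centralizer S hG hP]
    exact inf_le_inf_left _ (centralizer_le h3)
  exact levF hG hP M (lev_isLev _ n) h1 hA hAQ

end Cfsg.Agent.Omega.NO3S.Fld

end
end

-- part: Mrg/Omega/NO3S/Fld/RedMod
section
prune_inst 0xc00008000100020000000000a0000000180001000000000100000a000200a10005008100048000021002020000000028124400100000000000000000000104218002000010000000060009000004000000000000000000000000000000000000000000000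
set_option linter.all false
open scoped Cfsg.Agent.FastGrp

-- merged: Cfsg.Agent.Omega.NO3S.Fld.RedFld
section

/-!
# Fld, THEOREM RED (#15355), part (1): the layers of the field `F` under an automorphism `σ` of order `2^ε`

`dl σ = σ - 1`, `K σ s = ker (σ - 1)^s`.

* `dl_two_pow` : `(σ - 1)^(2^i) = σ^(2^i) - 1`;
* `card_K` : `|K σ s| = |K σ 1|^s` for `s ≤ 2^ε`; `exists_dl` : `(σ - 1)^t : K σ (t + s) → K σ s` is surjective;
* `le_gcd`, `gcd_lt` : fixed points of `σ^k`;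
* `kind0`, `kind1` : the action of `σ^(tk)` modulo `K σ (s - 2t)`;
* `card_eq_pow` : `|F| = |K σ 1|^m`, `m` the order of `σ`.
-/

set_option autoImplicit false
set_option linter.unusedSectionVars false

namespace Cfsg.Agent.Omega.NO3S.Fld.Red

section

variable {F : Type*} [Field F]

/-- `σ - 1` -/
def dl (σ : F ≃+* F) (x : F) : F := σ x + x

variable (σ : F ≃+* F)

theorem dl_add (x y : F) : dl σ (x + y) = dl σ x + dl σ y := by
  unfold dl; rw [map_add]; ring

theorem dl_zero : dl σ 0 = 0 := by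
  unfold dl; rw [map_zero, add_zero]

theorem it_add (n : ℕ) (x y : F) : (dl σ)^[n] (x + y) = (dl σ)^[n] x + (dl σ)^[n] y := by
  induction n generalizing x y with
  | zero => rfl
  | succ n ih => rw [Function.iterate_succ_apply, Function.iterate_succ_apply, Function.iterate_succ_apply,
      dl_add, ih]

theorem it_zero (n : ℕ) : (dl σ)^[n] 0 = 0 := by
  induction n with
  | zero => rfl
  | succ n ih => rw [Function.iterate_succ_apply, dl_zero, ih]

theorem sg_add (n : ℕ) (x y : F) : σ^[n] (x + y) = σ^[n] x + σ^[n] y := by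
  induction n generalizing x y with
  | zero => rfl
  | succ n ih => rw [Function.iterate_succ_apply, Function.iterate_succ_apply, Function.iterate_succ_apply,
      map_add, ih]

theorem dl_sg (x : F) : dl σ (σ x) = σ (dl σ x) := by
  unfold dl; rw [map_add]

theorem it_sg (n : ℕ) (x : F) : (dl σ)^[n] (σ x) = σ ((dl σ)^[n] x) := by
  induction n generalizing x with
  | zero => rfl
  | succ n ih => rw [Function.iterate_succ_apply, Function.iterate_succ_apply, dl_sg, ih]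

theorem it_it (n k : ℕ) (x : F) : (dl σ)^[n] (σ^[k] x) = σ^[k] ((dl σ)^[n] x) := by
  induction k generalizing x with
  | zero => rfl
  | succ k ih => rw [Function.iterate_succ_apply, Function.iterate_succ_apply, ih, it_sg]

theorem it_neg (n : ℕ) (x : F) : (dl σ)^[n] (-x) = -(dl σ)^[n] x := by
  have h := it_add σ n (-x) x
  rw [neg_add_cancel, it_zero] at h
  exact eq_neg_of_add_eq_zero_left h.symm

/-- `ker (σ - 1)^s` -/
def K (s : ℕ) : AddSubgroup F where
  carrier := {x | (dl σ)^[s] x = 0}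
  zero_mem' := it_zero σ s
  add_mem' := by
    intro a b ha hb
    show (dl σ)^[s] (a + b) = 0
    rw [it_add, ha, hb, add_zero]
  neg_mem' := by
    intro a ha
    show (dl σ)^[s] (-a) = 0
    rw [it_neg, ha, neg_zero]

theorem mem_K {s : ℕ} {x : F} : x ∈ K σ s ↔ (dl σ)^[s] x = 0 := Iff.rfl

theorem mem_K_zero {x : F} : x ∈ K σ 0 ↔ x = 0 := Iff.rfl

theorem mem_K_add {s t : ℕ} {x : F} : x ∈ K σ (s + t) ↔ (dl σ)^[t] x ∈ K σ s := by
  rw [mem_K, mem_K, Function.iterate_add_apply]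

theorem K_mono {s t : ℕ} (h : s ≤ t) : K σ s ≤ K σ t := by
  intro x hx
  obtain ⟨k, rfl⟩ := Nat.exists_eq_add_of_le h
  rw [mem_K, add_comm, Function.iterate_add_apply, (mem_K σ).1 hx, it_zero]

theorem sg_mem_K {s : ℕ} {x : F} (h : x ∈ K σ s) : σ x ∈ K σ s := by
  rw [mem_K, it_sg, (mem_K σ).1 h, map_zero]

theorem its_mem_K {s : ℕ} (k : ℕ) {x : F} (h : x ∈ K σ s) : σ^[k] x ∈ K σ s := by
  induction k generalizing x with
  | zero => exact h
  | succ k ih => rw [Function.iterate_succ_apply]; exact ih (sg_mem_K σ h)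

theorem dl_mem_K {s : ℕ} {x : F} (h : x ∈ K σ (s + 1)) : dl σ x ∈ K σ s := (mem_K_add σ).1 h

variable [CharP F 2]

theorem two_self (x : F) : x + x = 0 := CharTwo.add_self_eq_zero x

theorem mem_K_one {x : F} : x ∈ K σ 1 ↔ σ x = x := by
  rw [mem_K]
  show σ x + x = 0 ↔ _
  rw [CharTwo.add_eq_zero]

theorem dl_two_pow (i : ℕ) (x : F) : (dl σ)^[2 ^ i] x = σ^[2 ^ i] x + x := by
  induction i generalizing x with
  | zero => rfl
  | succ i ih =>
    rw [pow_succ, mul_two, Function.iterate_add_apply, ih x, ih, sg_add, Function.iterate_add_apply]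
    have := two_self (σ^[2 ^ i] x)
    calc σ^[2 ^ i] (σ^[2 ^ i] x) + σ^[2 ^ i] x + (σ^[2 ^ i] x + x)
        = σ^[2 ^ i] (σ^[2 ^ i] x) + (σ^[2 ^ i] x + σ^[2 ^ i] x) + x := by ring
      _ = _ := by rw [this, add_zero]

theorem mem_K_two_pow {i : ℕ} {x : F} : x ∈ K σ (2 ^ i) ↔ σ^[2 ^ i] x = x := by
  rw [mem_K, dl_two_pow, CharTwo.add_eq_zero]

/-- `σ^k x - x ∈ K (s - 1)` for `x ∈ K s`. -/
theorem sub_mem_K (k : ℕ) {s : ℕ} {x : F} (h : x ∈ K σ (s + 1)) : σ^[k] x + x ∈ K σ s := by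
  induction k with
  | zero =>
    show x + x ∈ _
    rw [two_self]; exact (K σ s).zero_mem
  | succ k ih =>
    have e : σ^[k + 1] x + x = σ (σ^[k] x + x) + dl σ x := by
      rw [Function.iterate_succ_apply', map_add]
      unfold dl
      have := two_self (σ x)
      calc σ (σ^[k] x) + x = σ (σ^[k] x) + (σ x + σ x) + x := by rw [this, add_zero]
        _ = _ := by ring
    rw [e]
    exact add_mem (sg_mem_K σ ih) (dl_mem_K σ h)

/-- `σ^(tk)`, `k` even -/
theorem kind0 {i : ℕ} (j : ℕ) {s : ℕ} {x : F} (h : x ∈ K σ (s + 2 * 2 ^ i)) :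
    σ^[2 ^ i * (2 * j)] x + x ∈ K σ s := by
  induction j with
  | zero =>
    show x + x ∈ _
    rw [two_self]; exact (K σ s).zero_mem
  | succ j ih =>
    have e0 : 2 ^ i * (2 * (j + 1)) = 2 ^ (i + 1) + 2 ^ i * (2 * j) := by rw [pow_succ]; ring
    have e1 : (dl σ)^[2 * 2 ^ i] x = σ^[2 ^ (i + 1)] x + x := by
      rw [← pow_succ', dl_two_pow]
    have e : σ^[2 ^ i * (2 * (j + 1))] x + x = σ^[2 ^ (i + 1)] (σ^[2 ^ i * (2 * j)] x + x) +
        (dl σ)^[2 * 2 ^ i] x := by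
      rw [e0, Function.iterate_add_apply, e1, sg_add]
      have := two_self (σ^[2 ^ (i + 1)] x)
      calc σ^[2 ^ (i + 1)] (σ^[2 ^ i * (2 * j)] x) + x =
          σ^[2 ^ (i + 1)] (σ^[2 ^ i * (2 * j)] x) + (σ^[2 ^ (i + 1)] x + σ^[2 ^ (i + 1)] x) + x := by
            rw [this, add_zero]
        _ = _ := by ring
    rw [e]
    exact add_mem (its_mem_K σ _ ih) ((mem_K_add σ).1 h)

/-- `σ^(tk)`, `k` odd -/
theorem kind1 {i : ℕ} (j : ℕ) {s : ℕ} {x : F} (h : x ∈ K σ (s + 2 * 2 ^ i)) :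
    σ^[2 ^ i * (2 * j + 1)] x + x + (dl σ)^[2 ^ i] x ∈ K σ s := by
  have e0 : 2 ^ i * (2 * j + 1) = 2 ^ i + 2 ^ i * (2 * j) := by ring
  have e : σ^[2 ^ i * (2 * j + 1)] x + x + (dl σ)^[2 ^ i] x = σ^[2 ^ i] (σ^[2 ^ i * (2 * j)] x + x) := by
    rw [e0, Function.iterate_add_apply, dl_two_pow, sg_add]
    have := two_self x
    calc σ^[2 ^ i] (σ^[2 ^ i * (2 * j)] x) + x + (σ^[2 ^ i] x + x) =
        σ^[2 ^ i] (σ^[2 ^ i * (2 * j)] x) + σ^[2 ^ i] x + (x + x) := by ring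
      _ = _ := by rw [this, add_zero]
  rw [e]
  exact its_mem_K σ _ (kind0 σ j h)

end

/-! ### Orders -/

section card

variable {F : Type*} [Field F] [Finite F] [CharP F 2] (σ : F ≃+* F)

/-- `|K (t + s)| ≤ |K t| |K s|`, with equality iff `(σ-1)^t` maps `K (t+s)` onto `K s` -/
theorem card_add_le (t s : ℕ) : Nat.card (K σ (t + s)) ≤ Nat.card (K σ t) * Nat.card (K σ s) ∧
    (Nat.card (K σ (t + s)) = Nat.card (K σ t) * Nat.card (K σ s) →
      ∀ y ∈ K σ s, ∃ x ∈ K σ (t + s), (dl σ)^[t] x = y) := by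
  let f : K σ (t + s) →+ K σ s :=
    { toFun := fun x => ⟨(dl σ)^[t] x, (mem_K_add σ).1 (by rw [add_comm]; exact x.2)⟩
      map_zero' := Subtype.ext (it_zero σ t)
      map_add' := fun x y => Subtype.ext (it_add σ t x y) }
  have h1 : Nat.card f.ker = Nat.card (K σ t) := by
    refine Nat.card_congr ⟨fun x => ⟨x.1.1, ?_⟩, fun x => ⟨⟨x.1, K_mono σ (Nat.le_add_right t s) x.2⟩, ?_⟩,
      fun x => rfl, fun x => rfl⟩
    · have := x.2
      rw [AddMonoidHom.mem_ker] at this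
      exact congrArg Subtype.val this
    · rw [AddMonoidHom.mem_ker]
      exact Subtype.ext x.2
  have h2 : Nat.card (K σ (t + s)) = Nat.card f.ker * Nat.card f.range := by
    have h3 := f.ker.card_mul_index
    rw [← h3, AddSubgroup.index_ker]
  have h3 : Nat.card f.range ≤ Nat.card (K σ s) := Nat.card_le_card_of_injective _ Subtype.val_injective
  refine ⟨?_, ?_⟩
  · rw [h2, h1]
    exact Nat.mul_le_mul_left _ h3
  · intro h4 y hy
    rw [h2, h1] at h4
    have h5 : Nat.card f.range = Nat.card (K σ s) := Nat.eq_of_mul_eq_mul_left Nat.card_pos h4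
    have h6 : f.range = ⊤ := by
      rw [← AddSubgroup.card_eq_iff_eq_top]
      exact h5
    obtain ⟨x, hx⟩ := AddMonoidHom.range_eq_top.1 h6 ⟨y, hy⟩
    exact ⟨x.1, x.2, congrArg Subtype.val hx⟩

theorem card_K_zero : Nat.card (K σ 0) = 1 := by
  have : K σ 0 = ⊥ := by
    rw [eq_bot_iff]
    intro x hx
    exact hx
  rw [this]
  exact AddSubgroup.card_bot

theorem card_le (s : ℕ) : Nat.card (K σ s) ≤ Nat.card (K σ 1) ^ s := by
  induction s with
  | zero => rw [card_K_zero, pow_zero]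
  | succ s ih =>
    rw [pow_succ]
    exact (card_add_le σ s 1).1.trans (Nat.mul_le_mul_right _ ih)

theorem two_le_card_K_one : 2 ≤ Nat.card (K σ 1) := by
  have h1 : (1 : F) ∈ K σ 1 := by
    rw [mem_K_one]
    exact map_one σ
  have h2 : Nontrivial (K σ 1) := ⟨⟨1, h1⟩, 0, fun h => one_ne_zero (congrArg Subtype.val h)⟩
  exact Finite.one_lt_card_iff_nontrivial.2 h2

variable {σ} {ε : ℕ}

theorem K_top (per : ∀ x, σ^[2 ^ ε] x = x) : K σ (2 ^ ε) = ⊤ := by
  rw [eq_top_iff]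
  intro x _
  rw [mem_K_two_pow, per]

/-- the layers -/
structure Lay (σ : F ≃+* F) (ε : ℕ) : Prop where
  per : ∀ x, σ^[2 ^ ε] x = x
  card : Nat.card F = Nat.card (K σ 1) ^ 2 ^ ε

variable (h : Lay σ ε)
include h

theorem Lay.card_K {s : ℕ} (hs : s ≤ 2 ^ ε) : Nat.card (K σ s) = Nat.card (K σ 1) ^ s := by
  refine le_antisymm (card_le σ s) ?_
  obtain ⟨k, hk⟩ := Nat.exists_eq_add_of_le hs
  have h1 := (card_add_le σ s k).1
  rw [← hk, K_top h.per, AddSubgroup.card_top, h.card, hk, pow_add] at h1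
  have h2 := card_le σ k
  have h3 : 0 < Nat.card (K σ 1) ^ k := Nat.pow_pos (by have := two_le_card_K_one σ; omega)
  exact Nat.le_of_mul_le_mul_right (h1.trans (Nat.mul_le_mul_left _ h2)) h3

/-- `(σ - 1)^t` maps `K (t + s)` onto `K s` -/
theorem Lay.exists_dl {t s : ℕ} (hs : t + s ≤ 2 ^ ε) {y : F} (hy : y ∈ K σ s) :
    ∃ x ∈ K σ (t + s), (dl σ)^[t] x = y := by
  refine (card_add_le σ t s).2 ?_ y hy
  rw [h.card_K hs, h.card_K (s := t) (by omega), h.card_K (s := s) (by omega), pow_add]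

theorem Lay.le_of_K_le {s g : ℕ} (hs : s ≤ 2 ^ ε) (hK : K σ s ≤ K σ g) : s ≤ g := by
  by_contra hcon
  have h1 : Nat.card (K σ s) ≤ Nat.card (K σ g) := Nat.card_mono (Set.toFinite _) hK
  rw [h.card_K hs, h.card_K (s := g) (by omega)] at h1
  exact hcon ((Nat.pow_le_pow_iff_right (by have := two_le_card_K_one σ; omega)).1 h1)

/-- `σ^k` trivial on `K t`: `t ≤ gcd (k, 2^ε)`. -/
theorem Lay.le_gcd {k t : ℕ} (ht : t ≤ 2 ^ ε) (hk : ∀ x ∈ K σ t, σ^[k] x = x) : t ≤ k.gcd (2 ^ ε) := by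
  obtain ⟨j, -, hj⟩ := (Nat.dvd_prime_pow Nat.prime_two).1 (Nat.gcd_dvd_right k (2 ^ ε))
  apply h.le_of_K_le ht
  intro x hx
  rw [hj, mem_K_two_pow, ← hj]
  have h1 : Function.IsPeriodicPt σ k x := hk x hx
  have h2 : Function.IsPeriodicPt σ (2 ^ ε) x := h.per x
  exact h1.gcd h2

/-- `σ^k` nontrivial on `K (t + 1)`: `gcd (k, 2^ε) ≤ t`. -/
theorem Lay.gcd_le {k t : ℕ} (hk : ∃ x ∈ K σ (t + 1), σ^[k] x ≠ x) : k.gcd (2 ^ ε) ≤ t := by
  obtain ⟨j, -, hj⟩ := (Nat.dvd_prime_pow Nat.prime_two).1 (Nat.gcd_dvd_right k (2 ^ ε))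
  obtain ⟨x, hx, hne⟩ := hk
  by_contra hcon
  apply hne
  have h1 : x ∈ K σ (2 ^ j) := K_mono σ (by omega) hx
  rw [mem_K_two_pow] at h1
  obtain ⟨c, hc⟩ := hj ▸ Nat.gcd_dvd_left k (2 ^ ε)
  rw [hc]
  have h2 : Function.IsPeriodicPt σ (2 ^ j) x := h1
  exact h2.mul_const c

end card

/-! ### `|F| = |F_0|^m` -/

section artin

variable {F : Type*} [Field F] [Finite F] [CharP F 2]

/-- **Artin**: `|F| = |C_F(σ)|^m`, `m` the order of `σ`. -/
theorem card_eq_pow (σ : F ≃+* F) : Nat.card F = Nat.card (K σ 1) ^ orderOf σ := by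
  classical
  have hfin : Finite (F ≃+* F) := Finite.of_injective (fun f : F ≃+* F => (f : F → F)) DFunLike.coe_injective
  have _ : Fintype (Subgroup.zpowers σ) := Fintype.ofFinite _
  have hfs : FaithfulSMul (Subgroup.zpowers σ) F :=
    ⟨fun {a b} h => Subtype.ext (RingEquiv.ext fun x => h x)⟩
  have h1 := FixedPoints.finrank_eq_card (Subgroup.zpowers σ) F
  have h2 : Module.finrank (FixedPoints.subfield (Subgroup.zpowers σ) F) F = orderOf σ := by
    rw [h1, ← Nat.card_eq_fintype_card, Nat.card_zpowers]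
  have h3 := Module.natCard_eq_pow_finrank (K := FixedPoints.subfield (Subgroup.zpowers σ) F) (V := F)
  rw [h2] at h3
  rw [h3]
  congr 1
  refine Nat.card_congr ⟨fun x => ⟨x.1, ?_⟩, fun x => ⟨x.1, ?_⟩, fun x => rfl, fun x => rfl⟩
  · rw [mem_K_one]
    exact x.2 ⟨σ, Subgroup.mem_zpowers σ⟩
  · rintro ⟨g, hg⟩
    obtain ⟨k, rfl⟩ := Subgroup.mem_zpowers_iff.1 hg
    have h4 : σ ∈ MulAction.stabilizer (F ≃+* F) (x.1 : F) := (mem_K_one σ).1 x.2
    exact (MulAction.stabilizer (F ≃+* F) (x.1 : F)).zpow_mem h4 k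

theorem coe_pow_eq (σ : F ≃+* F) (k : ℕ) (x : F) : (σ ^ k) x = σ^[k] x := by
  induction k generalizing x with
  | zero => rfl
  | succ k ih => rw [pow_succ, Function.iterate_succ_apply, ← ih]; rfl

theorem lay_of {σ : F ≃+* F} {ε : ℕ} (h : orderOf σ = 2 ^ ε) : Lay σ ε where
  per x := by
    rw [← coe_pow_eq, ← h, pow_orderOf_eq_one]; rfl
  card := by rw [← h]; exact card_eq_pow σ

end artin

end Cfsg.Agent.Omega.NO3S.Fld.Red

end

-- merged: Cfsg.Agent.Mrg.Omega.NO3S.Fld.RedMod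
section

section


/-!
# Fld, THEOREM RED (#15355), part (1): noncentral chief factors of `X` in `W = ⟨R^X⟩`

`R = e(F)` is the point, `S` acts on `R` through powers of `σ`, `X` is a minimal parabolic over `S` which centralises
`C_R(S)` and moves `R`; `E = O²(X)`, `Q = O₂(X)`, `O = [Q, E]`.

* `Md F S X R` : the situation;
* `layer` : the LAYER LEMMA;
* `Md.two_sections`, `Md.three_sections` : two (three) noncentral sections in `W`.
-/

set_option autoImplicit false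
set_option linter.unusedSectionVars false

namespace Cfsg.Agent.Omega.NO3S.Fld.Red

open Subgroup Cfsg Cfsg.Agent.ZN Cfsg.Agent.ZN.ChoiceBase Cfsg.Agent.ZN.ChoiceSit
open Cfsg.Agent.MinSimple.VModule (oddGen oddGen_le mem_oddGen le_normalizer_oddGen oddGen_le_of_sup)
open Cfsg.Agent.Omega.NO3b.EZero (cl cj_le_cl le_cl cl_le cj_cl le_normalizer_cl le_normalizer_inf_cent
  oddGen_sup_syl)
open Cfsg.Agent.Omega.NO3b.K0 (min_or NoOv oddGen_oddGen)
open Cfsg.Agent.Omega.NO3S.NotFF (le_normalizer_of_forall conj_mem comm_mem_right comm_mem_left normalizer_inf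
  normalizer_centralizer normalizer_commutator le_normalizer_bot commutator_le_of_odd
  le_centralizer_of_commutator commutator_commutator_eq)
open scoped commutatorElement

universe u

variable {G : Type u} [Group G]

/-- **LAYER LEMMA.** `O = [O, E]`, `r` in the abelian group `W`, `N, N₁ ≤ W`, `[N, O] ≤ N₁`, `N₁` normalised by `E`,
`O₁ = {o ∈ O : [r, o] ∈ N₁}` a subgroup with `|O : O₁| = 2`: `E` moves `r` modulo `N`. -/
theorem layer {E O W N N1 O1 : Subgroup G} {r : G} (hOO : O ≤ ⁅O, E⁆) (hEO : E ≤ normalizer (O : Set G))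
    (hW : W ≤ centralizer (W : Set G)) (hN1W : N1 ≤ W) (hrW : r ∈ W)
    (hEN1 : E ≤ normalizer (N1 : Set G)) (hON : ∀ w ∈ N, ∀ o ∈ O, ⁅w, o⁆ ∈ N1)
    (h2 : ∀ a ∈ O, ∀ b ∈ O, a ∉ O1 → b ∉ O1 → a * b ∈ O1) (hne : ∃ o ∈ O, o ∉ O1)
    (hr1 : ∀ o ∈ O, ⁅r, o⁆ ∈ N1 ↔ o ∈ O1) (hE : ∀ e ∈ E, r⁻¹ * (e * r * e⁻¹) ∈ N) : False := by
  -- `O₁` is invariant
  have key : ∀ e ∈ E, ∀ o ∈ O, (e * o * e⁻¹ ∈ O1 ↔ o ∈ O1) := by
    intro e he o ho
    have ho' : e * o * e⁻¹ ∈ O := conj_mem hEO he ho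
    set r' := e * r * e⁻¹ with hr'
    -- first computation
    have h3 : ⁅r', e * o * e⁻¹⁆ = e * ⁅r, o⁆ * e⁻¹ := by
      rw [hr']; simp only [commutatorElement_def]; group
    have h4 : ⁅r', e * o * e⁻¹⁆ ∈ N1 ↔ ⁅r, o⁆ ∈ N1 := by
      rw [h3]
      exact ((mem_normalizer_iff.1 (hEN1 he)) _).symm
    -- second computation
    have h5 : ∀ o ∈ O, (⁅r', o⁆ ∈ N1 ↔ ⁅r, o⁆ ∈ N1) := by
      intro o ho
      have h6 := hON _ (hE e he) o ho
      have e1 : ⁅r', o⁆ = r * ⁅r⁻¹ * (e * r * e⁻¹), o⁆ * r⁻¹ * ⁅r, o⁆ := by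
        rw [hr']; simp only [commutatorElement_def]; group
      have e2 : r * ⁅r⁻¹ * (e * r * e⁻¹), o⁆ * r⁻¹ = ⁅r⁻¹ * (e * r * e⁻¹), o⁆ := by
        rw [← mem_centralizer_iff.1 (hW hrW) _ (hN1W h6), mul_inv_cancel_right]
      rw [e1, e2]
      exact N1.mul_mem_cancel_left h6
    rw [← hr1 _ ho', ← hr1 _ ho, ← h5 _ ho', h4]
  obtain ⟨o, ho, hoO⟩ := hne
  apply hoO
  have h3 : ⁅O, E⁆ ≤ O1 := by
    rw [commutator_le]
    intro a ha e he
    have e1 : ⁅a, e⁆ = a * (e * a⁻¹ * e⁻¹) := by simp only [commutatorElement_def]; group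
    rw [e1]
    by_cases haO : a ∈ O1
    · exact O1.mul_mem haO ((key e he _ (O.inv_mem ha)).2 (O1.inv_mem haO))
    · refine h2 a ha _ (conj_mem hEO he (O.inv_mem ha)) haO fun h0 => haO ?_
      have := (key e he _ (O.inv_mem ha)).1 h0
      exact (O1.inv_mem_iff).1 this
  exact h3 (hOO ho)

/-- `{w ∈ W : [w, O] ≤ N₁}` -/
def pre (W O N1 : Subgroup G) (hW : W ≤ centralizer (W : Set G)) (hN : N1 ≤ W) : Subgroup G where
  carrier := {w | w ∈ W ∧ ∀ o ∈ O, ⁅w, o⁆ ∈ N1}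
  one_mem' := ⟨one_mem _, fun o _ => by rw [commutatorElement_one_left]; exact one_mem _⟩
  mul_mem' := by
    rintro a b ⟨ha, ha'⟩ ⟨hb, hb'⟩
    refine ⟨mul_mem ha hb, fun o ho => ?_⟩
    have e1 : ⁅a * b, o⁆ = a * ⁅b, o⁆ * a⁻¹ * ⁅a, o⁆ := by simp only [commutatorElement_def]; group
    have e2 : a * ⁅b, o⁆ * a⁻¹ = ⁅b, o⁆ := by
      rw [← mem_centralizer_iff.1 (hW ha) _ (hN (hb' o ho)), mul_inv_cancel_right]
    rw [e1, e2]
    exact mul_mem (hb' o ho) (ha' o ho)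
  inv_mem' := by
    rintro a ⟨ha, ha'⟩
    refine ⟨inv_mem ha, fun o ho => ?_⟩
    have e1 : ⁅a⁻¹, o⁆ = a⁻¹ * ⁅a, o⁆⁻¹ * a := by simp only [commutatorElement_def]; group
    have e2 : a⁻¹ * ⁅a, o⁆⁻¹ * a = ⁅a, o⁆⁻¹ := by
      rw [← mem_centralizer_iff.1 (hW (inv_mem ha)) _ (hN (inv_mem (ha' o ho))), inv_mul_cancel_right]
    rw [e1, e2]
    exact inv_mem (ha' o ho)

section pre

variable {W O N1 N2 X : Subgroup G} {hW : W ≤ centralizer (W : Set G)} {hN : N1 ≤ W} {hN' : N2 ≤ W}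

theorem pre_le : pre W O N1 hW hN ≤ W := fun _ h => h.1

theorem mem_pre {w : G} : w ∈ pre W O N1 hW hN ↔ w ∈ W ∧ ∀ o ∈ O, ⁅w, o⁆ ∈ N1 := Iff.rfl

theorem pre_mono (h : N1 ≤ N2) : pre W O N1 hW hN ≤ pre W O N2 hW hN' := fun _ hw => ⟨hw.1, fun o ho => h (hw.2 o ho)⟩

theorem normalizer_pre (hXW : X ≤ normalizer (W : Set G)) (hXO : X ≤ normalizer (O : Set G))
    (hXN : X ≤ normalizer (N1 : Set G)) : X ≤ normalizer ((pre W O N1 hW hN : Subgroup G) : Set G) := by
  refine le_normalizer_of_forall fun x hx w hw => ⟨conj_mem hXW hx hw.1, fun o ho => ?_⟩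
  have ho' : x⁻¹ * o * x ∈ O := by
    have := conj_mem hXO (inv_mem hx) ho
    rwa [inv_inv] at this
  have e : ⁅x * w * x⁻¹, o⁆ = x * ⁅w, x⁻¹ * o * x⁆ * x⁻¹ := by simp only [commutatorElement_def]; group
  rw [e]
  exact conj_mem hXN hx (hw.2 _ ho')

theorem pre_comm : ∀ w ∈ pre W O N1 hW hN, ∀ o ∈ O, ⁅w, o⁆ ∈ N1 := fun _ hw => hw.2

end pre

/-- The situation of (1) of THEOREM RED. -/
structure Md (F : Type*) [Field F] (S X R : Subgroup G) where
  e : F → G
  e_add : ∀ x y, e (x + y) = e x * e y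
  e_inj : Function.Injective e
  mem_iff : ∀ g, g ∈ R ↔ ∃ x, e x = g
  σ : F ≃+* F
  ε : ℕ
  per : ∀ x, σ^[2 ^ ε] x = x
  card : Nat.card F = Nat.card (K σ 1) ^ 2 ^ ε
  act : ∀ s ∈ S, ∃ k : ℕ, ∀ x, s * e x * s⁻¹ = e (σ^[k] x)
  cent : ∀ x ∈ K σ 1, e x ∈ centralizer (X : Set G)
  syl : Syl S X
  sq : ∀ u ∈ cl R X, u ^ 2 = 1
  comm : cl R X ≤ centralizer (cl R X : Set G)
  RS : R ≤ S
  ff : cl R X ⊓ zc (o2 X) ≤ centralizer (oddGen X : Set G)
  nR : ¬ X ≤ normalizer (R : Set G)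

namespace Md

variable {F : Type*} [Field F] {S X R : Subgroup G} (M : Md F S X R)

theorem e_zero : M.e 0 = 1 := by
  have h := M.e_add 0 0
  rw [add_zero] at h
  exact left_eq_mul.1 h

theorem e_eq_one {x : F} : M.e x = 1 ↔ x = 0 := by
  rw [← M.e_zero]
  exact M.e_inj.eq_iff

theorem e_neg (x : F) : M.e (-x) = (M.e x)⁻¹ := by
  have h := M.e_add (-x) x
  rw [neg_add_cancel, M.e_zero] at h
  exact eq_inv_of_mul_eq_one_left h.symm

theorem e_mem (x : F) : M.e x ∈ R := (M.mem_iff _).2 ⟨x, rfl⟩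

/-- `e(K s)` -/
def Rk (s : ℕ) : Subgroup G where
  carrier := {g | ∃ x ∈ K M.σ s, M.e x = g}
  one_mem' := ⟨0, zero_mem _, M.e_zero⟩
  mul_mem' := by
    rintro _ _ ⟨x, hx, rfl⟩ ⟨y, hy, rfl⟩
    exact ⟨x + y, add_mem hx hy, M.e_add x y⟩
  inv_mem' := by
    rintro _ ⟨x, hx, rfl⟩
    exact ⟨-x, neg_mem hx, M.e_neg x⟩

theorem mem_Rk {s : ℕ} {x : F} : M.e x ∈ M.Rk s ↔ x ∈ K M.σ s :=
  ⟨fun ⟨_, hy, h⟩ => M.e_inj h ▸ hy, fun h => ⟨x, h, rfl⟩⟩

theorem Rk_le (s : ℕ) : M.Rk s ≤ R := by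
  rintro _ ⟨x, -, rfl⟩
  exact M.e_mem x

theorem Rk_mono {s t : ℕ} (h : s ≤ t) : M.Rk s ≤ M.Rk t := by
  rintro _ ⟨x, hx, rfl⟩
  exact ⟨x, K_mono _ h hx, rfl⟩

theorem Rk_zero : M.Rk 0 = ⊥ := by
  rw [eq_bot_iff]
  rintro _ ⟨x, hx, rfl⟩
  rw [(mem_K_zero M.σ).1 hx, M.e_zero]
  exact one_mem _

theorem S_Rk (s : ℕ) : S ≤ normalizer (M.Rk s : Set G) := by
  refine le_normalizer_of_forall fun a ha x hx => ?_
  obtain ⟨y, hy, rfl⟩ := hx
  obtain ⟨k, hk⟩ := M.act a ha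
  rw [hk]
  exact ⟨_, its_mem_K _ _ hy, rfl⟩

include M in
theorem S_R : S ≤ normalizer (R : Set G) := by
  refine le_normalizer_of_forall fun a ha x hx => ?_
  obtain ⟨y, rfl⟩ := (M.mem_iff _).1 hx
  obtain ⟨k, hk⟩ := M.act a ha
  rw [hk]
  exact M.e_mem _

section two

variable [CharP F 2]

theorem comm_e {o : G} {k : ℕ} (h : ∀ x, o * M.e x * o⁻¹ = M.e (M.σ^[k] x)) (x : F) :
    ⁅M.e x, o⁆ = M.e (M.σ^[k] x + x) := by
  have e1 : ⁅M.e x, o⁆ = M.e x * (o * M.e (-x) * o⁻¹) := by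
    rw [M.e_neg]; simp only [commutatorElement_def]; group
  rw [e1, h, ← M.e_add]
  congr 1
  rw [CharTwo.neg_eq, add_comm]

theorem Rk_comm (s : ℕ) {x : F} (hx : x ∈ K M.σ (s + 1)) {o : G} (ho : o ∈ S) : ⁅M.e x, o⁆ ∈ M.Rk s := by
  obtain ⟨k, hk⟩ := M.act o ho
  rw [M.comm_e hk]
  exact M.mem_Rk.2 (sub_mem_K _ k hx)

end two

section fin

variable [Finite G]

/-- `W = ⟨R^X⟩` -/
abbrev W (_ : Md F S X R) : Subgroup G := cl R X

/-- `E = O²(X)` -/
abbrev E (_ : Md F S X R) : Subgroup G := oddGen X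

/-- `O = [O₂(X), O²(X)]` -/
abbrev O (_ : Md F S X R) : Subgroup G := ⁅o2 X, oddGen X⁆

theorem R_le_W : R ≤ M.W := le_cl R X

theorem isPGroup_W : IsPGroup 2 M.W := fun x => ⟨1, Subtype.ext (by simpa only [_root_.pow_one, _root_.SubmonoidClass.coe_pow, _root_.OneMemClass.coe_one] using M.sq x x.2)⟩

theorem X_W : X ≤ normalizer (M.W : Set G) := le_normalizer_cl R X

theorem W_le_X : M.W ≤ X := cl_le fun x hx => by
  have h1 := cj_mono x (M.RS.trans M.syl.1)
  rwa [cj_eq_of_mem_normalizer (Subgroup.le_normalizer hx)] at h1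

theorem W_le_Q : M.W ≤ o2 X := ChoiceSit.le_o2 M.isPGroup_W M.W_le_X M.X_W

include M in
theorem Q_le_S : o2 X ≤ S := o2_le_syl M.syl

include M in
theorem sup : oddGen X ⊔ S = X := oddGen_sup_syl M.syl

omit [Finite G] in
theorem X_O : X ≤ normalizer (M.O : Set G) :=
  normalizer_commutator (le_normalizer_o2 X) (le_normalizer_oddGen X)

omit [Finite G] in
theorem O_le_Q : M.O ≤ o2 X := by
  rw [← le_normalizer_iff_commutator_le_left]
  exact (oddGen_le X).trans (le_normalizer_o2 X)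

theorem O_le_S : M.O ≤ S := M.O_le_Q.trans M.Q_le_S

theorem O_le_E : M.O ≤ oddGen X := by
  rw [← le_normalizer_iff_commutator_le_right]
  exact (M.Q_le_S.trans M.syl.1).trans (le_normalizer_oddGen X)

theorem O_eq : M.O ≤ ⁅M.O, M.E⁆ :=
  (commutator_commutator_eq (oddGen_oddGen X) (ChoiceSit.isPGroup_o2 X)
    ((oddGen_le X).trans (le_normalizer_o2 X))
    ((M.Q_le_S.trans M.syl.1).trans (le_normalizer_oddGen X))).ge

theorem nR' : ¬ R ≤ centralizer (M.E : Set G) := by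
  intro h
  apply M.nR
  rw [← M.sup]
  exact sup_le ((le_centralizer_iff.1 h).trans (centralizer_le_normalizer _)) M.S_R

/-- the fixed layer is normal in `X` -/
theorem X_Rk {t : ℕ} (h : M.Rk t ≤ centralizer (M.E : Set G)) : X ≤ normalizer (M.Rk t : Set G) := by
  exact M.sup.ge.trans (sup_le ((le_centralizer_iff.1 h).trans (centralizer_le_normalizer _)) (M.S_Rk t))

section two

variable [CharP F 2]

theorem Rk_top : M.Rk (2 ^ M.ε) = R := by
  apply le_antisymm (M.Rk_le _)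
  intro g hg
  obtain ⟨x, rfl⟩ := (M.mem_iff _).1 hg
  rw [M.mem_Rk, mem_K_two_pow, M.per]

/-- the number `t` -/
theorem exists_t : ∃ t, 1 ≤ t ∧ t < 2 ^ M.ε ∧ M.Rk t ≤ centralizer (M.E : Set G) ∧
    ¬ M.Rk (t + 1) ≤ centralizer (M.E : Set G) := by
  classical
  have h1 : M.Rk 1 ≤ centralizer (M.E : Set G) := by
    rintro _ ⟨x, hx, rfl⟩
    exact centralizer_le (oddGen_le X) (M.cent x hx)
  by_contra hcon
  push Not at hcon
  have key : ∀ t, t ≤ 2 ^ M.ε → M.Rk t ≤ centralizer (M.E : Set G) := by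
    intro t
    induction t with
    | zero => exact fun _ => (M.Rk_mono (Nat.zero_le 1)).trans h1
    | succ t ih =>
      intro ht
      rcases Nat.eq_zero_or_pos t with rfl | ht0
      · exact h1
      · exact hcon t ht0 (by omega) (ih (by omega))
  have h2 := key _ le_rfl
  rw [M.Rk_top] at h2
  exact M.nR' h2

/-- `O` does not centralise `R^(t+1)`. -/
theorem nO {t : ℕ} (h1 : M.Rk t ≤ centralizer (M.E : Set G)) (h2 : ¬ M.Rk (t + 1) ≤ centralizer (M.E : Set G)) :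
    ¬ M.Rk (t + 1) ≤ centralizer (M.O : Set G) := by
  intro hO
  apply h2
  have hNW : M.Rk t ≤ M.W := (M.Rk_le t).trans M.R_le_W
  set T : Subgroup G := pre M.W (o2 X) (M.Rk t) M.comm hNW ⊓ centralizer (M.O : Set G) with hT
  have hXT : X ≤ normalizer (T : Set G) := normalizer_inf
    (normalizer_pre M.X_W (le_normalizer_o2 X) (M.X_Rk h1)) (normalizer_centralizer M.X_O)
  have hTW : T ≤ M.W := inf_le_left.trans pre_le
  have hRT : M.Rk (t + 1) ≤ T := by
    refine le_inf ?_ hO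
    rintro _ ⟨x, hx, rfl⟩
    exact ⟨M.R_le_W (M.e_mem x), fun o ho => M.Rk_comm t hx (M.Q_le_S ho)⟩
  refine hRT.trans ?_
  -- three subgroups
  have h3 : (⁅⁅M.E, o2 X⁆, T⁆ : Subgroup G) = ⊥ := by
    rw [commutator_comm M.E (o2 X), commutator_comm, commutator_eq_bot_iff_le_centralizer]
    exact inf_le_right
  have h4 : (⁅⁅o2 X, T⁆, M.E⁆ : Subgroup G) = ⊥ := by
    rw [commutator_comm (o2 X) T, eq_bot_iff]
    have h40 : ⁅T, o2 X⁆ ≤ M.Rk t := commutator_le.2 fun w hw o ho => ((mem_inf.1 hw).1.2 o ho)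
    refine (commutator_mono h40 le_rfl).trans ?_
    rw [le_bot_iff, commutator_eq_bot_iff_le_centralizer]
    exact h1
  have h5 : (⁅⁅T, M.E⁆, o2 X⁆ : Subgroup G) = ⊥ := commutator_commutator_eq_bot_of_rotate h3 h4
  rw [commutator_eq_bot_iff_le_centralizer] at h5
  have h6 : ⁅T, M.E⁆ ≤ T := by
    rw [← le_normalizer_iff_commutator_le_left]
    exact (oddGen_le X).trans hXT
  have h7 : ⁅T, M.E⁆ ≤ zc (o2 X) := by
    intro g hg
    exact subset_closure ⟨⟨M.W_le_Q (hTW (h6 hg)), h5 hg⟩, M.sq g (hTW (h6 hg))⟩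
  exact le_centralizer_of_commutator (oddGen_oddGen X) (M.isPGroup_W.to_le hTW) ((oddGen_le X).trans hXT)
    ((le_inf (h6.trans hTW) h7).trans M.ff)

/-- `o` acts on `R` as `σ^(tk)`, `k` even. -/
def Ev (i : ℕ) (o : G) : Prop := ∀ s, ∀ x ∈ K M.σ (s + 2 * 2 ^ i), ⁅M.e x, o⁆ ∈ M.Rk s

/-- `o` acts on `R` as `σ^(tk)`, `k` odd. -/
def Od (i : ℕ) (o : G) : Prop := ∀ s, ∀ x ∈ K M.σ (s + 2 * 2 ^ i), ⁅M.e x, o⁆ * M.e ((dl M.σ)^[2 ^ i] x) ∈ M.Rk s

/-- `O` induces `⟨σ^t⟩` on `R`, `t = 2^i`. -/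
theorem exists_i [Finite F] : ∃ i, 2 * 2 ^ i ≤ 2 ^ M.ε ∧ M.Rk (2 ^ i) ≤ centralizer (M.E : Set G) ∧
    ¬ M.Rk (2 ^ i + 1) ≤ centralizer (M.E : Set G) ∧
    (∀ o ∈ M.O, M.Ev i o ∨ M.Od i o) ∧ ∃ o ∈ M.O, M.Od i o := by
  have hl : Lay M.σ M.ε := ⟨M.per, M.card⟩
  obtain ⟨t, ht1, htm, hc, hnc⟩ := M.exists_t
  have hnO := M.nO hc hnc
  -- elements of `O` are trivial on `K t`
  have h1 : ∀ o ∈ M.O, ∀ k, (∀ x, o * M.e x * o⁻¹ = M.e (M.σ^[k] x)) → t ≤ k.gcd (2 ^ M.ε) := by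
    intro o ho k hk
    refine hl.le_gcd htm.le fun x hx => ?_
    have h2 : M.e x ∈ M.Rk t := M.mem_Rk.2 hx
    have h3 : o * M.e x = M.e x * o := mem_centralizer_iff.1 (hc h2) o (M.O_le_E ho)
    apply M.e_inj
    rw [← hk, h3, mul_inv_cancel_right]
  -- one element of `O` is nontrivial on `K (t + 1)`
  obtain ⟨o0, ho0, k0, hk0, hg0⟩ : ∃ o ∈ M.O, ∃ k, (∀ x, o * M.e x * o⁻¹ = M.e (M.σ^[k] x)) ∧
      k.gcd (2 ^ M.ε) ≤ t := by
    by_contra hcon
    push Not at hcon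
    apply hnO
    rintro _ ⟨x, hx, rfl⟩
    rw [mem_centralizer_iff]
    intro o ho
    obtain ⟨k, hk⟩ := M.act o (M.O_le_S ho)
    have h2 := hcon o ho k hk
    by_contra hne
    refine absurd (hl.gcd_le (k := k) (t := t) ⟨x, hx, fun h3 => hne ?_⟩) (not_le.2 h2)
    have h4 := hk x
    rw [h3] at h4
    exact mul_inv_eq_iff_eq_mul.1 h4
  have hg : k0.gcd (2 ^ M.ε) = t := le_antisymm hg0 (h1 o0 ho0 k0 hk0)
  obtain ⟨i, hi, hti⟩ := (Nat.dvd_prime_pow Nat.prime_two).1 (hg ▸ Nat.gcd_dvd_right k0 (2 ^ M.ε))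
  subst hti
  have hiε : i < M.ε := (Nat.pow_lt_pow_iff_right (by norm_num)).1 htm
  refine ⟨i, ?_, hc, hnc, ?_, o0, ho0, ?_⟩
  · rw [← pow_succ']
    exact Nat.pow_le_pow_right (by norm_num) hiε
  · intro o ho
    obtain ⟨k, hk⟩ := M.act o (M.O_le_S ho)
    have h2 := h1 o ho k hk
    obtain ⟨j, -, hj⟩ := (Nat.dvd_prime_pow Nat.prime_two).1 (Nat.gcd_dvd_right k (2 ^ M.ε))
    rw [hj] at h2
    have h3 : 2 ^ i ∣ k := (pow_dvd_pow 2 ((Nat.pow_le_pow_iff_right (by norm_num)).1 h2)).trans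
      (hj ▸ Nat.gcd_dvd_left k (2 ^ M.ε))
    obtain ⟨c, rfl⟩ := h3
    rcases Nat.even_or_odd' c with ⟨j', rfl | rfl⟩
    · left
      intro s x hx
      rw [M.comm_e hk]
      exact M.mem_Rk.2 (kind0 M.σ j' hx)
    · right
      intro s x hx
      rw [M.comm_e hk, ← M.e_add]
      exact M.mem_Rk.2 (kind1 M.σ j' hx)
  · obtain ⟨c, hc0⟩ := hg ▸ Nat.gcd_dvd_left k0 (2 ^ M.ε)
    rcases Nat.even_or_odd' c with ⟨j', rfl | rfl⟩
    · exfalso
      have h3 : 2 ^ (i + 1) ∣ k0.gcd (2 ^ M.ε) := by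
        refine Nat.dvd_gcd ⟨j', by rw [hc0, pow_succ]; ring⟩ (pow_dvd_pow 2 hiε)
      rw [hg] at h3
      have h4 := Nat.le_of_dvd (by positivity) h3
      rw [pow_succ] at h4
      have : 0 < 2 ^ i := by positivity
      omega
    · subst hc0
      intro s x hx
      rw [M.comm_e hk0, ← M.e_add]
      exact M.mem_Rk.2 (kind1 M.σ j' hx)

section secs

variable [Finite F] {i : ℕ} (hi : 2 * 2 ^ i ≤ 2 ^ M.ε) (hk : ∀ o ∈ M.O, M.Ev i o ∨ M.Od i o)
  (hex : ∃ o ∈ M.O, M.Od i o)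

/-- `O₁` -/
abbrev O1 (i : ℕ) : Subgroup G := M.O ⊓ centralizer (M.Rk (2 * 2 ^ i) : Set G)

theorem Ev.mem {o : G} (h : M.Ev i o) (ho : o ∈ M.O) : o ∈ M.O1 i := by
  refine ⟨ho, mem_centralizer_iff.2 ?_⟩
  rintro _ ⟨x, hx, rfl⟩
  have h1 := h 0 x (by rw [zero_add]; exact hx)
  rw [M.Rk_zero, mem_bot] at h1
  exact (commutatorElement_eq_one_iff_mul_comm.1 h1)

include hi in
theorem Od.not_mem {o : G} (h : M.Od i o) : o ∉ M.O1 i := by
  intro ho
  have hl : Lay M.σ M.ε := ⟨M.per, M.card⟩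
  have h1 : (1 : F) ∈ K M.σ (2 ^ i) := by
    apply K_mono M.σ (Nat.one_le_two_pow (n := i))
    rw [mem_K_one]; exact map_one _
  obtain ⟨x, hx, hx1⟩ := hl.exists_dl (t := 2 ^ i) (s := 2 ^ i) (by omega) h1
  rw [← two_mul] at hx
  have h2 := h 0 x (by rw [zero_add]; exact hx)
  have h3 : ⁅M.e x, o⁆ = 1 := commutatorElement_eq_one_iff_mul_comm.2
    (mem_centralizer_iff.1 ho.2 _ (M.mem_Rk.2 hx))
  rw [h3, one_mul, hx1, M.Rk_zero, mem_bot, M.e_eq_one] at h2
  exact one_ne_zero h2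

include hk in
theorem mul_mem_O1 {a b : G} (ha : a ∈ M.O) (hb : b ∈ M.O) (ha' : a ∉ M.O1 i) (hb' : b ∉ M.O1 i) :
    a * b ∈ M.O1 i := by
  have hao : M.Od i a := (hk a ha).resolve_left fun h => ha' (h.mem M ha)
  have hbo : M.Od i b := (hk b hb).resolve_left fun h => hb' (h.mem M hb)
  have hm := mul_mem ha hb
  -- the action on `K (2t)`
  have key : ∀ c, M.Od i c → ∀ x ∈ K M.σ (2 * 2 ^ i), c * M.e x * c⁻¹ = M.e (x + (dl M.σ)^[2 ^ i] x) := by
    intro c hc x hx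
    have h1 := hc 0 x (by rw [zero_add]; exact hx)
    rw [M.Rk_zero, mem_bot] at h1
    have h2 : ⁅M.e x, c⁆ = M.e ((dl M.σ)^[2 ^ i] x) := by
      rw [mul_eq_one_iff_eq_inv] at h1
      rw [h1, ← M.e_neg, CharTwo.neg_eq]
    have h3 : c * (M.e x)⁻¹ * c⁻¹ = (M.e x)⁻¹ * M.e ((dl M.σ)^[2 ^ i] x) := by
      rw [← h2]; simp only [commutatorElement_def]; group
    have h4 : c * M.e x * c⁻¹ = M.e (-((-x) + (dl M.σ)^[2 ^ i] x)) := by
      rw [M.e_neg, M.e_add, M.e_neg, ← h3]; group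
    rw [h4, neg_add, neg_neg, CharTwo.neg_eq]
  refine ⟨hm, mem_centralizer_iff.2 ?_⟩
  rintro _ ⟨x, hx, rfl⟩
  have hx' : x + (dl M.σ)^[2 ^ i] x ∈ K M.σ (2 * 2 ^ i) := by
    refine add_mem hx ?_
    apply K_mono M.σ (s := 2 ^ i) (by omega)
    rw [two_mul] at hx
    exact (mem_K_add M.σ).1 hx
  have h1 : a * b * M.e x * (a * b)⁻¹ = M.e x := by
    have e1 : a * b * M.e x * (a * b)⁻¹ = a * (b * M.e x * b⁻¹) * a⁻¹ := by group
    rw [e1, key b hbo x hx, key a hao _ hx', it_add]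
    congr 1
    have h2 : (dl M.σ)^[2 ^ i] ((dl M.σ)^[2 ^ i] x) = 0 := by
      rw [← Function.iterate_add_apply, ← two_mul]
      exact hx
    rw [h2, add_zero, add_assoc, two_self, add_zero]
  exact (mul_inv_eq_iff_eq_mul.1 h1).symm

include hi hk hex in
/-- the LAYER LEMMA for `O` -/
theorem lay {N N1 : Subgroup G} {x : F} (hN1 : N1 ≤ M.W) (hXN1 : X ≤ normalizer (N1 : Set G))
    (hON : ∀ w ∈ N, ∀ o ∈ M.O, ⁅w, o⁆ ∈ N1) (hev : ∀ o, M.Ev i o → ⁅M.e x, o⁆ ∈ N1)
    (hod : ∀ o, M.Od i o → ⁅M.e x, o⁆ ∉ N1) :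
    ¬ ∀ e ∈ M.E, (M.e x)⁻¹ * (e * M.e x * e⁻¹) ∈ N := by
  intro hE
  obtain ⟨o0, ho0, hod0⟩ := hex
  refine layer (O := M.O) (E := M.E) (W := M.W) (N := N) (N1 := N1) (O1 := M.O1 i) (r := M.e x) M.O_eq
    ((oddGen_le X).trans M.X_O) M.comm hN1 (M.R_le_W (M.e_mem x)) ((oddGen_le X).trans hXN1) hON
    (fun a ha b hb ha' hb' => M.mul_mem_O1 hk ha hb ha' hb') ⟨o0, ho0, hod0.not_mem M hi⟩
    (fun o ho => ?_) hE
  rcases hk o ho with h1 | h1
  · exact ⟨fun _ => h1.mem M ho, fun _ => hev o h1⟩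
  · exact ⟨fun h2 => absurd h2 (hod o h1), fun h2 => absurd h2 (h1.not_mem M hi)⟩

include hi hk hex in
/-- form 1: `r` is not centralised by `E` -/
theorem not_cent {x : F} (hev : ∀ o, M.Ev i o → ⁅M.e x, o⁆ = 1) (hod : ∀ o, M.Od i o → ⁅M.e x, o⁆ ≠ 1) :
    M.e x ∉ centralizer (M.E : Set G) := by
  intro hc
  refine M.lay hi hk hex (N := ⊥) (N1 := ⊥) (x := x) bot_le (le_normalizer_bot X) ?_ ?_ ?_ ?_
  · intro w hw o _
    rw [mem_bot.1 hw, commutatorElement_one_left]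
    exact one_mem _
  · exact fun o h => mem_bot.2 (hev o h)
  · exact fun o h h' => hod o h (mem_bot.1 h')
  · intro e he
    have := mem_centralizer_iff.1 hc e he
    rw [mem_bot, this, mul_inv_cancel_right, inv_mul_cancel]

include hi hk hex in
/-- form 2: `[Y, E] ≰ N` if `r ∈ Y` -/
theorem not_comm {Y N N1 : Subgroup G} {x : F} (hxY : M.e x ∈ Y) (hN1 : N1 ≤ M.W)
    (hXN1 : X ≤ normalizer (N1 : Set G)) (hON : ∀ w ∈ N, ∀ o ∈ M.O, ⁅w, o⁆ ∈ N1) (hev : ∀ o, M.Ev i o → ⁅M.e x, o⁆ ∈ N1)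
    (hod : ∀ o, M.Od i o → ⁅M.e x, o⁆ ∉ N1) : ¬ ⁅Y, M.E⁆ ≤ N := by
  intro h
  refine M.lay hi hk hex hN1 hXN1 hON hev hod fun e he => ?_
  have h1 : ⁅(M.e x)⁻¹, e⁆ ∈ N := h (commutator_mem_commutator (inv_mem hxY) he)
  have e1 : ⁅(M.e x)⁻¹, e⁆ = (M.e x)⁻¹ * (e * M.e x * e⁻¹) := by
    simp only [commutatorElement_def]; group
  rwa [e1] at h1

omit [Finite G] [Finite F] in
theorem mem_zp {x : F} {g : G} : g ∈ zpowers (M.e x) ↔ g = 1 ∨ g = M.e x := by
  have hsq : M.e x * M.e x = 1 := by rw [← M.e_add, two_self, M.e_zero]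
  constructor
  · rintro ⟨k, rfl⟩
    rcases Int.even_or_odd' k with ⟨j, rfl | rfl⟩
    · left
      show M.e x ^ (2 * j) = 1
      rw [zpow_mul, zpow_two, hsq, one_zpow]
    · right
      show M.e x ^ (2 * j + 1) = M.e x
      rw [zpow_add, zpow_mul, zpow_two, hsq, one_zpow, one_mul, zpow_one]
  · rintro (rfl | rfl)
    · exact one_mem _
    · exact mem_zpowers _

omit [Finite G] [Finite F] in
theorem Ev.zero {o : G} (h : M.Ev i o) {x : F} (hx : x ∈ K M.σ (2 * 2 ^ i)) : ⁅M.e x, o⁆ = 1 := by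
  have h1 := h 0 x (by rw [zero_add]; exact hx)
  rwa [M.Rk_zero, mem_bot] at h1

omit [Finite G] [Finite F] in
theorem Od.zero {o : G} (h : M.Od i o) {x : F} (hx : x ∈ K M.σ (2 * 2 ^ i)) :
    ⁅M.e x, o⁆ = M.e ((dl M.σ)^[2 ^ i] x) := by
  have h1 := h 0 x (by rw [zero_add]; exact hx)
  rw [M.Rk_zero, mem_bot] at h1
  rw [mul_eq_one_iff_eq_inv] at h1
  rw [h1, ← M.e_neg, CharTwo.neg_eq]

include hi hk hex in
/-- **Two noncentral sections**, if `|R^(t)| ≥ 4`. -/
theorem two_sections (h4 : 3 ≤ Nat.card (K M.σ (2 ^ i))) : ∃ N : Subgroup G, N ≤ M.W ∧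
    X ≤ normalizer (N : Set G) ∧ ¬ N ≤ centralizer (M.E : Set G) ∧ ¬ ⁅M.W, M.E⁆ ≤ N := by
  have hl : Lay M.σ M.ε := ⟨M.per, M.card⟩
  have h1K : (1 : F) ∈ K M.σ (2 ^ i) := by
    apply K_mono M.σ (Nat.one_le_two_pow (n := i))
    rw [mem_K_one]; exact map_one _
  have h1K' : (1 : F) ∈ K M.σ 1 := by rw [mem_K_one]; exact map_one _
  -- a third element
  obtain ⟨y, hy, hy0, hy1⟩ : ∃ y ∈ K M.σ (2 ^ i), y ≠ 0 ∧ y ≠ 1 := by
    by_contra hcon
    push Not at hcon
    have h5 : Nat.card (K M.σ (2 ^ i)) ≤ 2 := by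
      classical
      let f : K M.σ (2 ^ i) → Fin 2 := fun z => if z = 0 then 0 else 1
      have hz : ∀ z : K M.σ (2 ^ i), z ≠ 0 → (z : F) = 1 := fun z hz =>
        hcon z z.2 fun h => hz (Subtype.ext h)
      have hf : Function.Injective f := by
        intro a b hab
        by_cases ha : a = 0
        · by_cases hb : b = 0
          · rw [ha, hb]
          · simp [f, ha, hb] at hab
        · by_cases hb : b = 0
          · simp [f, ha, hb] at hab
          · exact Subtype.ext (by rw [hz a ha, hz b hb])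
      have := Nat.card_le_card_of_injective f hf
      simpa only [_root_.ge_iff_le, _root_.Nat.card_eq_fintype_card, _root_.Fintype.card_fin] using this
    omega
  obtain ⟨x1, hx1, hx1'⟩ := hl.exists_dl (t := 2 ^ i) (s := 2 ^ i) (by omega) h1K
  obtain ⟨x2, hx2, hx2'⟩ := hl.exists_dl (t := 2 ^ i) (s := 2 ^ i) (by omega) hy
  rw [← two_mul] at hx1 hx2
  set N1 : Subgroup G := zpowers (M.e 1) with hN1
  have hN1W : N1 ≤ M.W := by
    rw [hN1, zpowers_le]
    exact M.R_le_W (M.e_mem 1)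
  have hXN1 : X ≤ normalizer (N1 : Set G) := by
    have h2 : N1 ≤ centralizer (X : Set G) := by
      rw [hN1, zpowers_le]
      exact M.cent 1 h1K'
    exact (le_centralizer_iff.1 h2).trans (centralizer_le_normalizer _)
  set N := pre M.W M.O N1 M.comm hN1W with hN
  have hXN : X ≤ normalizer (N : Set G) := normalizer_pre M.X_W M.X_O hXN1
  refine ⟨N, pre_le, hXN, fun h => ?_, ?_⟩
  · -- `e x1 ∈ N`
    have h2 : M.e x1 ∈ N := by
      refine ⟨M.R_le_W (M.e_mem _), fun o ho => ?_⟩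
      rcases hk o ho with h3 | h3
      · rw [h3.zero M hx1]; exact one_mem _
      · rw [h3.zero M hx1, hx1']; exact mem_zpowers _
    refine M.not_cent hi hk hex (x := x1) (fun o ho => ho.zero M hx1) (fun o ho => ?_) (h h2)
    rw [ho.zero M hx1, hx1', Ne, M.e_eq_one]
    exact one_ne_zero
  · refine M.not_comm hi hk hex (x := x2) (M.R_le_W (M.e_mem x2)) hN1W hXN1 pre_comm
      (fun o ho => ?_) (fun o ho => ?_)
    · rw [ho.zero M hx2]; exact one_mem _
    · rw [ho.zero M hx2, hx2', M.mem_zp]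
      rintro (h3 | h3)
      · exact hy0 (M.e_eq_one.1 h3)
      · exact hy1 (M.e_inj h3)

/-- **Three noncentral sections**, if `t = 1`, `m ≥ 4`. -/
theorem three_sections (hm : 4 ≤ 2 ^ M.ε) (hk : ∀ o ∈ M.O, M.Ev 0 o ∨ M.Od 0 o) (hex : ∃ o ∈ M.O, M.Od 0 o) :
    ∃ N N' : Subgroup G, N ≤ N' ∧ N' ≤ M.W ∧ X ≤ normalizer (N : Set G) ∧ X ≤ normalizer (N' : Set G) ∧
      ¬ N ≤ centralizer (M.E : Set G) ∧ ¬ ⁅N', M.E⁆ ≤ N ∧ ¬ ⁅M.W, M.E⁆ ≤ N' := by
  have hl : Lay M.σ M.ε := ⟨M.per, M.card⟩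
  have hi : 2 * 2 ^ 0 ≤ 2 ^ M.ε := by omega
  have h1K : (1 : F) ∈ K M.σ 1 := by rw [mem_K_one]; exact map_one _
  obtain ⟨x2, hx2, hx2'⟩ := hl.exists_dl (t := 1) (s := 1) (by omega) h1K
  obtain ⟨x3, hx3, hx3'⟩ := hl.exists_dl (t := 1) (s := 2) (by omega) hx2
  obtain ⟨x4, hx4, hx4'⟩ := hl.exists_dl (t := 1) (s := 3) (by omega) hx3
  set M1 := pre M.W M.O ⊥ M.comm bot_le with hM1
  set M2 := pre M.W M.O M1 M.comm pre_le with hM2
  set M3 := pre M.W M.O M2 M.comm pre_le with hM3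
  have hX1 : X ≤ normalizer (M1 : Set G) := normalizer_pre M.X_W M.X_O (le_normalizer_bot X)
  have hX2 : X ≤ normalizer (M2 : Set G) := normalizer_pre M.X_W M.X_O hX1
  have hX3 : X ≤ normalizer (M3 : Set G) := normalizer_pre M.X_W M.X_O hX2
  have h12 : M1 ≤ M2 := pre_mono bot_le
  have h23 : M2 ≤ M3 := pre_mono h12
  have hR1 : M.Rk 1 ≤ M1 := by
    rintro _ ⟨x, hx, rfl⟩
    refine ⟨M.R_le_W (M.e_mem x), fun o ho => ?_⟩
    rw [mem_bot, commutatorElement_eq_one_iff_mul_comm]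
    exact (mem_centralizer_iff.1 (M.cent x hx) o (M.syl.1 (M.O_le_S ho))).symm
  have hR2 : M.Rk 2 ≤ M2 := by
    rintro _ ⟨x, hx, rfl⟩
    exact ⟨M.R_le_W (M.e_mem x), fun o ho => hR1 (M.Rk_comm 1 hx (M.O_le_S ho))⟩
  have hR3 : M.Rk 3 ≤ M3 := by
    rintro _ ⟨x, hx, rfl⟩
    exact ⟨M.R_le_W (M.e_mem x), fun o ho => hR2 (M.Rk_comm 2 hx (M.O_le_S ho))⟩
  obtain ⟨o0, ho0, hod0⟩ := id hex
  have hr2 : M.e x2 ∉ M1 := by
    intro h
    have h1 := h.2 o0 ho0
    rw [mem_bot, hod0.zero M hx2] at h1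
    rw [pow_zero, hx2', M.e_eq_one] at h1
    exact one_ne_zero h1
  have hr3 : M.e x3 ∉ M2 := by
    intro h
    have h1 := h.2 o0 ho0
    have h2 := hR1 (hod0 1 x3 hx3)
    rw [pow_zero, hx3'] at h2
    exact hr2 ((M1.mul_mem_cancel_left h1).1 h2)
  refine ⟨M2, M3, h23, pre_le, hX2, hX3, fun h => ?_, ?_, ?_⟩
  · refine M.not_cent hi hk hex (x := x2) (fun o ho => ho.zero M hx2) (fun o ho => ?_)
      (h (hR2 (M.mem_Rk.2 hx2)))
    rw [ho.zero M hx2, pow_zero, hx2', Ne, M.e_eq_one]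
    exact one_ne_zero
  · refine M.not_comm hi hk hex (x := x3) (hR3 (M.mem_Rk.2 hx3)) pre_le hX1 pre_comm
      (fun o ho => ?_) (fun o ho h1 => ?_)
    · exact hR1 (ho 1 x3 hx3)
    · have h2 := hR1 (ho 1 x3 hx3)
      rw [pow_zero, hx3'] at h2
      exact hr2 ((M1.mul_mem_cancel_left h1).1 h2)
  · refine M.not_comm hi hk hex (x := x4) (M.R_le_W (M.e_mem x4)) pre_le hX2 pre_comm
      (fun o ho => ?_) (fun o ho h1 => ?_)
    · exact hR2 (ho 2 x4 hx4)
    · have h2 := hR2 (ho 2 x4 hx4)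
      rw [pow_zero, hx4'] at h2
      exact hr3 ((M2.mul_mem_cancel_left h1).1 h2)

end secs

end two

end fin

end Md

end Cfsg.Agent.Omega.NO3S.Fld.Red

end

section


/-!
# Fld, THEOREM RED (#15355): the end of (1)-(3)

* `NoOv.step` : one noncentral section;
* `end_of` : the contradiction from `Md` and `Cnt`, `|F| ≥ 16`;
* `Crd.exists_sigma` : `S` acts on `R` through the powers of one `σ` of order `2^ε`;
* `Crd.norm_R` : a minimal parabolic `X ≤ C_G(Z)` over `S` with `J(S) ≰ O₂(X)`, `Ω₁(Z(O₂(X)))` centralised by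
  `O²(X)`, normalises `R`, if `|F| ≥ 16`.
-/

set_option autoImplicit false
set_option linter.unusedSectionVars false

namespace Cfsg.Agent.Omega.NO3S.Fld.Red

open Subgroup Cfsg Cfsg.Agent.ZN Cfsg.Agent.ZN.ChoiceBase Cfsg.Agent.ZN.ChoiceSit
open Cfsg.Agent.MinSimple.MinParabolic (IsMinPar)
open Cfsg.Agent.MinSimple.VModule (oddGen oddGen_le mem_oddGen le_normalizer_oddGen oddGen_le_of_sup)
open Cfsg.Agent.Omega.NO3b.EZero (cl cj_le_cl le_cl cl_le cj_cl le_normalizer_cl le_normalizer_inf_cent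
  oddGen_sup_syl)
open Cfsg.Agent.Omega.NO3b.K0 (min_or NoOv oddGen_oddGen)
open Cfsg.Agent.Omega.NO3S.NotFF (conj_mem le_normalizer_bot)
open scoped commutatorElement

universe u

variable {G : Type u} [Group G] [Finite G]

/-- one noncentral section: `|A : A ∩ Q| |N : C_N(A)| ≤ |Y : C_Y(A)|` -/
theorem noOv_step {X : Subgroup G} (hX : NoOv X) {N Y A : Subgroup G} (hNY : N ≤ Y) (hYX : Y ≤ X)
    (hsq : ∀ y ∈ Y, y ^ 2 = 1) (hY : Y ≤ centralizer (Y : Set G)) (hN : X ≤ normalizer (N : Set G))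
    (hYn : X ≤ normalizer (Y : Set G)) (hE : ¬ ⁅Y, oddGen X⁆ ≤ N) (hA : A ≤ X)
    (hA2 : ∀ a ∈ A, a ^ 2 ∈ o2 X) (hAc : ∀ a ∈ A, ∀ b ∈ A, a * b * a⁻¹ * b⁻¹ ∈ o2 X) :
    (o2 X).relIndex A * (centralizer (A : Set G)).relIndex N ≤ (centralizer (A : Set G)).relIndex Y := by
  set W := centralizer (A : Set G) ⊓ Y with hW
  have hWY : W ≤ Y := inf_le_right
  -- `[N W, A] ≤ N`
  have hNW : ⁅N ⊔ W, A⁆ ≤ N := by
    rw [commutator_le]
    intro x hx a ha
    have h1 : N ≤ normalizer (W : Set G) :=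
      (hNY.trans (hY.trans (centralizer_le hWY))).trans (centralizer_le_normalizer _)
    obtain ⟨n, hn, w, hw, rfl⟩ := NO3b.CTwo.mem_sup_of_le_norm h1 hx
    have h2 := mem_centralizer_iff.1 hw.1 a ha
    have e1 : ⁅n * w, a⁆ = n * (w * a * w⁻¹ * n⁻¹ * a⁻¹) := by
      simp only [commutatorElement_def]; group
    have e2 : w * a * w⁻¹ = a := by rw [← h2, mul_inv_cancel_right]
    rw [e1, e2]
    exact N.mul_mem hn (conj_mem (hA.trans hN) ha (N.inv_mem hn))
  have h1 := hX.gen hNY hYX hsq hY hN hYn hE hA hA2 hAc (sup_le hNY hWY) hNW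
  have h3 : W.relIndex N ≤ W.relIndex (N ⊔ W) :=
    relIndex_le_of_le_right le_sup_left index_ne_zero_of_finite
  have h4 := relIndex_mul_relIndex W (N ⊔ W) Y le_sup_right (sup_le hNY hWY)
  have h5 : W.relIndex Y = (centralizer (A : Set G)).relIndex Y := inf_relIndex_right _ _
  have h6 : W.relIndex N = (centralizer (A : Set G)).relIndex N := by
    rw [← inf_relIndex_right W, ← inf_relIndex_right (centralizer (A : Set G))]
    congr 1
    apply le_antisymm
    · exact le_inf (inf_le_left.trans inf_le_left) inf_le_right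
    · exact le_inf (le_inf inf_le_left (inf_le_right.trans hNY)) inf_le_right
  rw [← h5, ← h4, ← h6, mul_comm]
  exact Nat.mul_le_mul h3 h1

section theend

variable {F : Type*} [Field F] [Finite F] [CharP F 2] {S X V R Rs : Subgroup G} {q r : ℕ}

/-- **THEOREM RED, (1)-(3).** -/
theorem end_of (hX : NoOv X) (h : Cnt S X V R Rs q r) (M : Md F S X R) (hF : Nat.card F = q)
    (hRs : ∀ x, M.σ^[2 ^ (M.ε - 1)] x = x → M.e x ∈ Rs) (hRs' : ∀ g ∈ Rs, ∃ x, M.σ^[2 ^ (M.ε - 1)] x = x ∧ M.e x = g)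
    {A : Subgroup G} (hAe : Elem (cl V X) A) (hAS : A ≤ S)
    (hmax : ∀ W : Subgroup G, W ≤ cl V X →
      (centralizer (A : Set G)).relIndex W ≤ (centralizer (W : Set G)).relIndex A) (hAQ : ¬ A ≤ o2 X) : False := by
  have hl : Lay M.σ M.ε := ⟨M.per, M.card⟩
  obtain ⟨α, β, γ, ξ, a, hn⟩ := h.exists_nums' hAe hAS hmax hAQ
  obtain ⟨i, hi, hc, hnc, hk, hex⟩ := M.exists_i
  have hAX : A ≤ X := hn.le.trans h.syl.1
  have hA2 : ∀ a ∈ A, a ^ 2 ∈ o2 X := fun a ha =>
    h.cent_le hAS ⟨pow_mem ha 2, centralizer_le h.XU (hn.elem.sq a ha)⟩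
  have hAc : ∀ a ∈ A, ∀ b ∈ A, a * b * a⁻¹ * b⁻¹ ∈ o2 X := fun a ha b hb =>
    h.cent_le hAS ⟨A.mul_mem (A.mul_mem (A.mul_mem ha hb) (A.inv_mem ha)) (A.inv_mem hb),
      centralizer_le h.XU (hn.elem.comm a ha b hb)⟩
  have hWX : M.W ≤ X := M.W_le_X
  -- the sections
  have one : ∀ N : Subgroup G, N ≤ M.W → X ≤ normalizer (N : Set G) → ¬ N ≤ centralizer (M.E : Set G) →
      α ≤ (centralizer (A : Set G)).relIndex N := by
    intro N hNW hXN hNE
    have h1 := noOv_step hX (N := ⊥) (Y := N) (A := A) bot_le (hNW.trans hWX) (fun y hy => M.sq y (hNW hy))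
      (hNW.trans (M.comm.trans (centralizer_le hNW))) (le_normalizer_bot X) hXN
      (fun h0 => hNE (commutator_eq_bot_iff_le_centralizer.1 (le_bot_iff.1 h0))) hAX hA2 hAc
    rw [relIndex_bot_right, mul_one, ← hn.hα] at h1
    exact h1
  have stp : ∀ N Y : Subgroup G, N ≤ Y → Y ≤ M.W → X ≤ normalizer (N : Set G) → X ≤ normalizer (Y : Set G) →
      ¬ ⁅Y, M.E⁆ ≤ N → α * (centralizer (A : Set G)).relIndex N ≤ (centralizer (A : Set G)).relIndex Y := by
    intro N Y hNY hYW hXN hXY hYE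
    have h1 := noOv_step hX (N := N) (Y := Y) (A := A) hNY (hYW.trans hWX) (fun y hy => M.sq y (hYW hy))
      (hYW.trans (M.comm.trans (centralizer_le hYW))) hXN hXY hYE hAX hA2 hAc
    rwa [← hn.hα] at h1
  have hq0 := two_le_card_K_one M.σ
  -- `|F| = q = r²`
  have hε : 2 ^ M.ε = 2 ^ (M.ε - 1) * 2 := by
    rw [← pow_succ]
    congr 1
    rcases Nat.eq_zero_or_pos M.ε with h0 | h0
    · rw [h0] at hi
      have : 0 < 2 ^ i := by positivity
      omega
    · omega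
  have hr : r = Nat.card (K M.σ 1) ^ 2 ^ (M.ε - 1) := by
    have h1 : r * r = (Nat.card (K M.σ 1) ^ 2 ^ (M.ε - 1)) * (Nat.card (K M.σ 1) ^ 2 ^ (M.ε - 1)) := by
      rw [← h.qr, ← hF, M.card, hε, pow_mul, pow_two]
    exact Nat.mul_self_inj.1 h1
  have hr4 := h.r4
  by_cases h4 : 3 ≤ Nat.card (K M.σ (2 ^ i))
  · -- two sections
    obtain ⟨N, hNW, hXN, hNE, hWE⟩ := M.two_sections hi hk hex h4
    have h5 : α ^ 2 ≤ ξ := by
      rw [hn.hξ, pow_two]
      exact (Nat.mul_le_mul_left _ (one N hNW hXN hNE)).trans (stp N _ hNW le_rfl hXN M.X_W hWE)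
    by_cases h8 : 8 ≤ r
    · exact h.end2 hn h8 h5
    · -- `r = 4`, `t = m / 2`
      have hcK : Nat.card (K M.σ (2 ^ i)) = Nat.card (K M.σ 1) ^ 2 ^ i := hl.card_K (by omega)
      have hiε : 2 ^ i ≤ 2 ^ (M.ε - 1) := by omega
      have hi1 : i ≤ M.ε - 1 := (Nat.pow_le_pow_iff_right (by norm_num)).1 hiε
      have h6 : i = M.ε - 1 := by
        by_contra hne
        have h7 : i + 1 ≤ M.ε - 1 := by omega
        have h8' : Nat.card (K M.σ 1) ^ 2 ^ (i + 1) ≤ r := by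
          rw [hr]
          exact Nat.pow_le_pow_right (by omega) (Nat.pow_le_pow_right (by norm_num) h7)
        rw [pow_succ, pow_mul, ← hcK] at h8'
        have h9 : 3 ^ 2 ≤ Nat.card (K M.σ (2 ^ i)) ^ 2 := Nat.pow_le_pow_left h4 2
        omega
      have h7 : Rs = M.Rk (2 ^ i) := by
        ext g
        constructor
        · intro hg
          obtain ⟨x, hx, rfl⟩ := hRs' g hg
          rw [M.mem_Rk, mem_K_two_pow, h6]
          exact hx
        · rintro ⟨x, hx, rfl⟩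
          apply hRs
          rw [mem_K_two_pow, h6] at hx
          exact hx
      refine h.end4 hn ?_ h5
      rw [h7]
      exact M.X_Rk hc
  · -- three sections
    have hcK : Nat.card (K M.σ (2 ^ i)) = Nat.card (K M.σ 1) ^ 2 ^ i := hl.card_K (by omega)
    have h5 : Nat.card (K M.σ 1) = 2 ∧ i = 0 := by
      rcases Nat.eq_zero_or_pos i with h0 | h0
      · rw [h0, pow_zero] at h4
        exact ⟨by omega, h0⟩
      · exfalso
        have h6 : 2 ≤ 2 ^ i := by
          calc 2 = 2 ^ 1 := (pow_one 2).symm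
            _ ≤ 2 ^ i := Nat.pow_le_pow_right (by norm_num) h0
        have h7 : Nat.card (K M.σ 1) ^ 2 ≤ Nat.card (K M.σ 1) ^ 2 ^ i := Nat.pow_le_pow_right (by omega) h6
        have h8 : 2 ^ 2 ≤ Nat.card (K M.σ 1) ^ 2 := Nat.pow_le_pow_left hq0 2
        omega
    obtain ⟨h5, rfl⟩ := h5
    have hm : 4 ≤ 2 ^ M.ε := by
      rw [h5] at hr
      have h6 : 2 ^ 2 ≤ 2 ^ 2 ^ (M.ε - 1) := by rw [← hr]; exact hr4
      have h7 := (Nat.pow_le_pow_iff_right (by norm_num)).1 h6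
      omega
    obtain ⟨N, N', hNN, hNW, hXN, hXN', hNE, hNE', hWE⟩ := M.three_sections hm hk hex
    have h6 : α ^ 3 ≤ ξ := by
      rw [hn.hξ]
      calc α ^ 3 = α * (α * α) := by ring
        _ ≤ α * (α * (centralizer (A : Set G)).relIndex N) :=
            Nat.mul_le_mul_left _ (Nat.mul_le_mul_left _ (one N (hNN.trans hNW) hXN hNE))
        _ ≤ α * (centralizer (A : Set G)).relIndex N' :=
            Nat.mul_le_mul_left _ (stp N N' hNN hNW hXN hXN' hNE')
        _ ≤ _ := stp N' _ hNW le_rfl hXN' M.X_W hWE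
    exact h.end3 hn h6

end theend

end Cfsg.Agent.Omega.NO3S.Fld.Red

namespace Cfsg.Agent.Omega.NO3S.Fld.Crd

open Subgroup Cfsg Cfsg.Agent.ZN Cfsg.Agent.ZN.ChoiceBase Cfsg.Agent.ZN.ChoiceSit Cfsg.Agent.Omega.MinPar
open Cfsg.Agent.Omega.Frame Cfsg.Agent.Omega.FrameNOFF
open Cfsg.Agent.MinSimple.MinParabolic (IsMinPar)
open Cfsg.Agent.MinSimple.VModule (oddGen zl_le zc_le_zl)
open Cfsg.Agent.Omega.NO3b.EZero (cl cj_le_cl le_cl cl_le)
open Cfsg.Agent.Omega.NO3b.K0 (NoOv)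
open Cfsg.Agent.Omega.NatPair (ext2)
open Cfsg.Agent.Omega.NO3S.Fld.Red

universe u

variable {G : Type u} [Group G]

section sigma

variable {F : Type*} [Field F] [Finite F] [CharP F 2] {S P V : Subgroup G} (M : Crd F S P V)

/-- `S` acts on `R` through the powers of one field automorphism of order `2^ε`. -/
theorem exists_sigma (hS : IsPGroup 2 S) : ∃ (σ : F ≃+* F) (ε : ℕ), orderOf σ = 2 ^ ε ∧
    (∃ s₀ ∈ S, ∀ x, s₀ * M.e ![x, 0] * s₀⁻¹ = M.e ![σ x, 0]) ∧
    ∀ s ∈ S, ∃ k : ℕ, ∀ x, s * M.e ![x, 0] * s⁻¹ = M.e ![σ^[k] x, 0] := by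
  have hfin : Finite (F ≃+* F) := Finite.of_injective (fun f : F ≃+* F => (f : F → F)) DFunLike.coe_injective
  obtain ⟨s₀, hs₀, hcyc⟩ := M.cyc
  have hact : ∀ s (hs : s ∈ S) x, s * M.e ![x, 0] * s⁻¹ = M.e ![(M.sgHom ⟨s, hs⟩) x, 0] := by
    intro s hs x
    obtain ⟨σ, c, h⟩ := M.exists_act hs
    rw [M.sgHom_eq (s := ⟨s, hs⟩) h, h]
    congr 1
    apply ext2 <;> simp
  set σ := M.sgHom ⟨s₀, hs₀⟩ with hσ
  obtain ⟨n, hn⟩ := hS ⟨s₀, hs₀⟩
  have h1 : σ ^ 2 ^ n = 1 := by rw [hσ, ← map_pow, hn, map_one]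
  obtain ⟨ε, -, hε⟩ := (Nat.dvd_prime_pow Nat.prime_two).1 (orderOf_dvd_of_pow_eq_one h1)
  refine ⟨σ, ε, hε, ⟨s₀, hs₀, hact s₀ hs₀⟩, fun s hs => ?_⟩
  obtain ⟨k, hk⟩ := hcyc s hs
  refine ⟨k, fun x => ?_⟩
  rw [hact s hs, ← Red.coe_pow_eq]
  have h2 : M.sgHom ⟨s, hs⟩ = σ ^ k := by
    have h3 : M.sgHom (⟨s, hs⟩ * (⟨s₀, hs₀⟩ ^ k)⁻¹) = 1 := M.sgHom_eq_one.2 (mem_inf.1 hk).2
    rw [map_mul, map_inv, map_pow, mul_inv_eq_one] at h3
    exact h3
  rw [h2]

end sigma

section red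

variable [Finite G] {S : Sylow 2 G} {P X : Subgroup G} {F : Type*} [Field F] [Finite F] [CharP F 2]

/-- `⟨V^X⟩ ≤ S` -/
theorem cl_le_S (h : Hyp S P) (hSX : (S : Subgroup G) ≤ X) (hXZ : X ≤ CZ (S : Subgroup G)) :
    cl (zl (S : Subgroup G) P) X ≤ (S : Subgroup G) := by
  have hsyl : Syl (S : Subgroup G) X := ⟨hSX, S.isPGroup', fun _ _ hT hST => S.is_maximal' hT hST⟩
  have hUW : cl (zl (S : Subgroup G) P) X ≤ WW (S : Subgroup G) P := cl_le fun x hx => conj_zl_le_WW (hXZ hx)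
  have hUX : cl (zl (S : Subgroup G) P) X ≤ X := cl_le fun x hx => by
    have h1 := cj_mono x (h.V_le_S.trans hSX)
    rwa [cj_eq_of_mem_normalizer (Subgroup.le_normalizer hx)] at h1
  have hUp : IsPGroup 2 (cl (zl (S : Subgroup G) P) X) := fun x =>
    ⟨1, Subtype.ext (by simpa only [_root_.pow_one, _root_.SubmonoidClass.coe_pow, _root_.OneMemClass.coe_one] using h.W_sq x (hUW x.2))⟩
  exact (ChoiceSit.le_o2 hUp hUX (NO3b.EZero.le_normalizer_cl (zl (S : Subgroup G) P) X)).trans (o2_le_syl hsyl)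

/-- **THEOREM RED, (1)-(3)**: `|F| ≥ 16`, for any `A ≤ S`, `A ≰ O₂(X)`, which is an offender on the subgroups of
`⟨V^X⟩`; weak form of the FF-LEMMA. -/
theorem norm_R'' (h : Hyp S P) (M : Crd F (S : Subgroup G) P (zl (S : Subgroup G) P)) (h16 : 16 ≤ Nat.card F)
    (hX : NoOv X) (hmp : IsMinPar (S : Subgroup G) X) (hXZ : X ≤ CZ (S : Subgroup G))
    (hff : cl M.R X ⊓ zc (o2 X) ≤ centralizer (oddGen X : Set G)) {A : Subgroup G} (hAS : A ≤ (S : Subgroup G))
    (hAe : Red.Elem (cl (zl (S : Subgroup G) P) X) A)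
    (hmax : ∀ W : Subgroup G, W ≤ cl (zl (S : Subgroup G) P) X →
      (centralizer (A : Set G)).relIndex W ≤ (centralizer (W : Set G)).relIndex A) (hAQ : ¬ A ≤ o2 X) :
    X ≤ normalizer (M.R : Set G) := by
  by_contra hnR
  have hSX : (S : Subgroup G) ≤ X := hmp.le
  have hsyl : Syl (S : Subgroup G) X := ⟨hSX, S.isPGroup', fun _ _ hT hST => S.is_maximal' hT hST⟩
  have hVS : zl (S : Subgroup G) P ≤ (S : Subgroup G) := h.V_le_S
  have hRV : M.R ≤ zl (S : Subgroup G) P := M.R_le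
  -- `U ≤ W`
  have hUW : cl (zl (S : Subgroup G) P) X ≤ WW (S : Subgroup G) P := by
    refine cl_le fun x hx => ?_
    have h1 := conj_zl_le_WW (S := S) (P := P) (hXZ hx)
    exact h1
  have hUsq : ∀ u ∈ cl (zl (S : Subgroup G) P) X, u ^ 2 = 1 := fun u hu => h.W_sq u (hUW hu)
  have hUcomm : cl (zl (S : Subgroup G) P) X ≤ centralizer (cl (zl (S : Subgroup G) P) X : Set G) := hUW.trans (h.W_comm.trans (centralizer_le hUW))
  have hRU : cl M.R X ≤ cl (zl (S : Subgroup G) P) X := cl_le fun _ hp => (cj_mono _ hRV).trans (cj_le_cl hp)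
  -- `U ≤ S`
  have hUX : cl (zl (S : Subgroup G) P) X ≤ X := cl_le fun x hx => by
    have h1 := cj_mono x (hVS.trans hSX)
    rwa [cj_eq_of_mem_normalizer (Subgroup.le_normalizer hx)] at h1
  have hUp : IsPGroup 2 (cl (zl (S : Subgroup G) P) X) := fun x => ⟨1, Subtype.ext (by simpa only [_root_.pow_one, _root_.SubmonoidClass.coe_pow, _root_.OneMemClass.coe_one] using hUsq x x.2)⟩
  have hUS : cl (zl (S : Subgroup G) P) X ≤ (S : Subgroup G) :=
    (ChoiceSit.le_o2 hUp hUX (NO3b.EZero.le_normalizer_cl (zl (S : Subgroup G) P) X)).trans (o2_le_syl hsyl)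
  -- `S` moves `R` elementwise
  have hne : ¬ (S : Subgroup G) ≤ centralizer (M.R : Set G) := by
    intro h0
    apply hnR
    have h1 : M.R ≤ zc (S : Subgroup G) := by
      intro g hg
      have hgS : g ∈ (S : Subgroup G) := hVS (hRV hg)
      refine subset_closure ⟨⟨hgS, ?_⟩, hUsq g (hRU (le_cl _ _ hg))⟩
      exact le_centralizer_iff.1 h0 hg
    have h2 : X ≤ centralizer (M.R : Set G) := hXZ.trans (centralizer_le h1)
    exact h2.trans (centralizer_le_normalizer _)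
  obtain ⟨σ, ε, hord, ⟨s₀, hs₀, hs₀'⟩, hact⟩ := M.exists_sigma S.isPGroup'
  have hl : Red.Lay σ ε := Red.lay_of hord
  have hε : ε ≠ 0 := by
    rintro rfl
    apply hne
    intro s hs
    rw [mem_centralizer_iff]
    rintro _ ⟨a, rfl⟩
    obtain ⟨k, hk⟩ := hact s hs
    rw [pow_zero, orderOf_eq_one_iff] at hord
    have h1 : ∀ k x, σ^[k] x = x := by
      intro k x
      rw [← Red.coe_pow_eq, hord, one_pow]; rfl
    have h2 := hk a
    rw [h1] at h2
    exact (mul_inv_eq_iff_eq_mul.1 h2).symm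
  -- the involution
  set φ : F ≃+* F := σ ^ 2 ^ (ε - 1) with hφ
  have hφ1 : φ ≠ RingEquiv.refl F := by
    intro h0
    have h1 : σ ^ 2 ^ (ε - 1) = 1 := h0
    have h2 := orderOf_dvd_of_pow_eq_one h1
    rw [hord] at h2
    have h3 := (Nat.pow_dvd_pow_iff_le_right (by norm_num)).1 h2
    omega
  have hφ2 : ∀ x, φ (φ x) = x := by
    intro x
    have h1 : φ * φ = 1 := by
      rw [hφ, ← pow_add, ← two_mul, ← pow_succ', Nat.sub_add_cancel (Nat.pos_of_ne_zero hε), ← hord,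
        pow_orderOf_eq_one]
    exact congrArg (fun τ : F ≃+* F => τ x) h1
  have hline := M.line hφ1 hφ2
  set r := Nat.card {x : F // φ x = x} with hr
  have hq : r * r = Nat.card F := card_fixed hφ1 hφ2
  have hSR : (S : Subgroup G) ≤ normalizer (M.R : Set G) := M.S_R
  have hcnt : Red.Cnt (S : Subgroup G) X (zl (S : Subgroup G) P) M.R (M.Rs φ) (Nat.card F) r :=
    { syl := hsyl
      mp := hmp
      line := hline
      qr := hq.symm
      r4 := by
        by_contra hlt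
        have : r ≤ 3 := by omega
        nlinarith only [h16, hq, hlt]
      sq := hUsq
      comm := hUcomm
      SR := hSR
      nR := hnR }
  let N : Red.Md F (S : Subgroup G) X M.R :=
    { e := fun x => M.e ![x, 0]
      e_add := fun x y => by
        rw [← M.e_add]
        congr 1
        apply ext2 <;> simp
      e_inj := fun x y hxy => by
        have h1 := M.e_inj hxy
        have h2 := congrFun h1 0
        simpa using h2
      mem_iff := fun g => Iff.rfl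
      σ := σ
      ε := ε
      per := hl.per
      card := hl.card
      act := hact
      cent := by
        intro x hx
        have h1 : M.e ![x, 0] ∈ zc (S : Subgroup G) := by
          have hgR : M.e ![x, 0] ∈ M.R := ⟨x, rfl⟩
          have hgS : M.e ![x, 0] ∈ (S : Subgroup G) := hVS (hRV hgR)
          refine subset_closure ⟨⟨hgS, ?_⟩, hUsq _ (hRU (le_cl _ _ hgR))⟩
          refine mem_centralizer_iff.2 fun s hs => ?_
          obtain ⟨k, hk⟩ := hact s hs
          have h2 := hk x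
          have h3 : σ^[k] x = x := Function.iterate_fixed ((Red.mem_K_one σ).1 hx) k
          rw [h3] at h2
          exact mul_inv_eq_iff_eq_mul.1 h2
        exact le_centralizer_iff.1 hXZ h1
      syl := hsyl
      sq := fun u hu => hUsq u (hRU hu)
      comm := hRU.trans (hUcomm.trans (centralizer_le hRU))
      RS := hRV.trans hVS
      ff := hff
      nR := hnR }
  refine Red.end_of hX hcnt N rfl ?_ ?_ hAe hAS hmax hAQ
  · intro x hx
    refine ⟨x, ?_, rfl⟩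
    rw [hφ, Red.coe_pow_eq]
    exact hx
  · rintro g ⟨a, ha, rfl⟩
    refine ⟨a, ?_, rfl⟩
    rw [hφ, Red.coe_pow_eq] at ha
    exact ha

/-- **THEOREM RED, (1)-(3)**: `|F| ≥ 16`, for any `A ≤ S`, `A ≰ O₂(X)`, which is an offender on the subgroups of
`⟨V^X⟩`. -/
theorem norm_R' (h : Hyp S P) (M : Crd F (S : Subgroup G) P (zl (S : Subgroup G) P)) (h16 : 16 ≤ Nat.card F)
    (hX : NoOv X) (hmp : IsMinPar (S : Subgroup G) X) (hXZ : X ≤ CZ (S : Subgroup G))
    (hff : zc (o2 X) ≤ centralizer (oddGen X : Set G)) {A : Subgroup G} (hAS : A ≤ (S : Subgroup G))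
    (hAe : Red.Elem (cl (zl (S : Subgroup G) P) X) A)
    (hmax : ∀ W : Subgroup G, W ≤ cl (zl (S : Subgroup G) P) X →
      (centralizer (A : Set G)).relIndex W ≤ (centralizer (W : Set G)).relIndex A) (hAQ : ¬ A ≤ o2 X) :
    X ≤ normalizer (M.R : Set G) := norm_R'' h M h16 hX hmp hXZ (inf_le_right.trans hff) hAS hAe hmax hAQ

/-- **THEOREM RED, (1)-(3)**: `|F| ≥ 16`. -/
theorem norm_R (h : Hyp S P) (M : Crd F (S : Subgroup G) P (zl (S : Subgroup G) P)) (h16 : 16 ≤ Nat.card F)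
    (hX : NoOv X) (hmp : IsMinPar (S : Subgroup G) X) (hXZ : X ≤ CZ (S : Subgroup G))
    (hff : zc (o2 X) ≤ centralizer (oddGen X : Set G)) (hJ : ¬ jj (S : Subgroup G) ≤ o2 X) :
    X ≤ normalizer (M.R : Set G) := by
  -- a member of `A(S)`
  obtain ⟨A, hA, hAQ⟩ : ∃ A ∈ AA (S : Subgroup G), ¬ A ≤ o2 X := by
    by_contra hcon
    push Not at hcon
    apply hJ
    rw [jj_eq]
    exact sSup_le hcon
  have hAe : Red.El A := ⟨fun a ha => hA.1.2 a ha, fun a ha b hb =>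
    congrArg (fun t : A => (t : G)) (hA.1.1.is_comm.comm ⟨a, ha⟩ ⟨b, hb⟩)⟩
  refine norm_R' h M h16 hX hmp hXZ hff hA.2.1 hAe.elem (fun W hW => ?_) hAQ
  have hUW : cl (zl (S : Subgroup G) P) X ≤ WW (S : Subgroup G) P := cl_le fun x hx => conj_zl_le_WW (hXZ hx)
  have hel : IsElementaryAbelian 2 W :=
    ⟨⟨⟨fun a b => Subtype.ext (mem_centralizer_iff.1 (h.W_comm (hUW (hW b.2))) a (hUW (hW a.2)))⟩⟩,
      fun a ha => h.W_sq a (hUW (hW ha))⟩
  by_cases hc : A ≤ centralizer (W : Set G)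
  · rw [relIndex_eq_one.2 (le_centralizer_iff.1 hc), relIndex_eq_one.2 hc]
  · exact FFThm.relIndex_le_iff.1 (FFThm.off_of_AA hel (hW.trans (cl_le_S h hmp.le hXZ)) hA hc).le

end red

end Cfsg.Agent.Omega.NO3S.Fld.Crd

end

end
end

-- part: Mrg/Omega/NO3S/BetaFF/SupNat
section
prune_inst 0xd00009001122020000000000a0003c428a000102002b000160000a8006c0ada085400720b4001100000203040038004000000050000000000000000001190481002810021000a100200008008084000000000000000000000000000000000000000000000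
set_option linter.all false
open scoped Cfsg.Agent.FastGrp

-- part: Mrg/Omega/NO3S/Fld/UniqB
section
section


/-!
# LEMMA UNIQ over `B` (Fld, (1) of #16714)

`P ∈ P*(S)`, `J(S) ≰ O₂(P)`, `V = V_P` the natural `SL₂(q)`-module, `R = C_V(J(S))`, `|Z|` arbitrary, no mutual pair,
and the FF theorem: every `P' ∈ P*(S)` has `J(S) ≤ O₂(P')` and `P' ≤ N(R)`, or `V_{P'} = V` and `C_{V}(O²(P')) = 1`
(`uniqB`).
-/

set_option autoImplicit false
set_option linter.unusedSectionVars false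
set_option linter.unusedVariables false

namespace Cfsg.Agent.Omega.NO3S.Fld

open Subgroup Cfsg Cfsg.Agent.ZN Cfsg.Agent.ZN.ChoiceBase Cfsg.Agent.Omega.MinPar
open Cfsg.Agent.ZN.ChoiceSit (Syl o2_le_syl)
open Cfsg.Agent.Omega.SQ1.Bau (mem_AA_of_comm zj_le_AA elem_comm elem_sq mem_sup_comm card_sup_comm mem_sup_norm)
open Cfsg.Agent.Omega.SQ1.BauK (V1 mem_V1)
open Cfsg.Agent.PLocal.ElemAbSup Cfsg.Agent.PLocal.ThompsonJ
open Cfsg.Agent.MinSimple.VModule (zc_le zc_le_zl zl_le le_o2 le_normalizer_zl le_normalizer_o2)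
open Cfsg.Agent.Omega.NatPair (ap ap_zero' ap_one' ap_one ap_mul ap_add ap_smul ext2 exists_ap_e ap_inv_ap)
open Cfsg.Agent.Omega.FFThm (NoOver)
open Cfsg.Agent.Omega.FrameFF (cv)
open Cfsg.Agent.Omega.NO3S.OneLine (conj_mem card_mul_relIndex minH exists_fixed zc_elem o2_le card_sup_norm sup_isLoc
  zl_mono)

open scoped commutatorElement

universe u

variable {G : Type u} [Group G]

/-! ### The natural module -/

namespace Crd

variable {F : Type*} [Field F] {S P V : Subgroup G} (M : Crd F S P V)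

/-- an `S`-invariant subgroup of `V` not contained in `R` contains `R` -/
theorem R_le_of {X : Subgroup G} (hXV : X ≤ V) (hX : S ≤ normalizer (X : Set G)) (hn : ¬ X ≤ M.R) : M.R ≤ X := by
  obtain ⟨v, hv, hvR⟩ := SetLike.not_le_iff_exists.1 hn
  obtain ⟨x, rfl⟩ := (M.mem_iff v).1 (hXV hv)
  rw [M.e_mem_R] at hvR
  rintro _ ⟨a, rfl⟩
  obtain ⟨s, hs, h1⟩ := M.full (a / x 1)
  have h2 := mul_mem (conj_mem hX hs hv) (inv_mem hv)
  rw [h1, ← M.e_sub] at h2
  have e : ![x 0 + a / x 1 * x 1, x 1] - x = ![a, 0] := by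
    apply ext2
    · simp only [Pi.sub_apply, Matrix.cons_val_zero]
      rw [div_mul_cancel₀ _ hvR]; ring
    · simp
  rwa [e] at h2

include M in
/-- `P` is irreducible on `V` -/
theorem irr {X : Subgroup G} (hX : P ≤ normalizer (X : Set G)) {v : G} (hv : v ∈ X) (hvV : v ∈ V) (h1 : v ≠ 1) :
    V ≤ X := by
  obtain ⟨x, rfl⟩ := (M.mem_iff v).1 hvV
  have hx : x ≠ 0 := by
    rintro rfl
    exact h1 M.e_zero
  intro w hw
  obtain ⟨y, rfl⟩ := (M.mem_iff w).1 hw
  by_cases hy : y = 0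
  · rw [hy, M.e_zero]; exact one_mem _
  obtain ⟨A, hA⟩ := exists_ap_e hx
  obtain ⟨B, hB⟩ := exists_ap_e hy
  obtain ⟨g, hg, h2⟩ := M.lift (B * A⁻¹)
  have h3 := conj_mem hX hg hv
  rw [h2, ap_mul, ← hA, ap_inv_ap, hB] at h3
  exact h3

/-- `t ∈ S` with `[V, t] ≤ R` centralises `R` -/
theorem mem_centR_of {t : G} (ht : t ∈ S) (h : ∀ v ∈ V, t * v * t⁻¹ * v⁻¹ ∈ M.R) :
    t ∈ centralizer (M.R : Set G) := by
  obtain ⟨σ, c, hs⟩ := M.exists_act ht
  rw [hs.mem_centR]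
  ext a
  have h1 := h _ (M.e_mem ![0, a])
  rw [hs ![0, a], ← M.e_sub, M.e_mem_R] at h1
  simpa [sub_eq_zero] using h1

/-- `[V, t] = R` for `t ∈ B - C(V)` -/
theorem R_le_comm {t : G} (ht : t ∈ S) (htR : t ∈ centralizer (M.R : Set G)) (htV : t ∉ centralizer (V : Set G))
    {E : Subgroup G} (hE : ∀ v ∈ V, t * v * t⁻¹ * v⁻¹ ∈ E) : M.R ≤ E := by
  obtain ⟨c, hs⟩ := M.exists_root ht htR
  have hc : c ≠ 0 := fun h => htV (hs.mem_centV.2 ⟨rfl, h⟩)
  rintro _ ⟨a, rfl⟩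
  have h1 := hE _ (M.e_mem ![0, c⁻¹ * a])
  rw [hs ![0, c⁻¹ * a], ← M.e_sub] at h1
  have e : ![(RingEquiv.refl F) (![0, c⁻¹ * a] 0) + c * (RingEquiv.refl F) (![0, c⁻¹ * a] 1),
      (RingEquiv.refl F) (![0, c⁻¹ * a] 1)] - ![0, c⁻¹ * a] = ![a, 0] := by
    apply ext2
    · simp [mul_inv_cancel_left₀ hc]
    · simp
  rwa [e] at h1

end Crd

/-! ### The step -/

section step

variable [Finite G] {S : Sylow 2 G} {P P' P₁ P₂ L : Subgroup G}

/-- exactness of `A ∈ A(S)` on `V` -/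
theorem Pt.card_le (hG : IsCharacteristicTwoType G) (hP : IsParS (S : Subgroup G) P) (h : Pt (S : Subgroup G) P)
    {A : Subgroup G} (hA : A ∈ AA (S : Subgroup G)) :
    Nat.card A * Nat.card ↥(A ⊓ zl (S : Subgroup G) P) ≤
      Nat.card (zl (S : Subgroup G) P) * Nat.card ↥(A ⊓ o2 P) := by
  have h1 := h.no A (hA.2.1.trans hP.le) hA.1
  have h2 : A ⊓ zl (S : Subgroup G) P ≤ zl (S : Subgroup G) P ⊓ centralizer (A : Set G) := fun x hx =>
    ⟨hx.2, mem_centralizer_iff.2 fun a ha => elem_comm hA.1 a ha x hx.1⟩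
  have h3 : A ⊓ centralizer (zl (S : Subgroup G) P : Set G) ≤ A ⊓ o2 P := by
    refine le_inf inf_le_left ?_
    rw [← IsParS.inf_centralizer S hG hP]
    exact inf_le_inf_right _ hA.2.1
  exact (Nat.mul_le_mul_left _ (Subgroup.card_le_of_le h2)).trans
    (h1.trans (Nat.mul_le_mul_left _ (Subgroup.card_le_of_le h3)))

theorem zl_elem' (hG : IsCharacteristicTwoType G) (hP : IsParS (S : Subgroup G) P) :
    IsElementaryAbelian 2 (zl (S : Subgroup G) P) :=
  isElementaryAbelian_mono (zc_elem (o2 P)) (hP.isLoc.zl_le S hG)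

theorem comm_o2' (hG : IsCharacteristicTwoType G) (hP : IsParS (S : Subgroup G) P) :
    ∀ a ∈ o2 P, ∀ v ∈ zl (S : Subgroup G) P, a * v = v * a := fun a ha v hv =>
  (mem_zc.1 (hP.isLoc.zl_le S hG hv)).2.2 a ha

theorem zl_le_o2' (hG : IsCharacteristicTwoType G) (hP : IsParS (S : Subgroup G) P) :
    zl (S : Subgroup G) P ≤ o2 P := (hP.isLoc.zl_le S hG).trans (zc_le _)

/-- **Replacement.** -/
theorem Pt.replace (hG : IsCharacteristicTwoType G) (hP : IsParS (S : Subgroup G) P) (h : Pt (S : Subgroup G) P)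
    {A : Subgroup G} (hA : A ∈ AA (S : Subgroup G)) : (A ⊓ o2 P) ⊔ zl (S : Subgroup G) P ∈ AA (S : Subgroup G) := by
  have hVQ := zl_le_o2' hG hP
  have hQS := o2_le S hP.toIsPar
  rw [mem_AA_iff]
  refine ⟨isElementaryAbelian_sup (isElementaryAbelian_mono hA.1 inf_le_left) (zl_elem' hG hP)
    fun v hv => mem_centralizer_iff.2 fun a ha => comm_o2' hG hP a ha.2 v hv,
    sup_le (inf_le_right.trans hQS) (hVQ.trans hQS), ?_⟩
  rw [mm_eq hA]
  have h1 := card_sup_comm (A := A ⊓ o2 P) (B := zl (S : Subgroup G) P)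
    fun a ha v hv => comm_o2' hG hP a ha.2 v hv
  have h2 : (A ⊓ o2 P) ⊓ zl (S : Subgroup G) P = A ⊓ zl (S : Subgroup G) P := by
    rw [inf_assoc, inf_eq_right.2 hVQ]
  rw [h2] at h1
  have h3 := h.card_le hG hP hA
  have hp : 0 < Nat.card ↥(A ⊓ zl (S : Subgroup G) P) := Nat.card_pos
  refine Nat.le_of_mul_le_mul_right ?_ hp
  rw [h1, mul_comm (Nat.card ↥(A ⊓ o2 P))]
  exact h3

/-- **The step.** -/
theorem stepB (hG : IsCharacteristicTwoType G) (h₁ : IsParS (S : Subgroup G) P₁) (h₂ : IsParS (S : Subgroup G) P₂)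
    (hp : Pt (S : Subgroup G) P₁) (hL : IsLoc (S : Subgroup G) L) (hP₁ : P₁ ≤ L) (hP₂ : P₂ ≤ L)
    {A : Subgroup G} (hA : A ∈ AA (S : Subgroup G))
    (hAU : ¬ A ≤ centralizer (zl (S : Subgroup G) L : Set G))
    (hmax : ∀ B ∈ AA (S : Subgroup G), ¬ B ≤ centralizer (zl (S : Subgroup G) L : Set G) →
      Nat.card ↥(B ⊓ centralizer (zl (S : Subgroup G) L : Set G)) ≤
        Nat.card ↥(A ⊓ centralizer (zl (S : Subgroup G) L : Set G)))
    (hAQ : ¬ A ≤ o2 P₁) :
    ∃ E : Subgroup G, P₁ ≤ normalizer (E : Set G) ∧ E ≤ zl (S : Subgroup G) P₂ ∧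
      ∀ v ∈ zl (S : Subgroup G) P₂, ∀ t ∈ o2 P₁, t * v * t⁻¹ * v⁻¹ ∈ E := by
  set U := zl (S : Subgroup G) L with hU
  set V₁ := zl (S : Subgroup G) P₁ with hV₁
  set V₂ := zl (S : Subgroup G) P₂ with hV₂
  have hUL : U ≤ zc (o2 L) := hL.zl_le S hG
  have hUe : IsElementaryAbelian 2 U := isElementaryAbelian_mono (zc_elem (o2 L)) hUL
  have hUS : U ≤ (S : Subgroup G) := (hUL.trans (zc_le _)).trans (hL.o2_le S)
  have hV₁U : V₁ ≤ U := zl_mono _ hP₁
  have hV₂U : V₂ ≤ U := zl_mono _ hP₂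
  have hQS := o2_le S h₁.toIsPar
  have hUc : U ≤ centralizer (U : Set G) := fun u hu => mem_centralizer_iff.2 fun w hw => elem_comm hUe w hw u hu
  have hCQ : A ⊓ centralizer (U : Set G) ≤ A ⊓ o2 P₁ := by
    refine le_inf inf_le_left ?_
    rw [← IsParS.inf_centralizer S hG h₁]
    exact inf_le_inf hA.2.1 (centralizer_le hV₁U)
  have hA₁ := hp.replace hG h₁ hA
  -- `V₁ ≰ A`
  have hVA : ¬ V₁ ≤ A := by
    intro hle
    apply hAQ
    rw [← IsParS.inf_centralizer S hG h₁]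
    exact le_inf hA.2.1 fun a ha => mem_centralizer_iff.2 fun v hv => elem_comm hA.1 v (hle hv) a ha
  -- `A₁ ≤ C(U)`
  have hA₁U : (A ⊓ o2 P₁) ⊔ V₁ ≤ centralizer (U : Set G) := by
    by_contra hcon
    have h1 := hmax _ hA₁ hcon
    have h2 : (A ⊓ centralizer (U : Set G)) ⊔ V₁ ≤ ((A ⊓ o2 P₁) ⊔ V₁) ⊓ centralizer (U : Set G) :=
      le_inf (sup_le_sup_right hCQ _) (sup_le inf_le_right (hV₁U.trans hUc))
    have h3 := (Subgroup.card_le_of_le h2).trans h1
    have h4 : A ⊓ centralizer (U : Set G) = (A ⊓ centralizer (U : Set G)) ⊔ V₁ :=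
      Subgroup.eq_of_le_of_card_ge le_sup_left h3
    apply hVA
    have : V₁ ≤ A ⊓ centralizer (U : Set G) := by rw [h4]; exact le_sup_right
    exact this.trans inf_le_left
  have hAQC : A ⊓ o2 P₁ = A ⊓ centralizer (U : Set G) :=
    le_antisymm (le_inf inf_le_left (le_sup_left.trans hA₁U)) hCQ
  -- `U = V₁ (A ∩ U)`
  have hsplit : V₁ ⊔ (A ⊓ U) = U := by
    refine Subgroup.eq_of_le_of_card_ge (sup_le hV₁U inf_le_right) ?_
    have hc1 : ∀ a ∈ A ⊓ o2 P₁, ∀ u ∈ U, a * u = u * a := fun a ha u hu =>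
      (mem_centralizer_iff.1 ((hAQC ▸ ha : a ∈ A ⊓ centralizer (U : Set G))).2 u hu).symm
    have h2 : IsElementaryAbelian 2 ((A ⊓ o2 P₁) ⊔ U : Subgroup G) :=
      isElementaryAbelian_sup (isElementaryAbelian_mono hA.1 inf_le_left) hUe
        fun u hu => mem_centralizer_iff.2 fun a ha => hc1 a ha u hu
    have h3 := hA.2.2 _ h2 (sup_le (inf_le_right.trans hQS) hUS)
    have h4 := card_sup_comm hc1
    have h5 : (A ⊓ o2 P₁) ⊓ U = A ⊓ U := by
      apply le_antisymm (inf_le_inf_right _ inf_le_left)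
      rintro x ⟨hx, hx'⟩
      have h6 : x ∈ A ⊓ o2 P₁ := by rw [hAQC]; exact ⟨hx, hUc hx'⟩
      exact ⟨h6, hx'⟩
    rw [h5] at h4
    have h6 := card_sup_comm (A := V₁) (B := A ⊓ U) fun v hv a ha => elem_comm hUe v (hV₁U hv) a ha.2
    have h7 : V₁ ⊓ (A ⊓ U) = A ⊓ V₁ := by
      apply le_antisymm
      · rintro x ⟨hx, hx', -⟩
        exact ⟨hx', hx⟩
      · rintro x ⟨hx, hx'⟩
        exact ⟨hx', hx, hV₁U hx'⟩
    rw [h7] at h6
    have h8 := hp.card_le hG h₁ hA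
    rw [← hV₁] at h8
    have hpA : 0 < Nat.card ↥(A ⊓ o2 P₁) := Nat.card_pos
    have hpZ : 0 < Nat.card ↥(A ⊓ V₁) := Nat.card_pos
    -- `|A ∩ Q₁| |U| |A ∩ V₁| ≤ |V₁| |A ∩ Q₁| |A ∩ U|`
    have h9 : Nat.card ↥(A ⊓ o2 P₁) * (Nat.card U * Nat.card ↥(A ⊓ V₁)) ≤
        Nat.card ↥(A ⊓ o2 P₁) * (Nat.card V₁ * Nat.card ↥(A ⊓ U)) := by
      calc Nat.card ↥(A ⊓ o2 P₁) * (Nat.card U * Nat.card ↥(A ⊓ V₁))
          = Nat.card ↥(A ⊓ o2 P₁) * Nat.card U * Nat.card ↥(A ⊓ V₁) := by ring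
        _ = Nat.card ↥((A ⊓ o2 P₁) ⊔ U) * Nat.card ↥(A ⊓ U) * Nat.card ↥(A ⊓ V₁) := by rw [← h4]
        _ ≤ Nat.card A * Nat.card ↥(A ⊓ U) * Nat.card ↥(A ⊓ V₁) :=
            Nat.mul_le_mul_right _ (Nat.mul_le_mul_right _ h3)
        _ = Nat.card A * Nat.card ↥(A ⊓ V₁) * Nat.card ↥(A ⊓ U) := by ring
        _ ≤ Nat.card V₁ * Nat.card ↥(A ⊓ o2 P₁) * Nat.card ↥(A ⊓ U) := Nat.mul_le_mul_right _ h8
        _ = _ := by ring
    have h10 := Nat.le_of_mul_le_mul_left h9 hpA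
    rw [← h6] at h10
    exact Nat.le_of_mul_le_mul_right h10 hpZ
  -- the elements of `P₁` which centralise `U / V₁`
  have hLU : L ≤ normalizer (U : Set G) := le_normalizer_zl _ _
  have hP₁U : P₁ ≤ normalizer (U : Set G) := hP₁.trans hLU
  have hP₁V : P₁ ≤ normalizer (V₁ : Set G) := le_normalizer_zl _ _
  let N : Subgroup G :=
    { carrier := {g | g ∈ P₁ ∧ ∀ u ∈ U, g * u * g⁻¹ * u⁻¹ ∈ V₁}
      mul_mem' := by
        rintro a b ⟨ha, ha'⟩ ⟨hb, hb'⟩
        refine ⟨mul_mem ha hb, fun y hy => ?_⟩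
        have e : a * b * y * (a * b)⁻¹ * y⁻¹ =
          (a * (b * y * b⁻¹ * y⁻¹) * a⁻¹) * (a * y * a⁻¹ * y⁻¹) := by group
        rw [e]
        exact mul_mem (conj_mem hP₁V ha (hb' y hy)) (ha' y hy)
      one_mem' := ⟨one_mem _, fun y _ => by simp⟩
      inv_mem' := by
        rintro a ⟨ha, ha'⟩
        refine ⟨inv_mem ha, fun y hy => ?_⟩
        have e : a⁻¹ * y * a⁻¹⁻¹ * y⁻¹ = a⁻¹ * (a * y * a⁻¹ * y⁻¹)⁻¹ * a⁻¹⁻¹ := by group
        rw [e]
        exact conj_mem hP₁V (inv_mem ha) (inv_mem (ha' y hy)) }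
  have hNP : N ≤ P₁ := fun g hg => hg.1
  have hPN : P₁ ≤ normalizer (N : Set G) := by
    intro p hp
    apply mem_normalizer_of_cj_le
    intro x hx
    rw [mem_cj] at hx
    obtain ⟨hx1, hx2⟩ := hx
    refine ⟨?_, fun u hu => ?_⟩
    · have := mul_mem (mul_mem hp hx1) (inv_mem hp)
      have e : p * (p⁻¹ * x * p) * p⁻¹ = x := by group
      rwa [e] at this
    · have h1 : p⁻¹ * u * p ∈ U := by
        have := conj_mem hP₁U (inv_mem hp) hu
        rwa [inv_inv] at this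
      have h2 := conj_mem hP₁V hp (hx2 _ h1)
      have e : p * (p⁻¹ * x * p * (p⁻¹ * u * p) * (p⁻¹ * x * p)⁻¹ * (p⁻¹ * u * p)⁻¹) * p⁻¹ =
          x * u * x⁻¹ * u⁻¹ := by group
      rwa [e] at h2
  have hAN : A ≤ N := by
    intro a ha
    refine ⟨h₁.le (hA.2.1 ha), fun u hu => ?_⟩
    rw [← hsplit] at hu
    obtain ⟨v, hv, w, hw, rfl⟩ := mem_sup_comm (A := V₁) (B := A ⊓ U)
      (fun v hv a ha => elem_comm hUe v (hV₁U hv) a ha.2) hu
    have e1 : a * w = w * a := elem_comm hA.1 a ha w hw.1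
    have e2 : a * (v * w) * a⁻¹ * (v * w)⁻¹ = a * v * a⁻¹ * v⁻¹ := by
      have e3 : a * (v * w) * a⁻¹ * (v * w)⁻¹ = a * v * (w * a⁻¹ * w⁻¹) * v⁻¹ := by group
      have e4 : w * a⁻¹ * w⁻¹ = a⁻¹ := by
        have : w * a⁻¹ = a⁻¹ * w := by
          calc w * a⁻¹ = a⁻¹ * (a * w) * a⁻¹ := by group
            _ = a⁻¹ * w := by rw [e1]; group
        rw [this]; group
      rw [e3, e4]
    rw [e2]
    exact mul_mem (conj_mem hP₁V (h₁.le (hA.2.1 ha)) hv) (inv_mem hv)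
  have hNS : N ⊔ (S : Subgroup G) = P₁ := by
    rcases h₁.toIsPar.sup_eq_or_inf_le S hNP hPN with h | h
    · exact h
    · exact absurd ((le_inf hA.2.1 hAN).trans h) hAQ
  -- `W = V₁ V₂` is normal in `P₁`
  have hW : P₁ ≤ normalizer ((V₁ ⊔ V₂ : Subgroup G) : Set G) := by
    rw [← hNS]
    refine sup_le (fun g hg => ?_) (fun s hs => ?_)
    · apply mem_normalizer_of_cj_le
      rw [cj, Subgroup.map_sup]
      refine sup_le ?_ ?_
      · exact (cj_eq_of_mem_normalizer (hP₁V hg.1)).le.trans le_sup_left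
      · rintro _ ⟨w, hw, rfl⟩
        simp only [MulEquiv.toMonoidHom_eq_coe, MonoidHom.coe_coe, MulAut.conj_apply]
        have h1 := hg.2 w (hV₂U hw)
        have h2 := mul_mem (mem_sup_left h1 : _ ∈ V₁ ⊔ V₂) (mem_sup_right hw : w ∈ V₁ ⊔ V₂)
        rwa [inv_mul_cancel_right] at h2
    · apply mem_normalizer_of_cj_le
      rw [cj, Subgroup.map_sup]
      exact sup_le_sup (cj_eq_of_mem_normalizer (hP₁V (h₁.le hs))).le
        (cj_eq_of_mem_normalizer ((le_normalizer_zl _ _ : P₂ ≤ normalizer (V₂ : Set G)) (h₂.le hs))).le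
  -- `E = [V₁ V₂, Q₁]`
  refine ⟨⁅V₁ ⊔ V₂, o2 P₁⁆, ?_, ?_, ?_⟩
  · intro p hp
    apply mem_normalizer_of_cj_le
    rw [cj, Subgroup.map_commutator]
    exact commutator_mono (cj_eq_of_mem_normalizer (hW hp)).le
      (cj_eq_of_mem_normalizer (le_normalizer_o2 P₁ hp)).le
  · rw [commutator_le]
    intro w hw t ht
    obtain ⟨v, hv, w', hw', rfl⟩ := mem_sup_comm (A := V₁) (B := V₂)
      (fun v hv w hw => elem_comm hUe v (hV₁U hv) w (hV₂U hw)) hw
    have h1 : t * v = v * t := comm_o2' hG h₁ t ht v hv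
    have h2 : t * w' * t⁻¹ * w'⁻¹ ∈ V₂ :=
      mul_mem (conj_mem (le_normalizer_zl _ _ : P₂ ≤ normalizer (V₂ : Set G)) (h₂.le (hQS ht)) hw') (inv_mem hw')
    have h3 : v * (t * w' * t⁻¹ * w'⁻¹) = t * w' * t⁻¹ * w'⁻¹ * v := elem_comm hUe v (hV₁U hv) _ (hV₂U h2)
    rw [commutatorElement_def]
    have e : v * w' * t * (v * w')⁻¹ * t⁻¹ = (v * (t * w' * t⁻¹ * w'⁻¹) * v⁻¹)⁻¹ := by
      have e1 : (v * (t * w' * t⁻¹ * w'⁻¹) * v⁻¹)⁻¹ = v * w' * t * w'⁻¹ * (v * t)⁻¹ := by group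
      rw [e1, ← h1]
      group
    rw [e, h3, mul_inv_cancel_right]
    exact inv_mem h2
  · intro v hv t ht
    have h2 : ⁅v, t⁆ ∈ ⁅V₁ ⊔ V₂, o2 P₁⁆ := commutator_mem_commutator (mem_sup_right hv) ht
    have h3 := inv_mem h2
    rwa [commutatorElement_inv, commutatorElement_def] at h3

/-- a member of `A(S)` not centralising `V_L`, `L = ⟨P, P'⟩`, extremal and outside `O₂(P) ∩ O₂(P')` -/
theorem exists_maxA (hG : IsCharacteristicTwoType G) (h : IsParS (S : Subgroup G) P)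
    (h' : IsParS (S : Subgroup G) P') (hL : IsLoc (S : Subgroup G) (P ⊔ P'))
    (hne : ∃ A ∈ AA (S : Subgroup G), ¬ A ≤ centralizer (zl (S : Subgroup G) (P ⊔ P') : Set G)) :
    ∃ A ∈ AA (S : Subgroup G), ¬ A ≤ centralizer (zl (S : Subgroup G) (P ⊔ P') : Set G) ∧
      (∀ B ∈ AA (S : Subgroup G), ¬ B ≤ centralizer (zl (S : Subgroup G) (P ⊔ P') : Set G) →
        Nat.card ↥(B ⊓ centralizer (zl (S : Subgroup G) (P ⊔ P') : Set G)) ≤
          Nat.card ↥(A ⊓ centralizer (zl (S : Subgroup G) (P ⊔ P') : Set G))) ∧ ¬ A ≤ o2 P ⊓ o2 P' := by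
  set L := P ⊔ P' with hLdef
  set U := zl (S : Subgroup G) L with hU
  let s : Set (Subgroup G) := {B | B ∈ AA (S : Subgroup G) ∧ ¬ B ≤ centralizer (U : Set G)}
  have hne : s.Nonempty := by
    obtain ⟨A, hA, hA'⟩ := hne
    exact ⟨A, hA, hA'⟩
  obtain ⟨B, hB, hmax⟩ := Set.exists_max_image s (fun B => Nat.card ↥(B ⊓ centralizer (U : Set G)))
    (Set.toFinite s) hne
  have hLU : L ≤ normalizer (U : Set G) := le_normalizer_zl _ _
  obtain ⟨l, hl, hlS, hlQ⟩ : ∃ l ∈ L, cj l B ≤ (S : Subgroup G) ∧ ¬ cj l B ≤ o2 P ⊓ o2 P' := by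
    by_contra hcon
    push Not at hcon
    have key : ∀ l ∈ L, ∀ m ∈ L, cj m B ≤ (S : Subgroup G) → cj (l * m) B ≤ (S : Subgroup G) := by
      intro l hl
      rw [hLdef, sup_eq_closure] at hl
      induction hl using closure_induction with
      | mem x hx =>
        intro m hm h1
        have h2 := hcon m hm h1
        rw [← cj_cj]
        rcases hx with hx | hx
        · have h3 := cj_mono x (h2.trans inf_le_left)
          rw [cj_eq_of_mem_normalizer (le_normalizer_o2 P hx)] at h3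
          exact h3.trans (o2_le S h.toIsPar)
        · have h3 := cj_mono x (h2.trans inf_le_right)
          rw [cj_eq_of_mem_normalizer (le_normalizer_o2 P' hx)] at h3
          exact h3.trans (o2_le S h'.toIsPar)
      | one => intro m hm h1; rwa [one_mul]
      | mul x y hx hy ihx ihy =>
        intro m hm h1
        rw [mul_assoc]
        refine ihx (y * m) (mul_mem ?_ hm) (ihy m hm h1)
        rwa [hLdef, sup_eq_closure]
      | inv x hx ih =>
        intro m hm h1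
        obtain ⟨n, hn⟩ : ∃ n : ℕ, x⁻¹ = x ^ n := by
          refine ⟨orderOf x - 1, ?_⟩
          rw [inv_eq_iff_mul_eq_one, ← pow_succ', Nat.sub_add_cancel (orderOf_pos x), pow_orderOf_eq_one]
        rw [hn]
        have hxL : x ∈ L := by rwa [hLdef, sup_eq_closure]
        clear hn
        induction n with
        | zero => rwa [pow_zero, one_mul]
        | succ n ihn =>
          rw [pow_succ', mul_assoc]
          exact ih _ (mul_mem (pow_mem hxL n) hm) ihn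
    let N : Subgroup G := ⨆ l : L, cj (l : G) B
    have hNS : N ≤ (S : Subgroup G) := iSup_le fun l => by
      have := key l l.2 1 (one_mem _) (by rw [cj_one]; exact hB.1.2.1)
      rwa [mul_one] at this
    have hLN : L ≤ normalizer (N : Set G) := by
      intro g hg
      apply mem_normalizer_of_cj_le
      show Subgroup.map _ (⨆ l : L, cj (l : G) B) ≤ _
      rw [Subgroup.map_iSup]
      refine iSup_le fun l => ?_
      have h1 : Subgroup.map (MulAut.conj g).toMonoidHom (cj (l : G) B) = cj (g * l) B := cj_cj g l B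
      rw [h1]
      exact le_iSup (fun l : L => cj (l : G) B) ⟨g * l, mul_mem hg l.2⟩
    have hN2 : N ≤ o2 L := le_o2 (hNS.trans hL.le) (S.isPGroup'.to_le hNS) hLN
    apply hB.2
    have h1 : B ≤ N := by
      have := le_iSup (fun l : L => cj (l : G) B) 1
      rwa [OneMemClass.coe_one, cj_one] at this
    refine (h1.trans hN2).trans fun x hx => mem_centralizer_iff.2 fun u hu => ?_
    exact ((mem_zc.1 (hL.zl_le S hG hu)).2.2 x hx).symm
  have hUl : cj l U = U := cj_eq_of_mem_normalizer (hLU hl)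
  have hcUl : cj l (centralizer (U : Set G)) = centralizer (U : Set G) := by rw [cj_centralizer, hUl]
  refine ⟨cj l B, ?_, ?_, ?_, hlQ⟩
  · rw [mem_AA_iff]
    refine ⟨isElementaryAbelian_cj l hB.1.1, hlS, ?_⟩
    rw [card_cj, mm_eq hB.1]
  · intro h1
    apply hB.2
    rw [cj_le_iff] at h1
    have h2 : cj l⁻¹ (centralizer (U : Set G)) = centralizer (U : Set G) := by
      nth_rewrite 1 [← hcUl]
      rw [cj_inv_cj]
    rwa [h2] at h1
  · intro C hC hC'
    have h1 := hmax C ⟨hC, hC'⟩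
    have h2 : cj l B ⊓ centralizer (U : Set G) = cj l (B ⊓ centralizer (U : Set G)) := by
      rw [cj_inf, hcUl]
    rw [h2, card_cj]
    exact h1

end step

/-! ### The main theorem -/

section main

variable [Finite G] {S : Sylow 2 G} {P P' : Subgroup G} {F : Type*} [Field F] [Finite F] [CharP F 2]

theorem uniqB_core (hG : IsCharacteristicTwoType G) (hF : ¬ FF (S : Subgroup G)) (hP : IsParS (S : Subgroup G) P)
    (M : Crd F (S : Subgroup G) P (zl (S : Subgroup G) P)) (hb : BR (S : Subgroup G) P M.B M.R)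
    (hzc : zc (o2 P) = zl (S : Subgroup G) P) (hzj : zj (S : Subgroup G) = M.R) (hJ : ¬ jj (S : Subgroup G) ≤ o2 P)
    (hp : Pt (S : Subgroup G) P) (hP' : IsParS (S : Subgroup G) P') (hJ' : ¬ jj (S : Subgroup G) ≤ o2 P')
    (hp' : Pt (S : Subgroup G) P') :
    zl (S : Subgroup G) P' = zl (S : Subgroup G) P ∧ cv (S : Subgroup G) P' = ⊥ := by
  set V' := zl (S : Subgroup G) P' with hV'
  set Q' := o2 P' with hQ'
  have hQS : (o2 P) ≤ (S : Subgroup G) := o2_le S hP.toIsPar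
  have hQS' : Q' ≤ (S : Subgroup G) := o2_le S hP'.toIsPar
  have hcardR : Nat.card M.R = Nat.card F := M.card_R
  have hcardV : Nat.card (zl (S : Subgroup G) P) = Nat.card F * Nat.card F := M.card_V
  have hF0 : 0 < Nat.card F := Nat.card_pos
  have hidx : (o2 P).relIndex M.B = Nat.card F := by
    have h1 := hb.card
    rw [hcardV, hcardR] at h1
    exact (Nat.eq_of_mul_eq_mul_left hF0 h1).symm
  have hcQ : ∀ t ∈ (S : Subgroup G), t ∈ centralizer ((zl (S : Subgroup G) P) : Set G) → t ∈ (o2 P) := fun t ht ht' => by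
    rw [← IsParS.inf_centralizer S hG hP]
    exact ⟨ht, ht'⟩
  have hcQ' : ∀ t ∈ (S : Subgroup G), t ∈ centralizer (V' : Set G) → t ∈ Q' := fun t ht ht' => by
    rw [hQ', ← IsParS.inf_centralizer S hG hP']
    exact ⟨ht, ht'⟩
  have hV'e : IsElementaryAbelian 2 V' := zl_elem' hG hP'
  have hV'S : V' ≤ (S : Subgroup G) := (zl_le_o2' hG hP').trans hQS'
  have hVS : (zl (S : Subgroup G) P) ≤ (S : Subgroup G) := (zl_le_o2' hG hP).trans hQS
  -- `C_V'(J(S)) ≤ R`
  have hV1 : V1 (S : Subgroup G) V' ≤ M.R := by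
    intro x hx
    obtain ⟨hx1, hx2⟩ := mem_V1.1 hx
    have hsq := elem_sq hV'e x hx1
    rw [← hzj]
    exact mem_zj.2 ⟨mem_jj_of_comm (hV'S hx1) hsq hx2, hsq, hx2⟩
  have hV1c : Nat.card (V1 (S : Subgroup G) V') ≤ Nat.card F := by
    rw [← hcardR]; exact Subgroup.card_le_of_le hV1
  have hsq : Nat.card V' * Nat.card (cv (S : Subgroup G) P') ≤ Nat.card (zl (S : Subgroup G) P) := by
    refine hp'.sq.trans ?_
    rw [hcardV, pow_two]
    exact Nat.mul_le_mul hV1c hV1c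
  have hjR : jj (S : Subgroup G) ≤ centralizer (M.R : Set G) := by
    rw [jj_eq]
    exact sSup_le fun A hA => (hb.AB A hA).trans inf_le_right
  -- `V' ≤ (zl (S : Subgroup G) P)`
  have key1 : V' ≤ (zl (S : Subgroup G) P) → V' = (zl (S : Subgroup G) P) := by
    intro hle
    obtain ⟨A, hA, hAQ⟩ := exists_AA' hJ
    have hn : ¬ V' ≤ M.R := by
      intro h1
      apply hJ'
      intro x hx
      exact hcQ' x (jj_le _ hx) (centralizer_le h1 (hjR hx))
    have hRV' : M.R ≤ V' := M.R_le_of hle (hP'.le.trans (le_normalizer_zl _ _)) hn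
    have h1 : A ⊓ Q' ≤ A ⊓ (o2 P) := by
      rintro a ⟨ha, haQ'⟩
      refine ⟨ha, ?_⟩
      by_contra haQ
      apply hn
      intro v hv
      exact hb.fix a (hb.AB A hA ha) haQ v (hle hv) (comm_o2' hG hP' a haQ' v hv)
    have h2 := hp'.card_le hG hP' hA
    have h3 := BR.card_eq hG hb hA hAQ
    rw [hidx] at h3
    have h4 : Nat.card F ≤ Nat.card ↥(A ⊓ V') := by
      rw [← hcardR]
      exact Subgroup.card_le_of_le (le_inf (BR.R_le_AA hG hb hA) hRV')
    have hpA : 0 < Nat.card ↥(A ⊓ (o2 P)) := Nat.card_pos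
    have h5 : Nat.card ↥(A ⊓ (o2 P)) * (Nat.card F * Nat.card F) ≤ Nat.card ↥(A ⊓ (o2 P)) * Nat.card V' := by
      calc Nat.card ↥(A ⊓ (o2 P)) * (Nat.card F * Nat.card F)
          = Nat.card A * Nat.card F := by rw [h3]; ring
        _ ≤ Nat.card A * Nat.card ↥(A ⊓ V') := Nat.mul_le_mul_left _ h4
        _ ≤ Nat.card V' * Nat.card ↥(A ⊓ Q') := h2
        _ ≤ Nat.card V' * Nat.card ↥(A ⊓ (o2 P)) := Nat.mul_le_mul_left _ (Subgroup.card_le_of_le h1)
        _ = _ := by ring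
    have h6 := Nat.le_of_mul_le_mul_left h5 hpA
    refine Subgroup.eq_of_le_of_card_ge hle ?_
    rwa [hcardV]
  -- `(zl (S : Subgroup G) P) ≤ V'`
  have key2 : (zl (S : Subgroup G) P) ≤ V' → V' = (zl (S : Subgroup G) P) := by
    intro hle
    refine (Subgroup.eq_of_le_of_card_ge hle ?_).symm
    exact (Nat.le_mul_of_pos_right _ Nat.card_pos).trans hsq
  have main : V' = (zl (S : Subgroup G) P) := by
    have hL := sup_isLoc hG hF hP hP'
    obtain ⟨A₀, hA₀, hA₀Q⟩ := exists_AA' hJ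
    obtain ⟨A, hA, hAU, hmax, hAQ⟩ := exists_maxA hG hP hP' hL ⟨A₀, hA₀, fun h1 => hA₀Q fun a ha =>
      hcQ a (hA₀.2.1 ha) (centralizer_le (zl_mono _ le_sup_left) (h1 ha))⟩
    rcases not_and_or.1 (fun hc : A ≤ (o2 P) ∧ A ≤ Q' => hAQ (le_inf hc.1 hc.2)) with hAQ | hAQ
    · obtain ⟨E, hE1, hE2, hE3⟩ := stepB hG hP hP' hp hL le_sup_left le_sup_right hA hAU hmax hAQ
      by_cases hc : ∀ v ∈ V', ∀ t ∈ (o2 P), t * v = v * t
      · apply key1
        intro v hv
        rw [← hzc]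
        have hvQ : v ∈ (o2 P) := hP.isLoc.char2 S hG
          ⟨hP.le (hV'S hv), mem_centralizer_iff.2 fun t ht => hc v hv t ht⟩
        exact mem_zc.2 ⟨hvQ, elem_sq hV'e v hv, fun t ht => hc v hv t ht⟩
      · push Not at hc
        obtain ⟨v, hv, t, ht, hne⟩ := hc
        have hEne : ¬ E ≤ ⊥ := by
          intro h1
          have h2 := h1 (hE3 v hv t ht)
          rw [mem_bot, mul_inv_eq_one] at h2
          apply hne
          calc t * v = t * v * t⁻¹ * t := by group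
            _ = v * t := by rw [h2]
        have hSE : (S : Subgroup G) ≤ normalizer (E : Set G) := hP.le.trans hE1
        obtain ⟨y, hy, hy1, hyS⟩ := exists_fixed (M := (⊥ : Subgroup G)) S.isPGroup' (hE2.trans hV'S) hSE hEne
        have hyz : y ∈ zc (S : Subgroup G) := by
          refine mem_zc.2 ⟨hV'S (hE2 hy), elem_sq hV'e y (hE2 hy), fun s hs => ?_⟩
          have h2 := hyS s hs
          rw [mem_bot, mul_inv_eq_one] at h2
          calc s * y = s * y * s⁻¹ * s := by group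
            _ = y * s := by rw [h2]
        exact key2 ((M.irr hE1 hy (zc_le_zl _ _ hyz) hy1).trans hE2)
    · obtain ⟨E, hE1, hE2, hE3⟩ := stepB hG hP' hP hp' hL le_sup_right le_sup_left hA hAU hmax hAQ
      by_cases hc : ∀ v ∈ (zl (S : Subgroup G) P), ∀ t ∈ Q', t * v = v * t
      · have hQQ : Q' ≤ (o2 P) := fun t ht =>
          hcQ t (hQS' ht) (mem_centralizer_iff.2 fun v hv => (hc v hv t ht).symm)
        have h1 : Q'.relIndex M.B ≤ Nat.card F := by
          refine (relIndex_le_of_le_right (?_ : M.B ≤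
            (S : Subgroup G) ⊓ centralizer (V1 (S : Subgroup G) V' : Set G)) ?_).trans (hp'.cen.trans hV1c)
          · exact le_inf inf_le_left (inf_le_right.trans (centralizer_le hV1))
          · rw [relIndex]
            exact Subgroup.index_ne_zero_of_finite
        have h2 := relIndex_mul_relIndex Q' (o2 P) M.B hQQ hb.QB
        rw [hidx] at h2
        rw [← h2] at h1
        have h3 : Q'.relIndex (o2 P) ≤ 1 := by
          have : Q'.relIndex (o2 P) * Nat.card F ≤ 1 * Nat.card F := by rwa [one_mul]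
          exact Nat.le_of_mul_le_mul_right this hF0
        have h4 : Q'.relIndex (o2 P) ≠ 0 := by
          rw [relIndex]
          exact Subgroup.index_ne_zero_of_finite
        have h5 : (o2 P) ≤ Q' := relIndex_eq_one.1 (by omega)
        have h6 : Q' = (o2 P) := le_antisymm hQQ h5
        apply key1
        have h7 := hP'.isLoc.zl_le S hG
        rw [← hQ', h6, hzc] at h7
        exact h7
      · push Not at hc
        obtain ⟨v, hv, t, ht, hne⟩ := hc
        have hSE : (S : Subgroup G) ≤ normalizer (E : Set G) := hP'.le.trans hE1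
        have hRE : M.R ≤ E := by
          by_cases hER : E ≤ M.R
          · have h1 : t ∈ centralizer (M.R : Set G) := M.mem_centR_of (hQS' ht) fun w hw => hER (hE3 w hw t ht)
            refine M.R_le_comm (hQS' ht) h1 (fun h2 => hne ?_) fun w hw => hE3 w hw t ht
            exact (mem_centralizer_iff.1 h2 v hv).symm
          · exact M.R_le_of hE2 hSE hER
        apply key1
        refine le_trans (zl_le ?_ hE1) hE2
        rw [M.zc_eq hVS (zc_le_zl _ _)]
        exact inf_le_left.trans hRE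
  refine ⟨main, ?_⟩
  rw [main] at hsq
  have h1 : Nat.card (zl (S : Subgroup G) P) * Nat.card (cv (S : Subgroup G) P') ≤ Nat.card (zl (S : Subgroup G) P) * 1 := by rwa [mul_one]
  have h2 := Nat.le_of_mul_le_mul_left h1 Nat.card_pos
  exact Subgroup.card_le_one_iff_eq_bot _ |>.1 h2

/-- **LEMMA UNIQ over `B`.** -/
theorem uniqB (hFF : FFThm.Stmt.{u}) (h : HypJ S P) (M : Crd F (S : Subgroup G) P (zl (S : Subgroup G) P))
    (hP' : IsParS (S : Subgroup G) P') :
    (jj (S : Subgroup G) ≤ o2 P' ∧ P' ≤ normalizer (M.R : Set G)) ∨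
      (zl (S : Subgroup G) P' = zl (S : Subgroup G) P ∧ cv (S : Subgroup G) P' = ⊥ ∧
        zc (S : Subgroup G) ⊓ centralizer (P' : Set G) = ⊥) := by
  obtain ⟨hb, hzc, hzj⟩ := HypJ.facts M h
  have hG := h.ctx.char2
  by_cases hJ' : jj (S : Subgroup G) ≤ o2 P'
  · left
    refine ⟨hJ', ?_⟩
    have e := jj_eq_of_jj_le hJ' (o2_le S hP'.toIsPar)
    have e2 : zj (o2 P') = zj (S : Subgroup G) := by
      ext x
      rw [mem_zj, mem_zj, e]
    rw [← hzj, ← e2]
    exact (le_normalizer_o2 P').trans (normalizer_le_of_cj (F := zj) zj_cj (o2 P'))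
  · right
    obtain ⟨h1, h2⟩ := uniqB_core hG h.noFF h.star M hb hzc hzj h.jnot (pt_of hFF hG h.star h.jnot) hP' hJ'
      (pt_of hFF hG hP' hJ')
    refine ⟨h1, h2, ?_⟩
    rw [eq_bot_iff, ← h2]
    exact inf_le_inf (zc_le_zl _ _) (centralizer_le (Cfsg.Agent.MinSimple.VModule.oddGen_le P'))

end main

end Cfsg.Agent.Omega.NO3S.Fld

end

section


/-!
# BETA-FF (#19171 (4)): full support, the consequences

`P ∈ P*(S)`, `V = V_P`, `A ≤ S` an offender on `V`, `v ∈ V`, `R = {[a, v] : a ∈ A} ≥ Ω₁(Z(S))`.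

* `FSR S P A R v`, `fsr_of` : `C_V(O²(P)) = 1`, `C_V(A) = R`, `C_A(v) = C_A(V)`, `|V| = |R|²`, `|R| = |A : C_A(V)|`,
  `|C_S(R) : O₂(P)| ≤ |R|`;
* `fs_nat` : if moreover `C_V(a) = C_V(A)` for all `a ∈ A - C(V)` and `|R| > 2`, then `V` is one natural `SL₂(F)`-module
  with line `R` (`Crd F S P V`, `M.R = R`).
-/

set_option autoImplicit false
set_option linter.unusedSectionVars false
set_option linter.unusedVariables false

namespace Cfsg.Agent.Omega.NO3S.BetaFF

open Subgroup Cfsg Cfsg.Agent.ZN Cfsg.Agent.ZN.ChoiceBase Cfsg.Agent.Omega.MinPar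
open Cfsg.Agent.ZN.ChoiceSit (Syl o2_le_syl)
open Cfsg.Agent.Omega.SQ1
open Cfsg.Agent.MinSimple.VModule (zc_le zc_le_zl zl_le le_o2 le_normalizer_zl le_normalizer_o2 oddGen oddGen_le)
open Cfsg.Agent.Omega.SQ1.FFOne Cfsg.Agent.Omega.SQ1.FFSym Cfsg.Agent.Lib.SL2Mat
open Cfsg.Agent.Omega.FFThm (NatK SymK NatKM SymKM OffM NoOverM ActsSym ActsSL StmtM)
open Cfsg.Agent.Omega.FrameFF (cv)
open Cfsg.Agent.Omega.NatPair (ap ap_zero' ap_one' ap_one ap_mul ap_add ap_smul ext2 ap_inv_ap ap_inj)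
open Cfsg.Agent.Omega.NO3S.OneLine (NatC natC_of card_of_hom syl_of minH card_mul_relIndex cyc_T' disj' sy_of
  exists_fixed)
open Cfsg.Agent.Omega.NO3S.Fld

universe u

variable {G : Type u} [Group G] [Finite G] {S : Sylow 2 G} {P : Subgroup G}

/-- The conclusions of LEMMA FS for `R = [v, A] ≥ Ω₁(Z(S))`. -/
structure FSR (S P A R : Subgroup G) (v : G) : Prop where
  cv : cv S P = ⊥
  RV : R ≤ zl S P
  AR : A ≤ centralizer (R : Set G)
  cR : zl S P ⊓ centralizer (A : Set G) = R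
  ker : ∀ a ∈ A, a * v = v * a → a ∈ centralizer (zl S P : Set G)
  cardR : Nat.card R = (centralizer (zl S P : Set G)).relIndex A
  cardV : Nat.card (zl S P) = Nat.card R * Nat.card R
  cen : (o2 P).relIndex (S ⊓ centralizer (R : Set G)) ≤ Nat.card R
  no : NoOverM (zl S P) P

/-- `Ω₁(Z(S))` is not contained in `C_V(O²(P))`. -/
theorem not_zc_le_cv (hP : IsParS (S : Subgroup G) P) : ¬ zc (S : Subgroup G) ≤ cv (S : Subgroup G) P := by
  intro h
  apply hP.not_zc
  have h1 : oddGen P ⊔ (S : Subgroup G) = P :=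
    NoFF.LinesPlug.oddGen_sup hP.le (MinSimple.Basic.not_dvd_relIndex S hP.le)
  refine le_trans ?_ (centralizer_le_normalizer _)
  rw [← h1]
  refine sup_le ?_ (FrameNOFF.le_CZ S)
  rw [Subgroup.le_centralizer_iff]
  exact h.trans inf_le_right

theorem fsr_of (hFF : StmtM.{u}) (hG : IsCharacteristicTwoType G) (hP : IsParS (S : Subgroup G) P)
    {A R : Subgroup G} (hA : A ≤ (S : Subgroup G)) (hoff : OffM (zl (S : Subgroup G) P) A) {v : G}
    (hv : v ∈ zl (S : Subgroup G) P) (hR : ∀ z ∈ R, ∃ a ∈ A, a * v * a⁻¹ * v⁻¹ = z)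
    (hR' : ∀ a ∈ A, a * v * a⁻¹ * v⁻¹ ∈ R) (hZ : zc (S : Subgroup G) ≤ R) :
    FSR (S : Subgroup G) P A R v := by
  obtain ⟨z, hz, hzD⟩ := SetLike.not_le_iff_exists.1 (not_zc_le_cv hP)
  obtain ⟨a₀, ha₀, haz⟩ := hR z (hZ hz)
  obtain ⟨V1, f⟩ := exists_fs hFF hG hP hA hoff hv hz hzD ha₀ haz
  have hVS : zl (S : Subgroup G) P ≤ (S : Subgroup G) := (zl_le_o2' hG hP).trans (NO3S.OneLine.o2_le S hP.toIsPar)
  have hVe := zl_elem' hG hP
  have hcvn : P ≤ normalizer (cv (S : Subgroup G) P : Set G) := by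
    intro g hg
    apply mem_normalizer_of_cj_le
    intro y hy
    rw [mem_cj] at hy
    have h1 := SQ1.FFOf.cv_norm g hg _ hy
    have e : g * (g⁻¹ * y * g) * g⁻¹ = y := by group
    rwa [e] at h1
  -- `D = 1`
  have hcv : cv (S : Subgroup G) P = ⊥ := by
    by_contra hne
    obtain ⟨y, hy, hy1, hyS⟩ := exists_fixed (M := (⊥ : Subgroup G)) (N := cv (S : Subgroup G) P) S.isPGroup'
      (SQ1.FFOf.cv_le.trans hVS) (hP.le.trans hcvn) fun h1 => hne (le_bot_iff.1 h1)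
    have hyz : y ∈ zc (S : Subgroup G) := by
      refine mem_zc.2 ⟨hVS (SQ1.FFOf.cv_le hy), Bau.elem_sq hVe y (SQ1.FFOf.cv_le hy), fun s hs => ?_⟩
      have h2 := hyS s hs
      rw [mem_bot, mul_inv_eq_one] at h2
      calc s * y = s * y * s⁻¹ * s := by group
        _ = y * s := by rw [h2]
    obtain ⟨a, ha, hay⟩ := hR y (hZ hyz)
    have h3 := f.ker a ha (by rw [hay]; exact hy)
    apply hy1
    rw [mem_bot, ← hay, ← mem_centralizer_iff.1 h3 v hv, mul_inv_cancel_right, mul_inv_cancel]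
  -- `V₁ = R`
  have hRV1 : R ≤ V1 := by
    intro y hy
    obtain ⟨a, ha, rfl⟩ := hR y hy
    exact f.mem a ha
  have hV1R : V1 ≤ R := by
    intro w hw
    obtain ⟨a, ha, h1⟩ := f.dec w hw
    rw [hcv, mem_bot] at h1
    rw [eq_inv_of_mul_eq_one_left h1]
    exact inv_mem (hR' a ha)
  obtain rfl : V1 = R := le_antisymm hV1R hRV1
  have hcR : zl (S : Subgroup G) P ⊓ centralizer (A : Set G) = V1 :=
    le_antisymm f.cV (le_inf f.le (Subgroup.le_centralizer_iff.1 f.cA))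
  have hker : ∀ a ∈ A, a * v = v * a → a ∈ centralizer (zl (S : Subgroup G) P : Set G) := by
    intro a ha h1
    refine f.ker a ha ?_
    rw [h1, mul_inv_cancel_right, mul_inv_cancel]
    exact one_mem _
  -- `a ↦ [a, v]` is a homomorphism
  have hc : Nat.card A = Nat.card ↥(A ⊓ centralizer (zl (S : Subgroup G) P : Set G)) * Nat.card V1 := by
    have hcomm : ∀ x ∈ V1, ∀ y ∈ V1, x * y = y * x := fun x hx y hy => Bau.elem_comm hVe x (f.le hx) y (f.le hy)
    let _ : CommGroup V1 := { (inferInstance : Group V1) with mul_comm := fun a b => Subtype.ext (hcomm a a.2 b b.2) }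
    let φ : A →* V1 := MonoidHom.mk' (fun a => ⟨(a : G) * v * (a : G)⁻¹ * v⁻¹, f.mem a a.2⟩) (by
      intro a b
      apply Subtype.ext
      show (a : G) * b * v * ((a : G) * b)⁻¹ * v⁻¹ = (a : G) * v * (a : G)⁻¹ * v⁻¹ * ((b : G) * v * (b : G)⁻¹ * v⁻¹)
      rw [comm_mul (mem_centralizer_iff.1 (f.cA a.2) _ (f.mem b b.2)).symm]
      exact hcomm _ (f.mem b b.2) _ (f.mem a a.2))
    have hsurj : Function.Surjective φ := by
      rintro ⟨y, hy⟩
      obtain ⟨a, ha, h1⟩ := hR y hy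
      exact ⟨⟨a, ha⟩, Subtype.ext h1⟩
    have h1 : Nat.card φ.ker * Nat.card φ.range = Nat.card A := by
      rw [← Subgroup.index_ker, Subgroup.card_mul_index]
    have h2 : Nat.card φ.range = Nat.card V1 := by
      rw [MonoidHom.range_eq_top.2 hsurj, Subgroup.card_top]
    have h3 : Nat.card φ.ker = Nat.card ↥(A ⊓ centralizer (zl (S : Subgroup G) P : Set G)) := by
      have h4 : ∀ a : A, a ∈ φ.ker ↔ (a : G) ∈ centralizer (zl (S : Subgroup G) P : Set G) := by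
        intro a
        rw [MonoidHom.mem_ker]
        constructor
        · intro h5
          have h6 : (a : G) * v * (a : G)⁻¹ * v⁻¹ = 1 := congrArg Subtype.val h5
          exact f.ker a a.2 (by rw [h6]; exact one_mem _)
        · intro h5
          apply Subtype.ext
          show (a : G) * v * (a : G)⁻¹ * v⁻¹ = 1
          rw [← mem_centralizer_iff.1 h5 v hv, mul_inv_cancel_right, mul_inv_cancel]
      exact Nat.card_congr ⟨fun a => ⟨a.1.1, a.1.2, (h4 a.1).1 a.2⟩, fun a => ⟨⟨a.1, a.2.1⟩, (h4 _).2 a.2.2⟩,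
        fun _ => rfl, fun _ => rfl⟩
    rw [← h1, h2, h3]
  have hp : 0 < Nat.card ↥(A ⊓ centralizer (zl (S : Subgroup G) P : Set G)) := Nat.card_pos
  have hp1 : 0 < Nat.card V1 := Nat.card_pos
  refine ⟨hcv, f.le, f.cA, hcR, hker, ?_, ?_, ?_, f.no⟩
  · have h1 := card_mul_relIndex (inf_le_left : A ⊓ centralizer (zl (S : Subgroup G) P : Set G) ≤ A)
    rw [inf_relIndex_left, hc] at h1
    exact (Nat.eq_of_mul_eq_mul_left hp h1).symm
  · have h1 := hoff.le
    have h2 := f.no A (hA.trans hP.le) hoff.toElemM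
    rw [hcR] at h1 h2
    have h3 := le_antisymm h1 h2
    rw [hc] at h3
    have h4 : Nat.card ↥(A ⊓ centralizer (zl (S : Subgroup G) P : Set G)) * Nat.card (zl (S : Subgroup G) P) =
        Nat.card ↥(A ⊓ centralizer (zl (S : Subgroup G) P : Set G)) * (Nat.card V1 * Nat.card V1) := by
      rw [mul_comm, h3]; ring
    exact Nat.eq_of_mul_eq_mul_left hp h4
  · have h1 := f.cen
    rwa [hcv, Subgroup.card_bot, mul_one] at h1

end Cfsg.Agent.Omega.NO3S.BetaFF

end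
end

-- part: Mrg/Omega/NO3S/BetaFF/SupNat
section
/-!
# BETA-FF (#19171 (4)(b)): one natural block

`P ∈ P*(S)`, `V = V_P`, `A ≤ S` an offender on `V`, `v ∈ V`, `R = {[a, v] : a ∈ A} ≥ Ω₁(Z(S))`, `|R| > 2`.

`fs_nat` : if `C_V(a) ≤ R` for all `a ∈ A - C(V)`, then `V` is one natural `SL₂(F)`-module with line `R`.
-/

set_option autoImplicit false
set_option linter.unusedSectionVars false
set_option linter.unusedVariables false

namespace Cfsg.Agent.Omega.NO3S.BetaFF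

open Subgroup Cfsg Cfsg.Agent.ZN Cfsg.Agent.ZN.ChoiceBase Cfsg.Agent.Omega.MinPar
open Cfsg.Agent.ZN.ChoiceSit (Syl o2_le_syl)
open Cfsg.Agent.Omega.SQ1
open Cfsg.Agent.MinSimple.VModule (zc_le zc_le_zl zl_le le_o2 le_normalizer_zl le_normalizer_o2 oddGen oddGen_le)
open Cfsg.Agent.Omega.SQ1.FFOne Cfsg.Agent.Omega.SQ1.FFSym Cfsg.Agent.Lib.SL2Mat
open Cfsg.Agent.Omega.FFThm (NatK SymK NatKM SymKM OffM NoOverM ActsSym ActsSL StmtM)
open Cfsg.Agent.Omega.FrameFF (cv NatOver)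
open Cfsg.Agent.Omega.NatPair (ap ap_zero' ap_one' ap_one ap_mul ap_add ap_smul ext2 ap_inv_ap ap_inj)
open Cfsg.Agent.Omega.NO3S.OneLine (NatC natC_of card_of_hom syl_of minH card_mul_relIndex cyc_T' disj' sy_of
  exists_fixed)
open Cfsg.Agent.Omega.NO3S.Fld

universe u

variable {G : Type u} [Group G] [Finite G] {S : Sylow 2 G} {P : Subgroup G}

/-- the data of the even-subset case -/
theorem sym_out (hG : IsCharacteristicTwoType G) (hP : IsParS (S : Subgroup G) P) {k m : ℕ} (hk : 0 < k) (hm2 : 2 ≤ m)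
    (M : SymKM (S : Subgroup G) P (zl (S : Subgroup G) P) (cv (S : Subgroup G) P) k m)
    {A : Subgroup G} (hA : A ≤ (S : Subgroup G)) (hoff : OffM (zl (S : Subgroup G) P) A) :
    SyC (S : Subgroup G) P (zl (S : Subgroup G) P) (cv (S : Subgroup G) P) (0 : Fin (2 ^ m + 1)) M.e ∧
      SymA (S : Subgroup G) P (zl (S : Subgroup G) P) (cv (S : Subgroup G) P) A M.e := by
  have hm := minH hG hP
  have hTH := hm.syl.1
  have hs := sy_of hm M.toSymK hk (by omega) SQ1.FFOf.cv_le SQ1.FFOf.cv_norm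
  have hswap : ∀ b ∈ A,
      ∃ τ, Gd P (zl (S : Subgroup G) P) (cv (S : Subgroup G) P) M.e τ b ∧ ∀ i x, τ i x ≠ x →
        TrM (S : Subgroup G) P (zl (S : Subgroup G) P) (cv (S : Subgroup G) P) M.e i x (τ i x) ∧
        ∃ b' ∈ A, Gd P (zl (S : Subgroup G) P) (cv (S : Subgroup G) P) M.e
          (Function.update 1 i (Equiv.swap x (τ i x))) b' := by
    intro b hb
    obtain ⟨hD, h2⟩ := M.offM A hA hoff
    obtain ⟨τ, hτ, hτ'⟩ := h2 b hb
    refine ⟨τ, ⟨hTH (hA hb), hD b hb, hτ⟩, fun i x hx => ?_⟩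
    obtain ⟨-, b', hb', hb''⟩ := hτ' i x hx
    exact ⟨⟨Ne.symm hx, b', hA hb', hTH (hA hb'), hD b' hb', hb''⟩, b', hb', hTH (hA hb'), hD b' hb', hb''⟩
  refine ⟨⟨hs, hTH, hm.syl.2.1, M.trans, M.fix0, fun j x y hx hy => cyc_T' hm M.toSymK hs (by omega) j hx hy, ?_⟩,
    hA, hswap⟩
  by_contra hcon
  push Not at hcon
  apply hoff.ne
  intro a ha
  obtain ⟨τ, hτ, hτ'⟩ := hswap a ha
  have h1 : τ = 1 := by
    funext i
    ext x
    by_contra hx
    have hx' : τ i x ≠ x := fun e => hx (by rw [e]; rfl)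
    exact hcon i x (τ i x) (hτ' i x hx').1
  subst h1
  refine mem_centralizer_iff.2 fun v hv => ?_
  have h2 := hs.gd_sim hτ hs.gd_one v hv
  symm
  calc a * v = (a * v * a⁻¹) * a := by group
    _ = v * a := by rw [h2]; group

/-- **One natural block.** -/
theorem fs_nat (hFF : StmtM.{u}) (hG : IsCharacteristicTwoType G) (hP : IsParS (S : Subgroup G) P)
    {A R : Subgroup G} (hA : A ≤ (S : Subgroup G)) (hoff : OffM (zl (S : Subgroup G) P) A) {v : G}
    (hv : v ∈ zl (S : Subgroup G) P) (hR : ∀ z ∈ R, ∃ a ∈ A, a * v * a⁻¹ * v⁻¹ = z)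
    (hR' : ∀ a ∈ A, a * v * a⁻¹ * v⁻¹ ∈ R) (hZ : zc (S : Subgroup G) ≤ R)
    (hone : ∀ a ∈ A, a ∉ centralizer (zl (S : Subgroup G) P : Set G) →
      ∀ w ∈ zl (S : Subgroup G) P, a * w = w * a → w ∈ R)
    (h2 : 2 < Nat.card R) :
    ∃ (F : Type) (_ : Field F) (_ : Finite F) (_ : CharP F 2)
      (M : Crd F (S : Subgroup G) P (zl (S : Subgroup G) P)), M.R = R := by
  have f := fsr_of hFF hG hP hA hoff hv hR hR' hZ
  obtain ⟨z, hz, hzD⟩ := SetLike.not_le_iff_exists.1 (not_zc_le_cv hP)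
  obtain ⟨a₀, ha₀, haz⟩ := hR z (hZ hz)
  have hzT : ∀ t ∈ (S : Subgroup G), t * z = z * t := (mem_zc.1 hz).2.2
  have hsyl := syl_of hP
  have hch := hP.isLoc.char2 S hG
  have hm := minH hG hP
  have hcV := (IsParS.inf_centralizer S hG hP).le
  have hTH := hm.syl.1
  have hcomm1 : ∀ {a w : G}, a * w * a⁻¹ * w⁻¹ = 1 → a * w = w * a := by
    intro a w h
    rwa [mul_inv_eq_one, mul_inv_eq_iff_eq_mul] at h
  have hcomm2 : ∀ {a w : G}, a * w = w * a → a * w * a⁻¹ * w⁻¹ = 1 := by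
    intro a w h
    rw [h]; group
  have hRA : ∀ w ∈ R, ∀ a ∈ A, a * w = w * a := by
    intro w hw a ha
    exact (mem_centralizer_iff.1 (f.AR ha) w hw).symm
  obtain ⟨-, hcon⟩ := hFF G (S : Subgroup G) P hsyl hP.toIsMinPar hch ⟨A, hA.trans hsyl.1, hoff⟩
  rcases hcon with ⟨F, _, _, _, k, hk, ⟨M⟩⟩ | ⟨k, m, hk, hm2, ⟨M⟩⟩
  · let N := natC_of hm hk M.toNatK
    obtain ⟨I, h4, h5⟩ := M.offM A hA hoff
    obtain ⟨hv1, hI⟩ := nat_fs N hm hcV hA hoff h4 h5 hv hzD hzT ha₀ haz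
    have hk1 : k = 1 := by
      by_contra hk1
      have hk2 : 1 < k := by omega
      let i0 : Fin k := ⟨0, hk⟩
      let i1 : Fin k := ⟨1, hk2⟩
      have hne : i1 ≠ i0 := by
        intro h
        have := congrArg Fin.val h
        simp [i0, i1] at this
      classical
      obtain ⟨a, ha, h6⟩ := h5 (Pi.single i0 1) fun i hi => absurd (hI i) hi
      obtain ⟨a₁, ha₁, h7⟩ := h5 (fun _ => 1) fun i hi => absurd (hI i) hi
      have haV : a ∉ centralizer (zl (S : Subgroup G) P : Set G) := by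
        intro hc
        have h8 := e_comm N hv (hTH (hA ha)) h6 i0
        rw [hcomm2 (mem_centralizer_iff.1 hc v hv).symm, N.map_one, Pi.single_eq_same, one_mul] at h8
        exact hv1 i0 (congrFun h8 0).symm
      obtain ⟨w, hw, ew⟩ := N.nat.surj (Pi.single i1 ![0, 1])
      have h9 : N.nat.e (a * w * a⁻¹ * w⁻¹) = 0 := by
        funext i
        rw [e_comm N hw (hTH (hA ha)) h6 i, ew]
        by_cases hi : i = i0
        · subst hi
          rw [Pi.single_eq_of_ne hne.symm]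
          refine ext2 ?_ rfl
          simp
        · rw [Pi.single_eq_of_ne hi]
          refine ext2 ?_ rfl
          simp
      have hwa : a * w * a⁻¹ * w⁻¹ ∈ zl (S : Subgroup G) P :=
        mul_mem (N.Vn a (hTH (hA ha)) w hw) (inv_mem hw)
      have h10 := (N.nat.ker _ hwa).1 h9
      rw [f.cv, mem_bot] at h10
      have h11 := hone a ha haV w hw (hcomm1 h10)
      have h12 := e_comm N hw (hTH (hA ha₁)) h7 i1
      rw [hcomm2 (hRA w h11 a₁ ha₁), N.map_one, ew, Pi.single_eq_same] at h12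
      have h13 := congrFun h12 0
      simp at h13
    subst hk1
    obtain ⟨no⟩ : Nonempty (NatOver F P (zl (S : Subgroup G) P) ⊥) := by
      rw [← f.cv]
      exact ⟨M.toNatK.natOver⟩
    have hSne : (S : Subgroup G) ≠ ⊥ := by
      intro h
      have h1 : R ≤ ⊥ := by
        rw [← h]
        exact f.RV.trans ((zl_le_o2' hG hP).trans (NO3S.OneLine.o2_le S hP.toIsPar))
      rw [le_bot_iff.1 h1, Subgroup.card_bot] at h2
      omega
    obtain ⟨M''⟩ := exists_crd_of hG hSne hP (NatP.ofNatOver (le_normalizer_zl _ _) no)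
    refine ⟨F, _, inferInstance, inferInstance, M'', ?_⟩
    have h1 : A ≤ centralizer (M''.R : Set G) := M''.off_le_centR hA hoff.toElemM hoff.le
    have h3 : M''.R ≤ R := by
      rw [← f.cR]
      exact le_inf M''.R_le (Subgroup.le_centralizer_iff.1 h1)
    refine Subgroup.eq_of_le_of_card_ge h3 ?_
    have h4 := M''.card_V_R
    rw [f.cardV] at h4
    exact (Nat.mul_self_inj.1 h4).le
  · exfalso
    obtain ⟨h, hSA⟩ := sym_out hG hP hk hm2 M hA hoff
    obtain ⟨ι, J, X, Y, _, c⟩ := h.exists_ch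
    obtain ⟨⟨τ₀, hτ₀, hτ₀'⟩, hvl, hbl⟩ := hSA.full h c hv hzD hzT ha₀ haz
    -- two pairs
    obtain ⟨l, l', hll⟩ : ∃ l l' : ι, l ≠ l' := by
      by_contra hcon
      push Not at hcon
      have hι : Nat.card ι ≤ 1 := by
        have : Subsingleton ι := ⟨hcon⟩
        exact Finite.card_le_one_iff_subsingleton.2 this
      have h1 := symCardM h c
      rw [symCard1M h c, f.cv, Subgroup.card_bot, one_mul, f.cardV] at h1
      have h3 : Nat.card (ι → ZMod 2) ≤ 2 := by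
        rw [Nat.card_fun, Nat.card_zmod]
        calc 2 ^ Nat.card ι ≤ 2 ^ 1 := Nat.pow_le_pow_right (by norm_num) hι
          _ = 2 := by norm_num
      have h4 : 3 * 3 ≤ Nat.card R * Nat.card R := Nat.mul_le_mul h2 h2
      have h5 : Nat.card (ι → ZMod 2) * Nat.card (ι → ZMod 2) ≤ 2 * 2 := Nat.mul_le_mul h3 h3
      omega
    obtain ⟨b, hb, hbg⟩ := hbl l
    obtain ⟨b', hb', hbg'⟩ := hbl l'
    have hbV : b ∉ centralizer (zl (S : Subgroup G) P : Set G) := by
      intro hc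
      have h1 := e_comm_sym h hv hbg.mem hbg.act (J l) (X l)
      rw [Function.update_self, Equiv.swap_apply_left, hcomm2 (mem_centralizer_iff.1 hc v hv).symm, h.e_one,
        hvl l] at h1
      exact zero_ne_one h1
    set w := u P (zl (S : Subgroup G) P) (cv (S : Subgroup G) P) M.e (J l') (X l') 0 with hw
    have hwV : w ∈ zl (S : Subgroup G) P := h.u_mem _ _ _
    have hew := h.e_u (J l') (X l') 0
    rw [← hw] at hew
    have hX' : ∀ i, X i ≠ 0 := fun i => (c.tr i).ne h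
    have hY' : ∀ i, Y i ≠ 0 := fun i => (c.tr i).symm.ne h
    have hXl : M.e w (J l) (X l) = 0 := by
      rw [hew, Pi.add_apply, Pi.add_apply, E_ne fun h1 => hX' l h1.2, add_zero]
      by_cases hJ : J l = J l'
      · obtain ⟨a1, a2, a3, a4⟩ := c.cases h hll hJ
        exact E_ne fun h1 => a1 h1.2
      · exact E_ne fun h1 => hJ h1.1
    have hYl : M.e w (J l) (Y l) = 0 := by
      rw [hew, Pi.add_apply, Pi.add_apply, E_ne fun h1 => hY' l h1.2, add_zero]
      by_cases hJ : J l = J l'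
      · obtain ⟨a1, a2, a3, a4⟩ := c.cases h hll hJ
        exact E_ne fun h1 => a3 h1.2
      · exact E_ne fun h1 => hJ h1.1
    have hXl' : M.e w (J l') (X l') = 1 := by
      rw [hew, Pi.add_apply, Pi.add_apply, E_self, E_ne fun h1 => hX' l' h1.2, add_zero]
    have hYl' : M.e w (J l') (Y l') = 0 := by
      rw [hew, Pi.add_apply, Pi.add_apply, E_ne fun h1 => (c.tr l').1 h1.2.symm, E_ne fun h1 => hY' l' h1.2, add_zero]
    have hbw : b * w * b⁻¹ * w⁻¹ ∈ cv (S : Subgroup G) P := by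
      refine mem_D_ofM h c (mul_mem (h.Vn b hbg.mem w hwV) (inv_mem hwV)) fun i => ?_
      have h3 := e_comm_sym h hwV hbg.mem hbg.act (J i) (X i)
      have h4 := e_comm_sym h hwV hbg.mem hbg.act (J i) (Y i)
      by_cases hi : i = l
      · subst hi
        rw [Function.update_self, Equiv.swap_apply_left, hXl, hYl, add_zero] at h3
        rw [Function.update_self, Equiv.swap_apply_right, hXl, hYl, add_zero] at h4
        exact ⟨h4, h3⟩
      · have h5 : (Function.update 1 (J l) (Equiv.swap (X l) (Y l)) : Fin k → Equiv.Perm (Fin (2 ^ m + 1))) (J i)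
            (X i) = X i ∧ (Function.update 1 (J l) (Equiv.swap (X l) (Y l)) : Fin k → Equiv.Perm (Fin (2 ^ m + 1)))
            (J i) (Y i) = Y i := by
          by_cases hJ : J i = J l
          · obtain ⟨a1, a2, a3, a4⟩ := c.cases h hi hJ
            rw [hJ, Function.update_self]
            exact ⟨Equiv.swap_apply_of_ne_of_ne a1 a2, Equiv.swap_apply_of_ne_of_ne a3 a4⟩
          · rw [Function.update_of_ne hJ]
            exact ⟨rfl, rfl⟩
        rw [h5.1, CharTwo.add_self_eq_zero] at h3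
        rw [h5.2, CharTwo.add_self_eq_zero] at h4
        exact ⟨h3, h4⟩
    rw [f.cv, mem_bot] at hbw
    have hwR := hone b hb hbV w hwV (hcomm1 hbw)
    have h1 := e_comm_sym h hwV hbg'.mem hbg'.act (J l') (X l')
    rw [Function.update_self, Equiv.swap_apply_left, hcomm2 (hRA w hwR b' hb'), h.e_one, hXl', hYl', add_zero] at h1
    exact zero_ne_one h1

end Cfsg.Agent.Omega.NO3S.BetaFF
end
end
end
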